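import Mathlib
import Cfsg.Agent.H8.Dickson

/-! Binary actions: generalities. -/

set_option autoImplicit false

namespace Cfsg.Agent.H3

open MulAction
open Cfsg.Agent.H8

/-- Binary action. -/
def IsBin (G Ω : Type*) [Group G] [MulAction G Ω] : Prop :=
  ∀ (n : ℕ) (I J : Fin n → Ω), 2 ≤ n →
    (∀ i j : Fin n, i ≠ j → ∃ g : G, g • I i = J i ∧ g • I j = J j) → ∃ g : G, ∀ i, g • I i = J i

/-- One point extension form of the binary property. -/
def StarAct (G Ω : Type*) [Group G] [MulAction G Ω] : Prop :=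
  ∀ (S : Finset Ω) (γ γ' : Ω), (∃ g : G, g • γ = γ') →
    (∀ α ∈ S, ∃ g : G, g • α = α ∧ g • γ = γ') → ∃ g : G, (∀ α ∈ S, g • α = α) ∧ g • γ = γ'

section
variable {G Ω : Type*} [Group G] [MulAction G Ω]

theorem IsBin.fin (h : IsBin G Ω) {ι : Type*} [Finite ι] (I J : ι → Ω)
    (hp : ∀ i j, ∃ g : G, g • I i = J i ∧ g • I j = J j) : ∃ g : G, ∀ i, g • I i = J i := by
  obtain ⟨n, ⟨e⟩⟩ := Finite.exists_equiv_fin ι
  by_cases hn : 2 ≤ n
  · obtain ⟨g, hg⟩ := h n (I ∘ e.symm) (J ∘ e.symm) hn (fun i j _ => hp _ _)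
    exact ⟨g, fun i => by simpa using hg (e i)⟩
  · rcases isEmpty_or_nonempty ι with hι | ⟨⟨i⟩⟩
    · exact ⟨1, fun i => hι.elim i⟩
    · obtain ⟨g, hg, -⟩ := hp i i
      refine ⟨g, fun j => ?_⟩
      have : j = i := e.injective (Fin.ext (by have := (e i).2; have := (e j).2; omega))
      rwa [this]

theorem IsBin.set (h : IsBin G Ω) {S : Set Ω} (hS : S.Finite) (f : Ω → Ω)
    (hp : ∀ x ∈ S, ∀ y ∈ S, ∃ g : G, g • x = f x ∧ g • y = f y) : ∃ g : G, ∀ x ∈ S, g • x = f x := by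
  have := hS.to_subtype
  obtain ⟨g, hg⟩ := h.fin (ι := S) (fun x => x) (fun x => f x) (fun x y => hp x x.2 y y.2)
  exact ⟨g, fun x hx => hg ⟨x, hx⟩⟩

theorem IsBin.star (h : IsBin G Ω) : StarAct G Ω := by
  intro S γ γ' h0 h1
  obtain ⟨g, hg⟩ := h.fin (ι := Option S) (fun o => o.elim γ (fun x => x))
    (fun o => o.elim γ' (fun x => x)) (by
      rintro (_ | x) (_ | y)
      · obtain ⟨g, hg⟩ := h0; exact ⟨g, hg, hg⟩
      · obtain ⟨g, hg, hg'⟩ := h1 y y.2; exact ⟨g, hg', hg⟩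
      · exact h1 x x.2
      · exact ⟨1, one_smul _ _, one_smul _ _⟩)
  exact ⟨g, fun α hα => hg (some ⟨α, hα⟩), hg none⟩

theorem StarAct.isBin (h : StarAct G Ω) : IsBin G Ω := by
  classical
  have key : ∀ (n : ℕ) (I J : Fin n → Ω),
      (∀ i j : Fin n, ∃ g : G, g • I i = J i ∧ g • I j = J j) → ∃ g : G, ∀ i, g • I i = J i := by
    intro n
    induction n with
    | zero => exact fun I J _ => ⟨1, fun i => i.elim0⟩
    | succ n ih =>
      intro I J hp
      obtain ⟨g₀, hg₀⟩ := ih (fun i => I i.succ) (fun i => J i.succ) (fun i j => hp _ _)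
      obtain ⟨g, hg, hg'⟩ := h (Finset.univ.image (fun i : Fin n => I i.succ)) (I 0) (g₀⁻¹ • J 0)
        (by obtain ⟨g, hg, -⟩ := hp 0 0; exact ⟨g₀⁻¹ * g, by rw [mul_smul, hg]⟩) (by
          intro α hα
          obtain ⟨i, -, rfl⟩ := Finset.mem_image.mp hα
          obtain ⟨g, h1, h2⟩ := hp i.succ 0
          exact ⟨g₀⁻¹ * g, by rw [mul_smul, h1, inv_smul_eq_iff, hg₀], by rw [mul_smul, h2]⟩)
      refine ⟨g₀ * g, fun i => ?_⟩
      induction i using Fin.cases with
      | zero => rw [mul_smul, hg', smul_inv_smul]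
      | succ i => rw [mul_smul, hg _ (Finset.mem_image_of_mem _ (Finset.mem_univ i)), hg₀]
  intro n I J hn hp
  refine key n I J (fun i j => ?_)
  by_cases hij : i = j
  · subst hij
    have : Nontrivial (Fin n) := Fin.nontrivial_iff_two_le.mpr hn
    obtain ⟨k, hk⟩ := exists_ne i
    obtain ⟨g, hg, -⟩ := hp i k hk.symm
    exact ⟨g, hg, hg⟩
  · exact hp i j hij

theorem isBin_iff_star : IsBin G Ω ↔ StarAct G Ω := ⟨IsBin.star, StarAct.isBin⟩

theorem ncard_fixed_conj (g t : G) :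
    {x : Ω | (g * t * g⁻¹) • x = x}.ncard = {x : Ω | t • x = x}.ncard := by
  rw [← Set.ncard_image_of_injective {x : Ω | t • x = x} (MulAction.injective g)]
  congr 1
  ext x
  simp only [Set.mem_ofPred_eq, Set.mem_image]
  constructor
  · intro h
    refine ⟨g⁻¹ • x, ?_, smul_inv_smul _ _⟩
    rw [eq_inv_smul_iff, ← mul_smul, ← mul_smul, h]
  · rintro ⟨y, hy, rfl⟩
    rw [conj_smul_smul, hy]

theorem exists_invol_zpowers [Finite G] {g : G} (h : Even (orderOf g)) :
    ∃ k : ℕ, g ^ k ≠ 1 ∧ g ^ k * g ^ k = 1 := by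
  obtain ⟨k, hk⟩ := h
  have h0 := orderOf_pos g
  refine ⟨k, pow_ne_one_of_lt_orderOf (by omega) (by omega), ?_⟩
  rw [← pow_add, ← hk, pow_orderOf_eq_one]

/-- In a binary action of a group with one class of involutions, an involution commuting with an
involution fixing a point also fixes that point. -/
theorem IsBin.invol [Finite G] [Finite Ω] (h : IsBin G Ω)
    (hc : ∀ s t : G, s ≠ 1 → t ≠ 1 → s * s = 1 → t * t = 1 → ∃ g, g * s * g⁻¹ = t)
    {s t : G} (ht1 : t ≠ 1) (hs : s * s = 1) (ht : t * t = 1) (hst : s * t = t * s) {α : Ω}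
    (hα : t • α = α) : s • α = α := by
  classical
  by_contra hne
  have hs1 : s ≠ 1 := by rintro rfl; exact hne (one_smul _ _)
  have hts1 : t * s ≠ 1 := by
    intro e
    have : s = t := by rw [← one_mul s, ← ht, mul_assoc, e, mul_one]
    exact hne (this ▸ hα)
  have hts : t * s * (t * s) = 1 := by
    rw [mul_assoc, ← mul_assoc s, hst, mul_assoc, hs, mul_one, ht]
  have hss : ∀ x : Ω, s • s • x = x := fun x => by rw [← mul_smul, hs, one_smul]
  have htt : ∀ x : Ω, t • t • x = x := fun x => by rw [← mul_smul, ht, one_smul]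
  have hcm : ∀ x : Ω, s • t • x = t • s • x := fun x => by rw [← mul_smul, hst, mul_smul]
  obtain ⟨g, hg⟩ := h.set (S := {x | t • x = x ∨ s • x = x ∨ t • s • x = x}) (Set.toFinite _)
    (fun x => if t • x = x then s • x else x) (by
      intro x hx y hy
      by_cases h1 : t • x = x <;> by_cases h2 : t • y = y <;> simp only [h1, h2, if_true, if_false]
      · exact ⟨s, rfl, rfl⟩
      · rcases hy with hy | hy | hy
        · exact absurd hy h2
        · exact ⟨s, rfl, hy⟩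
        · exact ⟨t * s, by rw [mul_smul, ← hcm, h1], by rw [mul_smul, hy]⟩
      · rcases hx with hx | hx | hx
        · exact absurd hx h1
        · exact ⟨s, hx, rfl⟩
        · exact ⟨t * s, by rw [mul_smul, hx], by rw [mul_smul, ← hcm, h2]⟩
      · exact ⟨1, one_smul _ _, one_smul _ _⟩)
  have g1 : g • α = s • α := by simpa [hα] using hg α (Or.inl hα)
  have g2 : g • s • α = α := by
    have : t • s • α = s • α := by rw [← hcm, hα]
    simpa [this, hss] using hg (s • α) (Or.inl this)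
  have g3 : ∀ x : Ω, s • x = x → g • x = x := fun x hx => by
    have := hg x (Or.inr (Or.inl hx))
    simpa [hx] using this
  have g4 : ∀ x : Ω, t • s • x = x → g • x = x := fun x hx => by
    have := hg x (Or.inr (Or.inr hx))
    by_cases h1 : t • x = x
    · have h2 : s • x = x := by rw [← hcm, h1] at hx; exact hx
      simpa [h1, h2] using this
    · simpa [h1] using this
  have hev : Even (orderOf g) := by
    by_contra ho
    obtain ⟨m, hm⟩ := Nat.not_even_iff_odd.mp ho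
    have e1 : ∀ k : ℕ, (g ^ 2) ^ k • α = α := fun k =>
      (stabilizer G α).pow_mem (by rw [mem_stabilizer_iff, pow_two, mul_smul, g1, g2]) k
    have e2 := pow_orderOf_eq_one g
    rw [hm, pow_succ', pow_mul] at e2
    have := congrArg (fun z : G => z • α) e2
    simp only [mul_smul, e1, g1, one_smul] at this
    exact hne this
  obtain ⟨k, hk1, hk2⟩ := exists_invol_zpowers hev
  have hcard : ∀ u v : G, u ≠ 1 → v ≠ 1 → u * u = 1 → v * v = 1 →
      {x : Ω | u • x = x} ⊆ {x : Ω | v • x = x} → {x : Ω | u • x = x} = {x : Ω | v • x = x} := by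
    intro u v a b c d hsub
    obtain ⟨w, rfl⟩ := hc u v a b c d
    exact Set.eq_of_subset_of_ncard_le hsub (by rw [ncard_fixed_conj])
  have e1 := hcard s (g ^ k) hs1 hk1 hs hk2
    (fun x hx => (stabilizer G x).pow_mem (g3 x hx) k)
  have e2 := hcard (t * s) (g ^ k) hts1 hk1 hts hk2
    (fun x hx => (stabilizer G x).pow_mem (g4 x (by rw [← mul_smul]; exact hx)) k)
  have e3 := hcard s t hs1 ht1 hs ht (fun x hx => by
    have h1 : x ∈ {x : Ω | (t * s) • x = x} := by rw [e2, ← e1]; exact hx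
    have h2 : s • x = x := hx
    simpa [mul_smul, h2] using h1)
  have : α ∈ {x : Ω | s • x = x} := e3 ▸ hα
  exact hne this

end

/-- The binary property of the action of `L` on the cosets of `H`, inside a bigger group. -/
def StarIn {Γ : Type*} [Group Γ] (L H : Subgroup Γ) : Prop :=
  ∀ (S : Finset Γ) (c y : Γ), (∀ a ∈ S, a ∈ L) → c ∈ L → y ∈ L →
    (∀ a ∈ S, ∃ g ∈ cj a H, g⁻¹ * y ∈ cj c H) → ∃ g, (∀ a ∈ S, g ∈ cj a H) ∧ g⁻¹ * y ∈ cj c H

section
variable {G Γ : Type*} [Group G] [Group Γ]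

theorem smul_mk_eq_iff {H : Subgroup G} {g y c : G} :
    g • (c : G ⧸ H) = y • (c : G ⧸ H) ↔ g⁻¹ * y ∈ cj c H := by
  rw [mem_cj, MulAction.Quotient.smul_coe, MulAction.Quotient.smul_coe, QuotientGroup.eq]
  simp [mul_assoc]

theorem smul_mk_eq_self_iff {H : Subgroup G} {g c : G} :
    g • (c : G ⧸ H) = (c : G ⧸ H) ↔ g ∈ cj c H := by
  rw [← (cj c H).inv_mem_iff, ← mul_one g⁻¹, ← smul_mk_eq_iff, one_smul]

theorem mem_cj_map {φ : G →* Γ} (hφ : Function.Injective φ) {H : Subgroup G} {g a : G} :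
    φ g ∈ cj (φ a) (H.map φ) ↔ g ∈ cj a H := by
  rw [mem_cj, mem_cj, ← map_inv, ← map_mul, ← map_mul, Subgroup.mem_map_iff_mem hφ]

theorem isBin_iff_starIn {φ : G →* Γ} (hφ : Function.Injective φ) (H : Subgroup G) :
    IsBin G (G ⧸ H) ↔ StarIn φ.range (H.map φ) := by
  classical
  rw [isBin_iff_star]
  have hr : ∀ a g : Γ, a ∈ φ.range → g ∈ cj a (H.map φ) → g ∈ φ.range := by
    intro a g ha hg
    have h1 := Subgroup.map_le_range φ H (mem_cj.mp hg)
    have := φ.range.mul_mem (φ.range.mul_mem ha h1) (φ.range.inv_mem ha)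
    simpa [mul_assoc] using this
  constructor
  · intro h S c y hS hc hy hp
    obtain ⟨c, rfl⟩ := hc
    obtain ⟨y, rfl⟩ := hy
    obtain ⟨g, hg, hg'⟩ := h ((S.preimage φ hφ.injOn).image (fun a : G => (a : G ⧸ H))) c (y • (c : G ⧸ H))
      ⟨y, rfl⟩ (by
        intro α hα
        obtain ⟨a, ha, rfl⟩ := Finset.mem_image.mp hα
        rw [Finset.mem_preimage] at ha
        obtain ⟨g, h1, h2⟩ := hp _ ha
        obtain ⟨g, rfl⟩ := hr _ _ ⟨a, rfl⟩ h1
        rw [← map_inv, ← map_mul, mem_cj_map hφ] at h2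
        exact ⟨g, smul_mk_eq_self_iff.mpr ((mem_cj_map hφ).mp h1), smul_mk_eq_iff.mpr h2⟩)
    refine ⟨φ g, fun a ha => ?_, ?_⟩
    · obtain ⟨a, rfl⟩ := hS a ha
      exact (mem_cj_map hφ).mpr (smul_mk_eq_self_iff.mp (hg _ (Finset.mem_image_of_mem _
        (Finset.mem_preimage.mpr ha))))
    · rw [← map_inv, ← map_mul, mem_cj_map hφ]; exact smul_mk_eq_iff.mp hg'
  · rintro h S γ _ ⟨y, rfl⟩ hp
    induction γ using QuotientGroup.induction_on with | H c =>
    obtain ⟨g, hg, hg'⟩ := h (S.image (fun α => φ α.out)) (φ c) (φ y)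
      (by intro a ha; obtain ⟨α, -, rfl⟩ := Finset.mem_image.mp ha; exact ⟨_, rfl⟩) ⟨c, rfl⟩ ⟨y, rfl⟩
      (by
        intro a ha
        obtain ⟨α, hα, rfl⟩ := Finset.mem_image.mp ha
        obtain ⟨g, h1, h2⟩ := hp α hα
        refine ⟨φ g, (mem_cj_map hφ).mpr (smul_mk_eq_self_iff.mp (by simpa using h1)), ?_⟩
        rw [← map_inv, ← map_mul, mem_cj_map hφ]; exact smul_mk_eq_iff.mp h2)
    obtain ⟨g, rfl⟩ : g ∈ φ.range := by
      have := φ.range.mul_mem ⟨y, rfl⟩ (φ.range.inv_mem (hr _ _ ⟨c, rfl⟩ hg'))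
      simpa using this
    rw [← map_inv, ← map_mul, mem_cj_map hφ] at hg'
    refine ⟨g, fun α hα => ?_, smul_mk_eq_iff.mpr hg'⟩
    have := smul_mk_eq_self_iff.mpr ((mem_cj_map hφ).mp (hg _ (Finset.mem_image_of_mem _ hα)))
    simpa using this

theorem StarIn.conj {L H : Subgroup Γ} [L.Normal] (h : StarIn L H) (k : Γ) : StarIn L (cj k H) := by
  classical
  intro S c y hS hc hy hp
  have e : ∀ a g : Γ, g ∈ cj a (cj k H) ↔ k⁻¹ * g * k ∈ cj (k⁻¹ * a * k) H := fun a g => by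
    simp only [mem_cj]; group
  have hn : ∀ a ∈ L, k⁻¹ * a * k ∈ L := fun a ha => Subgroup.Normal.conj_mem' inferInstance a ha k
  obtain ⟨g, hg, hg'⟩ := h (S.image (fun a => k⁻¹ * a * k)) (k⁻¹ * c * k) (k⁻¹ * y * k)
    (by intro a ha; obtain ⟨b, hb, rfl⟩ := Finset.mem_image.mp ha; exact hn b (hS b hb))
    (hn c hc) (hn y hy) (by
      intro a ha
      obtain ⟨b, hb, rfl⟩ := Finset.mem_image.mp ha
      obtain ⟨g, h1, h2⟩ := hp b hb
      refine ⟨_, (e _ _).mp h1, ?_⟩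
      convert (e _ _).mp h2 using 1; group)
  refine ⟨k * g * k⁻¹, fun a ha => (e _ _).mpr ?_, (e _ _).mpr ?_⟩
  · convert hg _ (Finset.mem_image_of_mem _ ha) using 1; group
  · convert hg' using 1; group

theorem StarIn.tri {L H : Subgroup Γ} (h : StarIn L H) (hH : H ≤ L) {a b c u v : Γ} (ha : a ∈ L)
    (hb : b ∈ L) (hc : c ∈ L) (hu : u ∈ cj b H) (hv : v ∈ cj c H) (huv : u * v ∈ cj a H) :
    ∃ g, g ∈ cj a H ∧ g ∈ cj b H ∧ g⁻¹ * u ∈ cj c H := by
  classical
  have hu' : u ∈ L := by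
    have := L.mul_mem (L.mul_mem hb (hH (mem_cj.mp hu))) (L.inv_mem hb)
    simpa [mul_assoc] using this
  obtain ⟨g, hg, hg'⟩ := h {a, b} c u (by simp [ha, hb]) hc hu' (by
    intro x hx
    rcases Finset.mem_insert.mp hx with rfl | hx
    · exact ⟨u * v, huv, by simpa using hv⟩
    · rw [Finset.mem_singleton.mp hx]
      exact ⟨u, hu, by simp⟩)
  exact ⟨g, hg a (by simp), hg b (by simp), hg'⟩

theorem StarIn.invol [Finite Γ] {L H : Subgroup Γ} (h : StarIn L H) (hH : H ≤ L)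
    (hc : ∀ s ∈ L, ∀ t ∈ L, s ≠ 1 → t ≠ 1 → s * s = 1 → t * t = 1 → ∃ g ∈ L, g * s * g⁻¹ = t)
    {s t : Γ} (hsL : s ∈ L) (htH : t ∈ H) (ht1 : t ≠ 1) (hs : s * s = 1) (ht : t * t = 1)
    (hst : s * t = t * s) : s ∈ H := by
  have h1 : IsBin L (L ⧸ H.subgroupOf L) := by
    rw [isBin_iff_starIn L.subtype_injective, Subgroup.range_subtype,
      Subgroup.map_subgroupOf_eq_of_le hH]
    exact h
  have h2 := h1.invol (s := ⟨s, hsL⟩) (t := ⟨t, hH htH⟩) (α := ((1 : L) : L ⧸ H.subgroupOf L)) (by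
      intro a b a1 b1 a2 b2
      obtain ⟨g, hg, e⟩ := hc a a.2 b b.2 (by simpa using a1) (by simpa using b1)
        (congrArg Subtype.val a2) (congrArg Subtype.val b2)
      exact ⟨⟨g, hg⟩, Subtype.ext e⟩) (by simpa using ht1) (Subtype.ext hs) (Subtype.ext ht)
      (Subtype.ext hst) (by rw [smul_mk_eq_self_iff, cj_one]; exact htH)
  rwa [smul_mk_eq_self_iff, cj_one] at h2

/-- Sufficient condition: any two conjugates are equal or admit no triangle. -/
theorem starIn_of_noTri {L H : Subgroup Γ}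
    (h : ∀ a ∈ L, ∀ b ∈ L, ∀ c ∈ L, ∀ u ∈ cj a H, ∀ v ∈ cj b H, u⁻¹ * v ∈ cj c H →
      cj a H = cj b H ∨ u ∈ cj c H) : StarIn L H := by
  intro S c y hS hc hy hp
  rcases S.eq_empty_or_nonempty with rfl | ⟨a, ha⟩
  · exact ⟨y, by simp, by simp⟩
  obtain ⟨u, hu, hu'⟩ := hp a ha
  by_cases hall : ∀ b ∈ S, cj a H = cj b H
  · exact ⟨u, fun b hb => hall b hb ▸ hu, hu'⟩
  push Not at hall
  obtain ⟨b, hb, hne⟩ := hall
  obtain ⟨v, hv, hv'⟩ := hp b hb
  have h1 : u⁻¹ * v ∈ cj c H := by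
    have := (cj c H).mul_mem hu' ((cj c H).inv_mem hv')
    simpa [mul_assoc] using this
  have h2 := (h a (hS a ha) b (hS b hb) c hc u hu v hv h1).resolve_left hne
  refine ⟨1, fun b _ => one_mem _, ?_⟩
  have := (cj c H).mul_mem h2 hu'
  simpa using this

end

end Cfsg.Agent.H3
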