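import Mathlib

/-! Subfields of finite fields (the first lemmas are copied from helper7's library). -/

set_option autoImplicit false

namespace Cfsg.Agent.H3

variable {F : Type*} [Field F]

lemma card_pow_fixed (K : Type*) [Field K] [Finite K] {s k : ℕ} (hs : 2 ≤ s)
    (hK : Nat.card K = s ^ k) : Nat.card {x : K // x ^ s = x} = s := by
  classical
  obtain ⟨s', rfl⟩ : ∃ s', s = s' + 1 := ⟨s - 1, by omega⟩
  have h1 := IsCyclic.card_powMonoidHom_ker Kˣ s'
  rw [Nat.card_units, hK, Nat.gcd_eq_right (show s' ∣ (s' + 1) ^ k - 1 from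
    Nat.sub_one_dvd_pow_sub_one (s' + 1) k)] at h1
  let f : Option (powMonoidHom (α := Kˣ) s').ker → {x : K // x ^ (s' + 1) = x} := fun o =>
    match o with
    | none => ⟨0, zero_pow (by omega)⟩
    | some u => ⟨((u : Kˣ) : K), by
        have h2 : (u : Kˣ) ^ s' = 1 := u.2
        have h3 : ((u : Kˣ) : K) ^ s' = 1 := by
          rw [← Units.val_pow_eq_pow_val, h2, Units.val_one]
        rw [pow_succ, h3, one_mul]⟩
  have hf : Function.Bijective f := by
    constructor
    · rintro (_ | u) (_ | v) huv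
      · rfl
      · exact absurd (congrArg Subtype.val huv).symm (Units.ne_zero _)
      · exact absurd (congrArg Subtype.val huv) (Units.ne_zero _)
      · have : ((u : Kˣ) : K) = ((v : Kˣ) : K) := congrArg Subtype.val huv
        rw [Subtype.ext (Units.ext this)]
    · rintro ⟨x, hx⟩
      by_cases h0 : x = 0
      · exact ⟨none, Subtype.ext h0.symm⟩
      · refine ⟨some ⟨Units.mk0 x h0, ?_⟩, rfl⟩
        rw [MonoidHom.mem_ker, powMonoidHom_apply]
        apply Units.ext
        rw [Units.val_pow_eq_pow_val, Units.val_mk0, Units.val_one]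
        rw [pow_succ] at hx
        exact mul_right_cancel₀ h0 (by rw [hx, one_mul])
  rw [← Nat.card_eq_of_bijective f hf, Finite.card_option, h1]

lemma card_pow_fixed_le (K : Type*) [Field K] [Finite K] {s : ℕ} (hs : 2 ≤ s) :
    Nat.card {x : K // x ^ s = x} ≤ s := by
  classical
  let P : Polynomial K := Polynomial.X ^ s - Polynomial.X
  have hP : P ≠ 0 := FiniteField.X_pow_card_sub_X_ne_zero K (by omega)
  have hdeg : P.natDegree = s := FiniteField.X_pow_card_sub_X_natDegree_eq K (by omega)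
  have h1 : {x : K | x ^ s = x} = (P.roots.toFinset : Set K) := by
    ext x
    simp [Polynomial.mem_roots hP, P, sub_eq_zero]
  have h2 : Nat.card {x : K // x ^ s = x} = P.roots.toFinset.card := by
    rw [← Set.ncard_coe_finset, ← h1]
    rfl
  rw [h2, ← hdeg]
  exact (Multiset.toFinset_card_le _).trans (Polynomial.card_roots' P)

lemma mem_subfield_iff_pow [Finite F] (F₁ : Subfield F) (x : F) :
    x ∈ F₁ ↔ x ^ Nat.card F₁ = x := by
  have : Fintype F₁ := Fintype.ofFinite _
  have h1 : ∀ y ∈ F₁, y ^ Nat.card F₁ = y := by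
    intro y hy
    have := FiniteField.pow_card (⟨y, hy⟩ : F₁)
    rw [Nat.card_eq_fintype_card]
    simpa using congrArg Subtype.val this
  refine ⟨h1 x, fun hx => ?_⟩
  have hs : 2 ≤ Nat.card F₁ := Finite.one_lt_card
  have hsub : (F₁ : Set F) ⊆ {y : F | y ^ Nat.card F₁ = y} := h1
  have heq : (F₁ : Set F) = {y : F | y ^ Nat.card F₁ = y} :=
    Set.eq_of_subset_of_ncard_le hsub (card_pow_fixed_le F hs) (Set.toFinite _)
  have : x ∈ (F₁ : Set F) := by rw [heq]; exact hx
  exact this

/-- The subfield of elements fixed by `x ↦ x ^ (p ^ k)`. -/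
def powFixField (F : Type*) [Field F] (p : ℕ) [ExpChar F p] (k : ℕ) : Subfield F where
  carrier := {x | x ^ p ^ k = x}
  mul_mem' {a b} ha hb := by
    simp only [Set.mem_ofPred_eq] at *
    rw [mul_pow, ha, hb]
  one_mem' := by simp
  add_mem' {a b} ha hb := by
    simp only [Set.mem_ofPred_eq] at *
    rw [add_pow_expChar_pow, ha, hb]
  zero_mem' := by
    simp only [Set.mem_ofPred_eq]
    exact zero_pow (pow_ne_zero _ (expChar_pos F p).ne')
  neg_mem' {a} ha := by
    simp only [Set.mem_ofPred_eq] at *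
    rw [neg_pow, ha, neg_one_pow_expChar_pow]
    ring
  inv_mem' a ha := by
    simp only [Set.mem_ofPred_eq] at *
    rw [inv_pow, ha]

lemma mem_powFixField {p : ℕ} [ExpChar F p] {k : ℕ} {x : F} :
    x ∈ powFixField F p k ↔ x ^ p ^ k = x := Iff.rfl

/-- Every proper subfield lies in a subfield of prime index. -/
lemma exists_prime_index_subfield [Fintype F] (F₀ : Subfield F) (h : F₀ ≠ ⊤) :
    ∃ (F₁ : Subfield F) (r : ℕ), r.Prime ∧ F₀ ≤ F₁ ∧ Fintype.card F = Nat.card F₁ ^ r := by
  obtain ⟨p, hp⟩ := CharP.exists F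
  have : Fintype F₀ := Fintype.ofFinite _
  have hpp : p.Prime := CharP.char_is_prime F p
  have : Fact p.Prime := ⟨hpp⟩
  obtain ⟨f, -, hf⟩ := FiniteField.card F₀ p
  have hcard : Fintype.card F = Fintype.card F₀ ^ Module.finrank F₀ F :=
    Module.card_eq_pow_finrank
  set d := Module.finrank F₀ F with hd
  have hd1 : d ≠ 1 := by
    intro h1
    apply h
    rw [h1, pow_one] at hcard
    have : Function.Bijective (F₀.subtype) :=
      (Fintype.bijective_iff_injective_and_card _).2 ⟨Subtype.val_injective, hcard.symm⟩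
    rw [eq_top_iff]
    intro x _
    obtain ⟨y, rfl⟩ := this.2 x
    exact y.2
  have hd0 : 0 < d := Module.finrank_pos
  obtain ⟨k, hk⟩ := Nat.minFac_dvd d
  have hk0 : 0 < k := by
    rcases Nat.eq_zero_or_pos k with h | h
    · rw [h] at hk; omega
    · exact h
  have hs : 2 ≤ p ^ (f * k) := by
    have : 0 < (f : ℕ) * k := Nat.mul_pos f.2 hk0
    calc 2 ≤ p := hpp.two_le
      _ = p ^ 1 := (pow_one p).symm
      _ ≤ p ^ (f * k) := Nat.pow_le_pow_right hpp.pos this
  have hF : Nat.card F = (p ^ (f * k)) ^ d.minFac := by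
    rw [Nat.card_eq_fintype_card, hcard, hf, ← pow_mul, ← pow_mul]
    congr 1
    conv_lhs => rw [hk]
    ring
  refine ⟨powFixField F p (f * k), d.minFac, Nat.minFac_prime hd1, ?_, ?_⟩
  · intro x hx
    rw [mem_powFixField, pow_mul, ← hf]
    have h1 : x ^ Fintype.card F₀ = x := by
      rw [← Nat.card_eq_fintype_card]; exact (mem_subfield_iff_pow F₀ x).1 hx
    clear hk hk0 hs hF
    induction k with
    | zero => simp
    | succ k ih => rw [pow_succ, pow_mul, ih, h1]
  · have := card_pow_fixed F hs hF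
    have h2 : Nat.card (powFixField F p (f * k)) = p ^ (f * k) := this
    rw [h2, ← hF, Nat.card_eq_fintype_card]


theorem exists_card_eq_pow [Finite F] {k k' : Subfield F} (h : k ≤ k') :
    ∃ a, 1 ≤ a ∧ Nat.card k' = Nat.card k ^ a := by
  let _ := (Subfield.inclusion h).toAlgebra
  exact ⟨Module.finrank k k', Module.finrank_pos, Module.natCard_eq_pow_finrank⟩

theorem card_subfield_top : Nat.card (⊤ : Subfield F) = Nat.card F :=
  Nat.card_congr Subfield.topEquiv.toEquiv

theorem subfield_eq_of_card [Finite F] {k k' : Subfield F} (h : k ≤ k')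
    (hc : Nat.card k' ≤ Nat.card k) : k = k' :=
  SetLike.coe_injective (Set.eq_of_subset_of_ncard_le h hc (Set.toFinite _))

theorem subfield_eq_top_of_card [Finite F] {k : Subfield F} (hc : Nat.card F ≤ Nat.card k) : k = ⊤ :=
  subfield_eq_of_card le_top (by rwa [card_subfield_top])

theorem eq_or_top_of_prime [Finite F] {k k' : Subfield F} (h : k ≤ k') {r : ℕ} (hr : r.Prime)
    (hc : Nat.card F = Nat.card k ^ r) : k' = k ∨ k' = ⊤ := by
  obtain ⟨a, -, ha⟩ := exists_card_eq_pow h
  obtain ⟨b, -, hb⟩ := exists_card_eq_pow (le_top : k' ≤ ⊤)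
  rw [card_subfield_top] at hb
  have h1 : r = a * b := by
    rw [hc, ha, ← pow_mul] at hb
    exact Nat.pow_right_injective Finite.one_lt_card hb
  rcases (Nat.dvd_prime hr).mp ⟨b, h1⟩ with e | e
  · left
    exact (subfield_eq_of_card h (by rw [ha, e, pow_one])).symm
  · right
    exact subfield_eq_top_of_card (by rw [ha, e, hc])

theorem eq_top_of_card_prime [Finite F] (hp : (Nat.card F).Prime) (k : Subfield F) : k = ⊤ := by
  obtain ⟨b, hb1, hb⟩ := exists_card_eq_pow (le_top : k ≤ ⊤)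
  rw [card_subfield_top] at hb
  have : Nat.card k ∣ Nat.card F := hb ▸ dvd_pow_self _ (by omega)
  rcases (Nat.dvd_prime hp).mp this with e | e
  · exact absurd e Finite.one_lt_card.ne'
  · exact subfield_eq_top_of_card e.ge

theorem exists_subfield_equiv [Finite F] {K : Type*} [Field K] [Finite K] {r : ℕ}
    (hc : Nat.card F = Nat.card K ^ r) : ∃ k : Subfield F, Nonempty (K ≃+* k) := by
  have := Fintype.ofFinite F
  have := Fintype.ofFinite K
  obtain ⟨p, hp⟩ := CharP.exists K
  obtain ⟨n, hpp, hn⟩ := FiniteField.card K p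
  have : Fact p.Prime := ⟨hpp⟩
  have hr : r ≠ 0 := by
    rintro rfl
    exact absurd hc Finite.one_lt_card.ne'
  have : CharP F p := by
    obtain ⟨p', hp'⟩ := CharP.exists F
    obtain ⟨n', hpp', hn'⟩ := FiniteField.card F p'
    have h1 : p ∣ p' ^ (n' : ℕ) := by
      rw [← hn', ← Nat.card_eq_fintype_card, hc, Nat.card_eq_fintype_card, hn, ← pow_mul]
      exact dvd_pow_self _ (Nat.mul_ne_zero n.ne_zero hr)
    rwa [(Nat.prime_dvd_prime_iff_eq hpp hpp').mp (hpp.dvd_of_dvd_pow h1)]
  refine ⟨powFixField F p n, ?_⟩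
  have := Fintype.ofFinite (powFixField F p n)
  refine ⟨FiniteField.ringEquivOfCardEq ?_⟩
  have h2 := card_pow_fixed F (s := Nat.card K) Finite.one_lt_card hc
  rw [Nat.card_eq_fintype_card (α := K), hn] at h2
  rw [hn, ← Nat.card_eq_fintype_card]
  exact h2.symm

theorem exists_small_field (K : Type*) [Field K] [Finite K] :
    ∃ (F₀ : Type) (_ : Field F₀) (_ : Fintype F₀), Fintype.card F₀ = Nat.card K ∧
      Nonempty (F₀ ≃+* K) := by
  let e := (Finite.equivFin K).symm
  let _ := e.field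
  exact ⟨Fin (Nat.card K), e.field, inferInstance, by simp, ⟨e.ringEquiv⟩⟩

theorem odd_card_iff [Finite F] : Odd (Nat.card F) ↔ (2 : F) ≠ 0 := by
  have := Fintype.ofFinite F
  rw [Nat.card_eq_fintype_card, Nat.odd_iff, ← Nat.mod_two_ne_zero, Ne,
    ← FiniteField.even_card_iff_char_two]
  refine not_congr ⟨fun h => ?_, fun h => ?_⟩
  · have : ((ringChar F : ℕ) : F) = 0 := ringChar.Nat.cast_ringChar
    rw [h] at this
    exact_mod_cast this
  · have : CharP F 2 := CharTwo.of_one_ne_zero_of_two_eq_zero one_ne_zero h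
    exact ringChar.eq F 2

theorem ringChar_ne_two (h : (2 : F) ≠ 0) : ringChar F ≠ 2 := by
  intro e
  have : ((ringChar F : ℕ) : F) = 0 := ringChar.Nat.cast_ringChar
  rw [e] at this
  exact h (by exact_mod_cast this)

theorem two_ne_zero_subfield (h : (2 : F) ≠ 0) (k : Subfield F) : (2 : k) ≠ 0 := fun e =>
  h (by have := congrArg k.subtype e; rwa [map_ofNat, map_zero] at this)

theorem pow_card_of_sq_mem [Finite F] {k : Subfield F} {s : F} (h : s * s ∈ k) :
    s ^ Nat.card k = s ∨ s ^ Nat.card k = -s := by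
  have h1 := (mem_subfield_iff_pow k _).mp h
  rw [mul_pow] at h1
  exact mul_self_eq_mul_self_iff.mp h1

theorem pow_sq_card_of_sq_mem [Finite F] (h2 : (2 : F) ≠ 0) {k : Subfield F} {s : F}
    (h : s * s ∈ k) : s ^ (Nat.card k ^ 2) = s := by
  have hodd : Odd (Nat.card k) := odd_card_iff.mpr (two_ne_zero_subfield h2 k)
  rw [pow_two, pow_mul]
  rcases pow_card_of_sq_mem h with e | e
  · rw [e, e]
  · rw [e, hodd.neg_pow, e, neg_neg]

theorem mem_of_sq_mem_of_odd [Finite F] (h2 : (2 : F) ≠ 0) {k : Subfield F} {n : ℕ} (hn : Odd n)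
    (hc : Nat.card F = Nat.card k ^ n) {s : F} (h : s * s ∈ k) : s ∈ k := by
  have := Fintype.ofFinite F
  obtain ⟨m, rfl⟩ := hn
  have h1 : ∀ m : ℕ, s ^ (Nat.card k ^ (2 * m)) = s := by
    intro m
    induction m with
    | zero => simp
    | succ m ih => rw [mul_add, pow_add, pow_mul s, ih, mul_one, pow_sq_card_of_sq_mem h2 h]
  have h3 := FiniteField.pow_card s
  rw [← Nat.card_eq_fintype_card, hc, pow_succ, pow_mul s, h1] at h3
  exact (mem_subfield_iff_pow k s).mpr h3

theorem isSquare_of_card_sq [Finite F] {k : Subfield F}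
    (hc : Nat.card F = Nat.card k ^ 2) {x : F} (hx : x ∈ k) : IsSquare x := by
  have := Fintype.ofFinite F
  by_cases h2 : (2 : F) = 0
  · have : CharP F 2 := CharTwo.of_one_ne_zero_of_two_eq_zero one_ne_zero h2
    exact FiniteField.isSquare_of_char_two (ringChar.eq F 2) x
  by_cases h0 : x = 0
  · rw [h0]; exact IsSquare.zero
  obtain ⟨m, hm⟩ : Odd (Nat.card k) := odd_card_iff.mpr (two_ne_zero_subfield h2 k)
  rw [FiniteField.isSquare_iff (ringChar_ne_two h2) h0, ← Nat.card_eq_fintype_card, hc, hm]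
  have h1 := (mem_subfield_iff_pow k x).mp hx
  rw [hm, pow_succ] at h1
  have h3 : x ^ (2 * m) = 1 := mul_right_cancel₀ h0 (by rw [h1, one_mul])
  rw [show (2 * m + 1) ^ 2 / 2 = (2 * m) * (m + 1) by
    rw [show (2 * m + 1) ^ 2 = 1 + 2 * ((2 * m) * (m + 1)) by ring, Nat.add_mul_div_left _ _ two_pos]
    simp, pow_mul, h3, one_pow]

/-- The quadratic closure of a subfield inside `F`. -/
theorem exists_quad_subfield [Finite F] (h2 : (2 : F) ≠ 0) (k : Subfield F) :
    ∃ k₂ : Subfield F, Nat.card k₂ ≤ Nat.card k ^ 2 ∧ ∀ s, s * s ∈ k → s ∈ k₂ := by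
  have := Fintype.ofFinite k
  obtain ⟨p, hp⟩ := CharP.exists F
  have : Fact p.Prime := ⟨CharP.char_is_prime F p⟩
  obtain ⟨n, -, hn⟩ := FiniteField.card k p
  rw [← Nat.card_eq_fintype_card] at hn
  have e : p ^ ((n : ℕ) * 2) = Nat.card k ^ 2 := by rw [pow_mul, hn]
  refine ⟨powFixField F p (n * 2), ?_, fun s hs => ?_⟩
  · rw [← e]
    refine card_pow_fixed_le F ?_
    rw [e]
    have : 1 < Nat.card k := Finite.one_lt_card
    nlinarith
  · rw [mem_powFixField, e]
    exact pow_sq_card_of_sq_mem h2 hs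

theorem isSquare_two_iff_mod [Finite F] : IsSquare (2 : F) ↔ Nat.card F % 8 ≠ 3 ∧ Nat.card F % 8 ≠ 5 := by
  classical
  have := Fintype.ofFinite F
  rw [Nat.card_eq_fintype_card]
  exact FiniteField.isSquare_two_iff

theorem isSquare_five_iff_mod [Finite F] (h2 : (2 : F) ≠ 0) :
    IsSquare (5 : F) ↔ Nat.card F % 5 ≠ 2 ∧ Nat.card F % 5 ≠ 3 := by
  classical
  have := Fintype.ofFinite F
  have key : ∀ m < 5, ∀ e : ℤ, e = 1 ∨ e = -1 →
      (IsSquare ((e : ZMod 5) * ((m : ℕ) : ZMod 5)) ↔ m ≠ 2 ∧ m ≠ 3) := by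
    intro m hm e he
    rcases he with rfl | rfl <;> interval_cases m <;> decide
  have : Fact (Nat.Prime 5) := ⟨Nat.prime_five⟩
  have h := FiniteField.isSquare_odd_prime_iff (ringChar_ne_two h2) (p := 5) (by norm_num)
  rw [Nat.card_eq_fintype_card]
  refine (show IsSquare (5 : F) ↔ IsSquare ((5 : ℕ) : F) by norm_num).trans (h.trans ?_)
  rw [Ne, quadraticChar_neg_one_iff_not_isSquare, not_not, ← ZMod.natCast_mod (Fintype.card F) 5]
  have h5 := Nat.mod_lt (Fintype.card F) (show 0 < 5 by norm_num)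
  have hodd := FiniteField.odd_card_of_char_ne_two (ringChar_ne_two h2)
  have h4 : ZMod.χ₄ (Fintype.card F) = 1 ∨ ZMod.χ₄ (Fintype.card F) = -1 := by
    rw [ZMod.χ₄_nat_eq_if_mod_four]
    simp only [hodd, one_ne_zero, if_false]
    split_ifs <;> simp
  exact key _ h5 _ h4

end Cfsg.Agent.H3
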