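import Mathlib

/-! Recognition of dihedral groups and of `A₄`, `S₄`, `A₅` from orders of elements. -/

set_option autoImplicit false

namespace Cfsg.Agent.H3

open MulAction

variable {G : Type*} [Group G]

theorem dihedral_of_index_two [Finite G] (C : Subgroup G) (hC : IsCyclic C) (hi : C.index = 2)
    (hinv : ∀ g, g ∉ C → g * g = 1) : Nonempty (G ≃* DihedralGroup (Nat.card C)) := by
  obtain ⟨t, ht⟩ : ∃ t, t ∉ C := by
    by_contra h
    push Not at h
    have : C = ⊤ := (Subgroup.eq_top_iff' C).mpr h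
    rw [this, Subgroup.index_top] at hi
    omega
  let φ := zmodCyclicMulEquiv hC
  let ρ : ZMod (Nat.card C) → G := fun i => (φ (Multiplicative.ofAdd i) : G)
  have hρC : ∀ i, ρ i ∈ C := fun i => (φ _).2
  have hadd : ∀ i j, ρ (i + j) = ρ i * ρ j := by
    intro i j; simp only [ρ, ofAdd_add, map_mul, Subgroup.coe_mul]
  have hneg : ∀ i, ρ (-i) = (ρ i)⁻¹ := by
    intro i; simp only [ρ, ofAdd_neg, map_inv, Subgroup.coe_inv]
  have htt : t * t = 1 := hinv t ht
  have hconj : ∀ i, ρ i * t = t * (ρ i)⁻¹ := by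
    intro i
    have h1 : ρ i * t ∉ C := fun h => ht ((C.mul_mem_cancel_left (hρC i)).mp h)
    have h2 := hinv _ h1
    calc ρ i * t = (ρ i * t)⁻¹ := (inv_eq_of_mul_eq_one_right h2).symm
      _ = t⁻¹ * (ρ i)⁻¹ := mul_inv_rev _ _
      _ = _ := by rw [inv_eq_of_mul_eq_one_right htt]
  let f : DihedralGroup (Nat.card C) →* G := MonoidHom.mk' (fun x => match x with
    | DihedralGroup.r i => ρ i
    | DihedralGroup.sr i => t * ρ i) (by
      rintro (i | i) (j | j)
      · exact hadd i j
      · change t * ρ (j - i) = ρ i * (t * ρ j)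
        rw [← mul_assoc, hconj, sub_eq_neg_add, hadd, hneg, mul_assoc]
      · change t * ρ (i + j) = t * ρ i * ρ j
        rw [hadd, mul_assoc]
      · change ρ (j - i) = t * ρ i * (t * ρ j)
        rw [mul_assoc, ← mul_assoc (ρ i), hconj, ← mul_assoc, ← mul_assoc, htt, one_mul,
          sub_eq_neg_add, hadd, hneg])
  have hsurj : Function.Surjective f := by
    intro g
    by_cases hg : g ∈ C
    · refine ⟨DihedralGroup.r (Multiplicative.toAdd (φ.symm ⟨g, hg⟩)), ?_⟩
      change ρ _ = g
      simp [ρ]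
    · have h1 : t * g ∈ C := (Subgroup.mul_mem_iff_of_index_two hi).mpr (by simp [ht, hg])
      refine ⟨DihedralGroup.sr (Multiplicative.toAdd (φ.symm ⟨_, h1⟩)), ?_⟩
      change t * ρ _ = g
      simp only [ρ, ofAdd_toAdd, MulEquiv.apply_symm_apply]
      rw [← mul_assoc, htt, one_mul]
  have hcard : Nat.card (DihedralGroup (Nat.card C)) = Nat.card G := by
    rw [DihedralGroup.nat_card, ← C.index_mul_card, hi]
  have : Finite (DihedralGroup (Nat.card C)) := by
    apply Nat.finite_of_card_ne_zero
    rw [hcard]; exact Nat.card_pos.ne'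
  exact ⟨(MulEquiv.ofBijective f ((Nat.bijective_iff_surjective_and_card f).mpr ⟨hsurj, hcard⟩)).symm⟩

/-- The conjugacy class of an element. -/
def cls (g : G) : Set G := {x | ∃ k : G, k * g * k⁻¹ = x}

theorem index_centralizer (g : G) : (Subgroup.centralizer {g}).index = (cls g).ncard := by
  rw [Subgroup.centralizer_eq_comap_stabilizer]
  refine (Subgroup.index_comap_of_surjective (stabilizer (ConjAct G) g)
    (f := ConjAct.toConjAct.toMonoidHom) ConjAct.toConjAct.surjective).trans ?_
  rw [index_stabilizer]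
  congr 1

theorem cls_pow {g x : G} (h : x ∈ cls g) (n : ℕ) : x ^ n = 1 ↔ g ^ n = 1 := by
  obtain ⟨k, rfl⟩ := h
  rw [conj_pow]
  simp [mul_inv_eq_one]

theorem cls_subset {K : Subgroup G} [hK : K.Normal] {g : G} (hg : g ∈ K) : cls g ⊆ K := by
  rintro _ ⟨k, rfl⟩
  exact hK.conj_mem g hg k

/-- Elements have order at most five. -/
def SmallOrd (G : Type*) [Group G] : Prop := ∀ g : G, g ^ 2 = 1 ∨ g ^ 3 = 1 ∨ g ^ 4 = 1 ∨ g ^ 5 = 1

theorem SmallOrd.orderOf_le (h : SmallOrd G) (g : G) : orderOf g ≤ 5 := by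
  rcases h g with h | h | h | h <;>
    exact (orderOf_le_of_pow_eq_one (by norm_num) h).trans (by norm_num)

theorem SmallOrd.card_centralizer [Finite G] (h : SmallOrd G) {r : ℕ} (hr : r.Prime) {g : G}
    (hg : orderOf g = r) : ∃ a, 1 ≤ a ∧ Nat.card (Subgroup.centralizer {g}) = r ^ a := by
  have h1 := Nat.eq_prime_pow_of_unique_prime_dvd (n := Nat.card (Subgroup.centralizer {g}))
    (p := r) Nat.card_pos.ne' (by
      intro s hs hdvd
      by_contra hne
      have := Fact.mk hs
      obtain ⟨x, hx⟩ := exists_prime_orderOf_dvd_card' s hdvd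
      have hc : Commute g (x : G) := by
        have := x.2
        rw [Subgroup.mem_centralizer_iff] at this
        exact this g rfl
      have hx' : orderOf (x : G) = s := by rw [Subgroup.orderOf_coe, hx]
      have h2 := hc.orderOf_mul_eq_mul_orderOf_of_coprime (by
        rw [hg, hx']; exact (Nat.coprime_primes hr hs).mpr (Ne.symm hne))
      have h3 := h.orderOf_le (g * x)
      rw [h2, hg, hx'] at h3
      have h4 := hr.two_le
      have h5 := hs.two_le
      have : r = 2 := by nlinarith
      have : s = 2 := by nlinarith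
      omega)
  refine ⟨_, ?_, h1⟩
  rcases Nat.eq_zero_or_pos (Nat.card (Subgroup.centralizer {g})).primeFactorsList.length with h0 | h0
  · exfalso
    rw [h0, pow_zero] at h1
    have hm : g ∈ Subgroup.centralizer {g} := by
      rw [Subgroup.mem_centralizer_iff]; rintro _ rfl; rfl
    have := Subgroup.orderOf_dvd_natCard _ hm
    rw [h1, hg] at this
    exact hr.one_lt.ne' (Nat.dvd_one.mp this)
  · exact h0

theorem SmallOrd.card_centralizer_eq [Finite G] (h : SmallOrd G) {r : ℕ} (hr : r.Prime) {g : G}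
    (hg : orderOf g = r) (hsq : ¬ r ^ 2 ∣ Nat.card G) : Nat.card (Subgroup.centralizer {g}) = r := by
  obtain ⟨a, ha, e⟩ := h.card_centralizer hr hg
  rcases ha.eq_or_lt with rfl | h2
  · rw [e, pow_one]
  · exact absurd ((pow_dvd_pow r h2).trans (e ▸ Subgroup.card_subgroup_dvd_card _)) hsq

theorem SmallOrd.ncard_cls [Finite G] (h : SmallOrd G) {r : ℕ} (hr : r.Prime) {g : G}
    (hg : orderOf g = r) (hsq : ¬ r ^ 2 ∣ Nat.card G) : (cls g).ncard * r = Nat.card G := by
  rw [← index_centralizer, ← h.card_centralizer_eq hr hg hsq, Subgroup.index_mul_card]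

theorem ncard_cls_lt [Finite G] {K : Subgroup G} [K.Normal] {g : G} (hg : g ∈ K) (h1 : g ≠ 1) :
    (cls g).ncard < Nat.card K := by
  refine Set.ncard_lt_ncard (s := cls g) (t := (K : Set G)) ⟨cls_subset hg, fun h => ?_⟩ (Set.toFinite _)
  have := (cls_pow (h K.one_mem) 1).mp (one_pow _)
  exact h1 (by simpa using this)

theorem exists_inj_perm [Finite G] (N : Subgroup G) {n : ℕ} (hi : N.index = n)
    (hc : N.normalCore = ⊥) : ∃ f : G →* Equiv.Perm (Fin n), Function.Injective f := by
  have e : (G ⧸ N) ≃ Fin n := Finite.equivFinOfCardEq hi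
  refine ⟨(Equiv.permCongrHom e).toMonoidHom.comp (MulAction.toPermHom G (G ⧸ N)), ?_⟩
  rw [MonoidHom.coe_comp]
  refine (Equiv.permCongrHom e).injective.comp ?_
  rw [← MonoidHom.ker_eq_bot_iff, ← Subgroup.normalCore_eq_ker, hc]

theorem iso_alt_of_inj [Finite G] {n : ℕ} (f : G →* Equiv.Perm (Fin n)) (hf : Function.Injective f)
    (hcard : 2 * Nat.card G = n.factorial) : Nonempty (G ≃* alternatingGroup (Fin n)) := by
  have h1 : Nat.card f.range = Nat.card G := (Nat.card_congr (MonoidHom.ofInjective hf).toEquiv).symm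
  have h2 := f.range.index_mul_card
  rw [h1, Nat.card_perm, Nat.card_fin, ← hcard] at h2
  have h3 : f.range.index = 2 := Nat.eq_of_mul_eq_mul_right Nat.card_pos h2
  exact ⟨(MonoidHom.ofInjective hf).trans
    (MulEquiv.subgroupCongr (Equiv.Perm.eq_alternatingGroup_of_index_eq_two h3))⟩

theorem iso_A4 [Finite G] (hc : Nat.card G = 12) (h : ∀ g : G, g ^ 2 = 1 ∨ g ^ 3 = 1) :
    Nonempty (G ≃* alternatingGroup (Fin 4)) := by
  have hs : SmallOrd G := fun g => (h g).elim Or.inl (fun h => Or.inr (Or.inl h))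
  have : Fact (Nat.Prime 3) := ⟨Nat.prime_three⟩
  obtain ⟨w, hw⟩ := exists_prime_orderOf_dvd_card' (G := G) 3 (by rw [hc]; norm_num)
  have h1 : Nat.card (Subgroup.zpowers w) = 3 := by rw [Nat.card_zpowers, hw]
  have h2 : (Subgroup.zpowers w).index = 4 := by
    have := (Subgroup.zpowers w).index_mul_card
    rw [h1, hc] at this; omega
  obtain ⟨f, hf⟩ := exists_inj_perm _ h2 (by
    by_contra hne
    obtain ⟨⟨g, hg⟩, hg1⟩ := Subgroup.ne_bot_iff_exists_ne_one.mp hne
    have hg1' : g ≠ 1 := fun e => hg1 (Subtype.ext e)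
    have hle := (Subgroup.zpowers w).normalCore_le
    have ho : orderOf g = 3 := by
      have := Subgroup.orderOf_dvd_natCard _ (hle hg)
      rw [h1] at this
      exact ((Nat.dvd_prime Nat.prime_three).mp this).resolve_left (by simpa using hg1')
    have h3 := hs.ncard_cls Nat.prime_three ho (by rw [hc]; norm_num)
    have h4 := ncard_cls_lt hg hg1'
    have h5 := Subgroup.card_le_of_le hle
    omega)
  exact iso_alt_of_inj f hf (by rw [hc]; rfl)

theorem iso_S4 [Finite G] (hc : Nat.card G = 24) (h : ∀ g : G, g ^ 2 = 1 ∨ g ^ 3 = 1 ∨ g ^ 4 = 1) :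
    Nonempty (G ≃* Equiv.Perm (Fin 4)) := by
  have hs : SmallOrd G := fun g => by rcases h g with h | h | h <;> simp [h]
  have : Fact (Nat.Prime 3) := ⟨Nat.prime_three⟩
  obtain ⟨P⟩ : Nonempty (Sylow 3 G) := inferInstance
  have hP : Nat.card P = 3 := by
    rw [P.card_eq_multiplicity, hc]
    have : Nat.factorization 24 3 = 1 := by
      rw [show (24 : ℕ) = 3 * 8 by norm_num, Nat.factorization_mul (by norm_num) (by norm_num)]
      simp [Nat.prime_three.factorization, Nat.factorization_eq_zero_of_not_dvd]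
    rw [this]; rfl
  have hcls : ∀ g : G, orderOf g = 3 → (cls g).ncard = 8 := by
    intro g ho
    have := hs.ncard_cls Nat.prime_three ho (by rw [hc]; norm_num)
    omega
  obtain ⟨w, hw⟩ := exists_prime_orderOf_dvd_card' (G := P) 3 (by rw [hP])
  have hw' : orderOf (w : G) = 3 := by rw [Subgroup.orderOf_coe, hw]
  have hw1 : (w : G) ≠ 1 := by intro e; rw [e, orderOf_one] at hw'; omega
  set N := Subgroup.normalizer (P : Set G) with hN
  have hi : N.index = 4 := by
    have h1 := P.card_eq_index_normalizer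
    have h2 := card_sylow_modEq_one 3 G
    have h3 := P.card_dvd_index
    have h4 := (P : Subgroup G).index_mul_card
    rw [hP, hc] at h4
    have h5 : (P : Subgroup G).index = 8 := by omega
    rw [h5, h1] at h3
    rw [h1] at h2
    have h6 : N.index ≠ 1 := by
      intro e
      rw [Subgroup.index_eq_one] at e
      have : (P : Subgroup G).Normal := Subgroup.normalizer_eq_top_iff.mp e
      have := ncard_cls_lt w.2 hw1
      rw [hcls _ hw', hP] at this
      omega
    have h7 := Nat.le_of_dvd (by norm_num) h3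
    unfold Nat.ModEq at h2
    rw [← hN] at h2 h3 h7
    interval_cases N.index <;> simp_all
  have hNc : Nat.card N = 6 := by
    have := N.index_mul_card
    rw [hi, hc] at this; omega
  obtain ⟨f, hf⟩ := exists_inj_perm _ hi (by
    by_contra hne
    have hle := N.normalCore_le
    have hd := Subgroup.card_dvd_of_le hle
    have hle' := Subgroup.card_le_of_le hle
    rw [hNc] at hd hle'
    by_cases h3 : 3 ∣ Nat.card N.normalCore
    · obtain ⟨g, hg⟩ := exists_prime_orderOf_dvd_card' 3 h3
      have hg' : orderOf (g : G) = 3 := by rw [Subgroup.orderOf_coe, hg]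
      have := ncard_cls_lt g.2 (by intro e; rw [e, orderOf_one] at hg'; omega)
      rw [hcls _ hg'] at this
      omega
    · have h2 : Nat.card N.normalCore = 2 := by
        have h1 : Nat.card N.normalCore ≠ 1 := fun e => hne (Subgroup.card_eq_one.mp e)
        have h0 : 0 < Nat.card N.normalCore := Nat.card_pos
        interval_cases Nat.card N.normalCore <;> simp_all
      obtain ⟨⟨g, hg⟩, hg1⟩ := Subgroup.ne_bot_iff_exists_ne_one.mp hne
      have hg1' : g ≠ 1 := fun e => hg1 (Subtype.ext e)
      have ho : orderOf g = 2 := by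
        have := Subgroup.orderOf_dvd_natCard _ hg
        rw [h2] at this
        exact ((Nat.dvd_prime Nat.prime_two).mp this).resolve_left (by simpa using hg1')
      have h4 := ncard_cls_lt hg hg1'
      obtain ⟨a, -, ha⟩ := hs.card_centralizer Nat.prime_two ho
      have h5 := (Subgroup.centralizer {g}).index_mul_card
      rw [index_centralizer, ha, hc] at h5
      rw [h2] at h4
      have h6 : (cls g).ncard = 1 := by
        rcases Nat.eq_zero_or_pos (cls g).ncard with h0 | h0
        · rw [h0] at h5; omega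
        · omega
      rw [h6, one_mul] at h5
      have : 3 ∣ 2 ^ a := by rw [h5]; norm_num
      exact absurd (Nat.prime_three.dvd_of_dvd_pow this) (by norm_num))
  exact ⟨MulEquiv.ofBijective f ((Nat.bijective_iff_injective_and_card f).mpr
    ⟨hf, by rw [hc, Nat.card_perm, Nat.card_fin]; rfl⟩)⟩

theorem iso_A5 [Finite G] (hc : Nat.card G = 60) (h : ∀ g : G, g ^ 2 = 1 ∨ g ^ 3 = 1 ∨ g ^ 5 = 1) :
    Nonempty (G ≃* alternatingGroup (Fin 5)) := by
  classical
  have hs : SmallOrd G := fun g => by rcases h g with h | h | h <;> simp [h]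
  have : Fact (Nat.Prime 2) := ⟨Nat.prime_two⟩
  have : Fact (Nat.Prime 3) := ⟨Nat.prime_three⟩
  have : Fact (Nat.Prime 5) := ⟨Nat.prime_five⟩
  have hc3 : ∀ g : G, orderOf g = 3 → (cls g).ncard = 20 := by
    intro g ho
    have := hs.ncard_cls Nat.prime_three ho (by rw [hc]; norm_num)
    omega
  have hc5 : ∀ g : G, orderOf g = 5 → (cls g).ncard = 12 := by
    intro g ho
    have := hs.ncard_cls Nat.prime_five ho (by rw [hc]; norm_num)
    omega
  have hcent : ∀ (g : G) (V : Subgroup G), orderOf g = 2 → Nat.card V = 4 → g ∈ V →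
      Subgroup.centralizer {g} = V := by
    intro g V ho hV hg
    obtain ⟨a, -, ha⟩ := hs.card_centralizer Nat.prime_two ho
    have hcomm := IsPGroup.isMulCommutative_of_card_eq_prime_sq (p := 2) (G := V) hV
    have hle : V ≤ Subgroup.centralizer {g} := by
      intro v hv
      rw [Subgroup.mem_centralizer_iff]
      rintro _ rfl
      exact congrArg Subtype.val (hcomm.is_comm.comm ⟨_, hg⟩ ⟨v, hv⟩)
    refine (Subgroup.eq_of_le_of_card_ge hle ?_).symm
    rw [hV, ha]
    by_contra hlt
    have h3 : 3 ≤ a := by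
      by_contra h3
      have : a ≤ 2 := by omega
      exact hlt (Nat.pow_le_pow_right (by norm_num) this)
    have := (pow_dvd_pow 2 h3).trans (ha ▸ Subgroup.card_subgroup_dvd_card (Subgroup.centralizer {g}))
    rw [hc] at this
    norm_num at this
  have hV : ∀ g : G, orderOf g = 2 → ∃ V : Subgroup G, Nat.card V = 4 ∧ g ∈ V := by
    intro g ho
    obtain ⟨V, hV, hle⟩ := Sylow.exists_subgroup_card_pow_succ (p := 2) (n := 1)
      (H := Subgroup.zpowers g) (by rw [hc]; norm_num) (by rw [Nat.card_zpowers, ho]; rfl)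
    exact ⟨V, hV, hle (Subgroup.mem_zpowers g)⟩
  have hc2 : ∀ g : G, orderOf g = 2 → (cls g).ncard = 15 := by
    intro g ho
    obtain ⟨V, hV, hg⟩ := hV g ho
    have := (Subgroup.centralizer {g}).index_mul_card
    rw [index_centralizer, hcent g V ho hV hg, hV, hc] at this
    omega
  obtain ⟨t, ht⟩ := exists_prime_orderOf_dvd_card' (G := G) 2 (by rw [hc]; norm_num)
  obtain ⟨w, hw⟩ := exists_prime_orderOf_dvd_card' (G := G) 3 (by rw [hc]; norm_num)
  obtain ⟨z, hz⟩ := exists_prime_orderOf_dvd_card' (G := G) 5 (by rw [hc]; norm_num)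
  have hord : ∀ {g x : G}, x ∈ cls g → orderOf x = orderOf g := fun hx =>
    orderOf_eq_orderOf_iff.mpr (cls_pow hx)
  have hconj : ∀ t' : G, orderOf t' = 2 → t' ∈ cls t := by
    intro t' ht'
    by_contra hne
    have d1 : Disjoint (cls t) (cls t') := by
      rw [Set.disjoint_left]
      rintro _ ⟨k, rfl⟩ ⟨k', hk'⟩
      exact hne ⟨k'⁻¹ * k, by rw [mul_inv_rev, inv_inv, mul_assoc k'⁻¹, mul_assoc k'⁻¹, ← mul_assoc _ k⁻¹, ← hk']; group⟩
    have d2 : Disjoint (cls t ∪ cls t') (cls w) := by
      rw [Set.disjoint_left]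
      rintro x (hx | hx) hx' <;> have := hord hx <;> have := hord hx' <;> omega
    have d3 : Disjoint (cls t ∪ cls t' ∪ cls w) (cls z) := by
      rw [Set.disjoint_left]
      rintro x ((hx | hx) | hx) hx' <;> have := hord hx <;> have := hord hx' <;> omega
    have := Set.ncard_le_card (cls t ∪ cls t' ∪ cls w ∪ cls z)
    rw [Set.ncard_union_eq d3, Set.ncard_union_eq d2, Set.ncard_union_eq d1, hc2 _ ht, hc2 _ ht',
      hc3 _ hw, hc5 _ hz, hc] at this
    omega
  obtain ⟨V, hV4, htV⟩ := hV t ht
  obtain ⟨t', ht'V, ht'⟩ : ∃ t' ∈ V, t' ∉ Subgroup.zpowers t := by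
    by_contra hcon
    push Not at hcon
    have := Subgroup.card_le_of_le (show V ≤ Subgroup.zpowers t from hcon)
    rw [Nat.card_zpowers, ht, hV4] at this
    omega
  have ht'1 : t' ≠ 1 := fun e => ht' (e ▸ Subgroup.one_mem _)
  have ht'o : orderOf t' = 2 := by
    have h1 := Subgroup.orderOf_dvd_natCard _ ht'V
    rw [hV4] at h1
    have h2 : t' ^ 4 = 1 := orderOf_dvd_iff_pow_eq_one.mp h1
    refine orderOf_eq_prime ?_ ht'1
    rcases h t' with h | h | h
    · exact h
    · exfalso; apply ht'1
      rw [show 4 = 3 + 1 from rfl, pow_succ, h, one_mul] at h2; exact h2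
    · exfalso; apply ht'1
      rw [show 5 = 4 + 1 from rfl, pow_succ, h2, one_mul] at h; exact h
  obtain ⟨k, hk⟩ := hconj t' ht'o
  set N := Subgroup.normalizer (V : Set G) with hN
  have hkN : k ∈ N := by
    rw [hN, Subgroup.mem_normalizer_iff]
    intro x
    conv_lhs => rw [← hcent t V ht hV4 htV]
    rw [← hcent t' V ht'o hV4 ht'V, ← hk]
    simp only [Subgroup.mem_centralizer_iff, Set.mem_singleton_iff, forall_eq]
    constructor
    · intro e
      calc k * t * k⁻¹ * (k * x * k⁻¹) = k * (t * x) * k⁻¹ := by group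
        _ = _ := by rw [e]; group
    · intro e
      calc t * x = k⁻¹ * (k * t * k⁻¹ * (k * x * k⁻¹)) * k := by group
        _ = _ := by rw [e]; group
  have hkV : k ∉ V := by
    intro hkV
    rw [← hcent t V ht hV4 htV, Subgroup.mem_centralizer_iff] at hkV
    have := hkV t rfl
    rw [← this, mul_inv_cancel_right] at hk
    exact ht' (hk ▸ Subgroup.mem_zpowers t)
  have hVN : V ≤ N := Subgroup.le_normalizer
  have hN12 : Nat.card N = 12 := by
    have h1 : Nat.card V < Nat.card N :=
      lt_of_le_of_ne (Subgroup.card_le_of_le hVN)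
        (fun e => hkV (Subgroup.eq_of_le_of_card_ge hVN e.ge ▸ hkN))
    have h2 := Subgroup.card_dvd_of_le hVN
    have h3 := Subgroup.card_subgroup_dvd_card N
    have : (V.subgroupOf N).Normal := Subgroup.normal_in_normalizer
    have h4 := ncard_cls_lt (G := N) (K := V.subgroupOf N) (g := ⟨t, hVN htV⟩) htV
      (fun e => by
        have : t = 1 := congrArg Subtype.val e
        rw [this, orderOf_one] at ht; omega)
    have h5 := (Subgroup.centralizer {(⟨t, hVN htV⟩ : N)}).index_mul_card
    have h6 : Subgroup.centralizer {(⟨t, hVN htV⟩ : N)} = V.subgroupOf N := by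
      ext x
      rw [Subgroup.mem_subgroupOf, ← hcent t V ht hV4 htV]
      simp only [Subgroup.mem_centralizer_singleton_iff, Subtype.ext_iff, Subgroup.coe_mul]
    have h7 : Nat.card (V.subgroupOf N) = 4 := by
      rw [← hV4]; exact Nat.card_congr (Subgroup.subgroupOfEquivOfLe hVN).toEquiv
    rw [index_centralizer, h6, h7] at h5
    rw [h7] at h4
    rw [hV4] at h1 h2
    rw [hc] at h3
    have h8 : Nat.card N ≤ 12 := by omega
    interval_cases Nat.card N <;> simp_all
  have hi : N.index = 5 := by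
    have := N.index_mul_card
    rw [hN12, hc] at this; omega
  obtain ⟨f, hf⟩ := exists_inj_perm _ hi (by
    by_contra hne
    obtain ⟨⟨g, hg⟩, hg1⟩ := Subgroup.ne_bot_iff_exists_ne_one.mp hne
    have hg1' : g ≠ 1 := fun e => hg1 (Subtype.ext e)
    have h1 := ncard_cls_lt hg hg1'
    have h2 := Subgroup.card_le_of_le N.normalCore_le
    rcases h g with h | h | h
    · rw [hc2 g (orderOf_eq_prime h hg1')] at h1; omega
    · rw [hc3 g (orderOf_eq_prime h hg1')] at h1; omega
    · rw [hc5 g (orderOf_eq_prime h hg1')] at h1; omega)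
  exact iso_alt_of_inj f hf (by rw [hc]; rfl)

end Cfsg.Agent.H3
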