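import Mathlib
import Cfsg.Agent.H3.SmallGroups
import Cfsg.Agent.H8.Dickson

/-! Element-wise facts on subgroups isomorphic to `A₄`, `S₄`, `A₅`, and non-maximality tests. -/

set_option autoImplicit false

namespace Cfsg.Agent.H3

open MulAction Equiv
open Cfsg.Agent.H8 (cj mem_cj card_cj)

variable {G : Type*} [Group G]

/-- `M` is a maximal subgroup of `L`. -/
structure MaxIn (M L : Subgroup G) : Prop where
  le : M ≤ L
  ne : M ≠ L
  max : ∀ K, M ≤ K → K ≤ L → K = M ∨ K = L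

theorem MaxIn.eq_of_ne {M L K : Subgroup G} (h : MaxIn M L) (h1 : M ≤ K) (h2 : K ≤ L)
    (h3 : K ≠ L) : M = K := ((h.max K h1 h2).resolve_right h3).symm

theorem maxIn_top {M : Subgroup G} : MaxIn M ⊤ ↔ IsCoatom M := by
  constructor
  · intro h
    exact ⟨h.ne, fun K hK => (h.max K hK.le le_top).resolve_left hK.ne'⟩
  · intro h
    refine ⟨le_top, h.1, fun K hK _ => ?_⟩
    by_cases e : K = M
    · exact Or.inl e
    · exact Or.inr (h.2 K (lt_of_le_of_ne hK (Ne.symm e)))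

theorem MaxIn.conj {M L : Subgroup G} (h : MaxIn M L) (g : G) : MaxIn (cj g M) (cj g L) := by
  refine ⟨H8.cj_mono g h.le, fun e => h.ne ?_, fun K h1 h2 => ?_⟩
  · rw [← H8.cj_inv_cj g M, e, H8.cj_inv_cj]
  · have h3 := H8.cj_mono g⁻¹ h1
    have h4 := H8.cj_mono g⁻¹ h2
    rw [H8.cj_inv_cj] at h3 h4
    rcases h.max _ h3 h4 with e | e
    · left; rw [← e, H8.cj_cj_inv]
    · right; rw [← e, H8.cj_cj_inv]

theorem cj_normal {L : Subgroup G} [hL : L.Normal] (g : G) : cj g L = L := by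
  ext x
  rw [mem_cj]
  constructor
  · intro h
    have := hL.conj_mem _ h g
    simpa [mul_assoc] using this
  · intro h
    simpa using hL.conj_mem _ h g⁻¹

theorem cj_inf (g : G) (A B : Subgroup G) : cj g (A ⊓ B) = cj g A ⊓ cj g B := by
  ext x; simp only [mem_cj, Subgroup.mem_inf]

/-- The isomorphism of a subgroup with its conjugate. -/
noncomputable def cjEquiv (g : G) (A : Subgroup G) : A ≃* cj g A :=
  Subgroup.equivMapOfInjective A _ (MulAut.conj g).injective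

theorem exists_hom_of_iso {H : Subgroup G} {X : Type*} [Group X] (e : Nonempty (H ≃* X)) :
    ∃ ψ : X →* G, Function.Injective ψ ∧ (∀ x, ψ x ∈ H) ∧ ∀ g ∈ H, ∃ x, ψ x = g := by
  obtain ⟨e⟩ := e
  refine ⟨H.subtype.comp e.symm.toMonoidHom, H.subtype_injective.comp e.symm.injective,
    fun x => (e.symm x).2, fun g hg => ⟨e ⟨g, hg⟩, by simp⟩⟩

theorem le_of_sq_mem_alt {H K : Subgroup G} {n : ℕ} (e : Nonempty (H ≃* alternatingGroup (Fin n)))
    (hK : ∀ g ∈ H, g * g ∈ K) : H ≤ K := by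
  obtain ⟨ψ, -, h1, h2⟩ := exists_hom_of_iso e
  have : alternatingGroup (Fin n) ≤ (K.comap ψ).map (alternatingGroup (Fin n)).subtype := by
    conv_lhs => rw [← Perm.closure_three_cycles_eq_alternating]
    rw [Subgroup.closure_le]
    intro σ hσ
    refine ⟨⟨σ, hσ.mem_alternatingGroup⟩, ?_, rfl⟩
    have h3 : (⟨σ, hσ.mem_alternatingGroup⟩ : alternatingGroup (Fin n)) =
        (⟨σ, hσ.mem_alternatingGroup⟩ * ⟨σ, hσ.mem_alternatingGroup⟩) *
          (⟨σ, hσ.mem_alternatingGroup⟩ * ⟨σ, hσ.mem_alternatingGroup⟩) := by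
      apply Subtype.ext
      have h4 : σ ^ 3 = 1 := by
        rw [← Perm.IsThreeCycle.orderOf hσ]; exact pow_orderOf_eq_one σ
      simp only [Subgroup.coe_mul]
      calc σ = σ ^ 3 * σ := by rw [h4, one_mul]
        _ = _ := by simp only [pow_succ, pow_zero, one_mul, mul_assoc]
    change ψ _ ∈ K
    rw [h3, map_mul]
    exact hK _ (h1 _)
  intro g hg
  obtain ⟨x, rfl⟩ := h2 g hg
  obtain ⟨y, hy, e⟩ := this x.2
  have : y = x := Subtype.ext e
  exact this ▸ hy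

/-- Two commuting distinct involutions. -/
structure KleinPair (i j : G) : Prop where
  ii : i * i = 1
  jj : j * j = 1
  comm : i * j = j * i
  i1 : i ≠ 1
  j1 : j ≠ 1
  ij : i ≠ j

theorem KleinPair.map {X : Type*} [Group X] {i j : X} (h : KleinPair i j) {ψ : X →* G}
    (hψ : Function.Injective ψ) : KleinPair (ψ i) (ψ j) :=
  ⟨by rw [← map_mul, h.ii, map_one], by rw [← map_mul, h.jj, map_one],
    by rw [← map_mul, h.comm, map_mul], by simpa [map_eq_one_iff _ hψ] using h.i1,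
    by simpa [map_eq_one_iff _ hψ] using h.j1, hψ.ne h.ij⟩

theorem KleinPair.conj {i j : G} (h : KleinPair i j) (g : G) :
    KleinPair (g * i * g⁻¹) (g * j * g⁻¹) := h.map (ψ := (MulAut.conj g).toMonoidHom) (MulAut.conj g).injective

/-- The Klein four group of a pair. -/
def KleinPair.V {i j : G} (h : KleinPair i j) : Subgroup G where
  carrier := {1, i, j, i * j}
  one_mem' := Or.inl rfl
  mul_mem' := by
    have e1 : ∀ x, i * (i * x) = x := fun x => by rw [← mul_assoc, h.ii, one_mul]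
    have e3 : ∀ x, j * (i * x) = i * (j * x) := fun x => by rw [← mul_assoc, ← h.comm, mul_assoc]
    rintro a b (rfl | rfl | rfl | rfl) (rfl | rfl | rfl | rfl) <;>
      simp [mul_assoc, e1, e3, h.ii, h.jj, ← h.comm]
  inv_mem' := by
    rintro a (rfl | rfl | rfl | rfl)
    · simp
    · simp [inv_eq_of_mul_eq_one_right h.ii]
    · simp [inv_eq_of_mul_eq_one_right h.jj]
    · simp [inv_eq_of_mul_eq_one_right h.ii, inv_eq_of_mul_eq_one_right h.jj, h.comm]

theorem KleinPair.mem_V {i j : G} (h : KleinPair i j) {x : G} :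
    x ∈ h.V ↔ x = 1 ∨ x = i ∨ x = j ∨ x = i * j := Iff.rfl

theorem KleinPair.ij1 {i j : G} (h : KleinPair i j) : i * j ≠ 1 := fun e =>
  h.ij (by rw [← mul_one i, ← h.jj, ← mul_assoc, e, one_mul])

theorem KleinPair.card_V {i j : G} (h : KleinPair i j) : Nat.card h.V = 4 := by
  classical
  have : (h.V : Set G) = ({1, i, j, i * j} : Finset G) := by
    ext x; simp [h.mem_V]
  rw [show Nat.card h.V = (h.V : Set G).ncard from rfl, this, Set.ncard_coe_finset,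
    Finset.card_insert_of_notMem, Finset.card_insert_of_notMem, Finset.card_pair]
  · simpa using h.i1
  · simp [h.ij, h.j1]
  · simp [h.i1.symm, h.j1.symm, h.ij1.symm]

theorem KleinPair.V_le {i j : G} (h : KleinPair i j) {H : Subgroup G} (hi : i ∈ H) (hj : j ∈ H) :
    h.V ≤ H := by
  rintro a (rfl | rfl | rfl | rfl)
  exacts [H.one_mem, hi, hj, H.mul_mem hi hj]

/-- The normaliser of the Klein four group of a pair. -/
def NV (i j : G) : Subgroup G := Subgroup.normalizer ({1, i, j, i * j} : Set G)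

theorem mem_NV {i j g : G} : g ∈ NV i j ↔
    (g * i * g⁻¹ = 1 ∨ g * i * g⁻¹ = i ∨ g * i * g⁻¹ = j ∨ g * i * g⁻¹ = i * j) ∧
    (g * j * g⁻¹ = 1 ∨ g * j * g⁻¹ = i ∨ g * j * g⁻¹ = j ∨ g * j * g⁻¹ = i * j) ∧
    (g * (i * j) * g⁻¹ = 1 ∨ g * (i * j) * g⁻¹ = i ∨ g * (i * j) * g⁻¹ = j ∨
      g * (i * j) * g⁻¹ = i * j) := by
  constructor
  · intro h
    exact ⟨(h i).mp (by simp), (h j).mp (by simp), (h (i * j)).mp (by simp)⟩
  · rintro ⟨h1, h2, h3⟩
    apply Subgroup.mem_normalizer_fintype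
    rintro a (rfl | rfl | rfl | rfl)
    · simp
    exacts [h1, h2, h3]

theorem map_mem_NV {X : Type*} [Group X] {i j g : X} (h : g ∈ NV i j) (ψ : X →* G) :
    ψ g ∈ NV (ψ i) (ψ j) := by
  rw [mem_NV] at h ⊢
  simp only [← map_mul, ← map_inv]
  obtain ⟨h1, h2, h3⟩ := h
  refine ⟨?_, ?_, ?_⟩
  · rcases h1 with h | h | h | h <;> simp [h]
  · rcases h2 with h | h | h | h <;> simp [h]
  · rcases h3 with h | h | h | h <;> simp [h]

theorem cj_NV (g i j : G) : cj g (NV i j) = NV (g * i * g⁻¹) (g * j * g⁻¹) := by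
  ext x
  rw [mem_cj]
  constructor
  · intro h
    have := map_mem_NV h (MulAut.conj g).toMonoidHom
    simpa [mul_assoc] using this
  · intro h
    have := map_mem_NV h (MulAut.conj g⁻¹).toMonoidHom
    simpa [mul_assoc] using this

/-- The `(3,3,2)` triangle property. -/
def Tri (H : Subgroup G) : Prop :=
  ∃ a ∈ H, ∃ b ∈ H, a ^ 3 = 1 ∧ b ^ 3 = 1 ∧ (a * b) ^ 2 = 1 ∧ a * b ≠ 1

theorem Tri.mono {H K : Subgroup G} (h : Tri H) (hle : H ≤ K) : Tri K := by
  obtain ⟨a, ha, b, hb, h⟩ := h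
  exact ⟨a, hle ha, b, hle hb, h⟩

theorem tri_of_hom {X : Type*} [Group X] {H : Subgroup G} (e : Nonempty (H ≃* X))
    (h : ∃ a b : X, a ^ 3 = 1 ∧ b ^ 3 = 1 ∧ (a * b) ^ 2 = 1 ∧ a * b ≠ 1) : Tri H := by
  obtain ⟨ψ, h0, h1, -⟩ := exists_hom_of_iso e
  obtain ⟨a, b, h2, h3, h4, h5⟩ := h
  refine ⟨ψ a, h1 a, ψ b, h1 b, ?_, ?_, ?_, ?_⟩
  · rw [← map_pow, h2, map_one]
  · rw [← map_pow, h3, map_one]
  · rw [← map_mul, ← map_pow, h4, map_one]
  · rw [← map_mul]; exact fun e => h5 (h0 (by rw [e, map_one]))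

theorem tri_A4 {H : Subgroup G} (e : Nonempty (H ≃* alternatingGroup (Fin 4))) : Tri H :=
  tri_of_hom e ⟨⟨swap 0 1 * swap 1 2, Perm.mem_alternatingGroup.mpr (by decide)⟩, ⟨swap 1 2 * swap 2 3, Perm.mem_alternatingGroup.mpr (by decide)⟩, by decide⟩

theorem tri_S4 {H : Subgroup G} (e : Nonempty (H ≃* Perm (Fin 4))) : Tri H :=
  tri_of_hom e ⟨swap 0 1 * swap 1 2, swap 1 2 * swap 2 3, by decide⟩

theorem tri_A5 {H : Subgroup G} (e : Nonempty (H ≃* alternatingGroup (Fin 5))) : Tri H :=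
  tri_of_hom e ⟨⟨swap 0 1 * swap 1 2, Perm.mem_alternatingGroup.mpr (by decide)⟩, ⟨swap 1 2 * swap 2 3, Perm.mem_alternatingGroup.mpr (by decide)⟩, by decide⟩

theorem klein_S4_aux : ∀ g : Perm (Fin 4), g ∈ NV (swap 0 1 * swap 2 3 : Perm (Fin 4)) (swap 0 2 * swap 1 3) := by
  simp only [mem_NV]
  decide +kernel

theorem klein_A4 {H : Subgroup G} (e : Nonempty (H ≃* alternatingGroup (Fin 4))) :
    ∃ i ∈ H, ∃ j ∈ H, KleinPair i j ∧ H ≤ NV i j := by
  obtain ⟨ψ, h0, h1, h2⟩ := exists_hom_of_iso e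
  refine ⟨ψ ⟨swap 0 1 * swap 2 3, Perm.mem_alternatingGroup.mpr (by decide)⟩, h1 _, ψ ⟨swap 0 2 * swap 1 3, Perm.mem_alternatingGroup.mpr (by decide)⟩, h1 _,
    KleinPair.map ⟨by decide, by decide, by decide, by decide, by decide, by decide⟩ h0, ?_⟩
  intro g hg
  obtain ⟨x, rfl⟩ := h2 g hg
  apply map_mem_NV
  have := klein_S4_aux x
  rw [mem_NV] at this ⊢
  simpa [Subtype.ext_iff] using this

theorem klein_S4 {H : Subgroup G} (e : Nonempty (H ≃* Perm (Fin 4))) :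
    ∃ r ∈ H, ∃ s ∈ H, KleinPair (r * r) (s * s) ∧ H ≤ NV (r * r) (s * s) := by
  obtain ⟨ψ, h0, h1, h2⟩ := exists_hom_of_iso e
  have e1 : (swap 0 2 * swap 2 1 * swap 1 3 : Perm (Fin 4)) * (swap 0 2 * swap 2 1 * swap 1 3) =
      swap 0 1 * swap 2 3 := by decide
  have e2 : (swap 0 1 * swap 1 2 * swap 2 3 : Perm (Fin 4)) * (swap 0 1 * swap 1 2 * swap 2 3) =
      swap 0 2 * swap 1 3 := by decide
  refine ⟨ψ (swap 0 2 * swap 2 1 * swap 1 3), h1 _, ψ (swap 0 1 * swap 1 2 * swap 2 3), h1 _, ?_⟩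
  rw [← map_mul, ← map_mul, e1, e2]
  refine ⟨KleinPair.map ⟨by decide, by decide, by decide, by decide, by decide, by decide⟩ h0, ?_⟩
  intro g hg
  obtain ⟨x, rfl⟩ := h2 g hg
  exact map_mem_NV (klein_S4_aux x) ψ

theorem klein_A5 {H : Subgroup G} (e : Nonempty (H ≃* alternatingGroup (Fin 5))) :
    ∃ i ∈ H, ∃ j ∈ H, KleinPair i j := by
  obtain ⟨ψ, h0, h1, -⟩ := exists_hom_of_iso e
  exact ⟨ψ ⟨swap 0 1 * swap 2 3, Perm.mem_alternatingGroup.mpr (by decide)⟩, h1 _, ψ ⟨swap 0 2 * swap 1 3, Perm.mem_alternatingGroup.mpr (by decide)⟩, h1 _,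
    KleinPair.map ⟨by decide, by decide, by decide, by decide, by decide, by decide⟩ h0⟩

/-- Elements of order `r` are real and generate non-normal subgroups. -/
def RealNN (r : ℕ) (H : Subgroup G) : Prop :=
  ∀ c ∈ H, c ^ r = 1 → c ≠ 1 → (∃ t ∈ H, t * c * t⁻¹ = c⁻¹) ∧
    ∃ u ∈ H, u * c * u⁻¹ * c ≠ c * (u * c * u⁻¹)

theorem realNN_of_hom {X : Type*} [Group X] {H : Subgroup G} (e : Nonempty (H ≃* X)) {r : ℕ}
    (h : ∀ c : X, c ^ r = 1 → c ≠ 1 → (∃ t, t * c * t⁻¹ = c⁻¹) ∧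
      ∃ u, u * c * u⁻¹ * c ≠ c * (u * c * u⁻¹)) : RealNN r H := by
  obtain ⟨ψ, h0, h1, h2⟩ := exists_hom_of_iso e
  intro c hc hr hc1
  obtain ⟨x, rfl⟩ := h2 c hc
  obtain ⟨⟨t, ht⟩, u, hu⟩ := h x (h0 (by rw [map_pow, hr, map_one])) (fun e => hc1 (by rw [e, map_one]))
  refine ⟨⟨ψ t, h1 t, by rw [← map_inv, ← map_mul, ← map_mul, ht, map_inv]⟩, ψ u, h1 u, fun e => hu (h0 ?_)⟩
  simpa using e

theorem realNN_S4 {H : Subgroup G} (e : Nonempty (H ≃* Perm (Fin 4))) : RealNN 3 H :=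
  realNN_of_hom e (by decide +kernel)

theorem realNN_A5_aux : ∀ c : Perm (Fin 5), c ^ 5 = 1 → c ≠ 1 →
    (∃ t : Perm (Fin 5), Perm.sign t = 1 ∧ t * c * t⁻¹ = c⁻¹) ∧
    ∃ u : Perm (Fin 5), Perm.sign u = 1 ∧ u * c * u⁻¹ * c ≠ c * (u * c * u⁻¹) := by decide +kernel

theorem realNN_A5 {H : Subgroup G} (e : Nonempty (H ≃* alternatingGroup (Fin 5))) : RealNN 5 H :=
  realNN_of_hom e (by
    intro c h1 h2
    obtain ⟨⟨t, ht, ht'⟩, u, hu, hu'⟩ := realNN_A5_aux c (congrArg Subtype.val h1)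
      (fun e => h2 (Subtype.ext e))
    exact ⟨⟨⟨t, ht⟩, Subtype.ext ht'⟩, ⟨u, hu⟩, fun e => hu' (congrArg Subtype.val e)⟩)

theorem not_real_A4_aux : ∀ c t : Perm (Fin 4), Perm.sign t = 1 → c ^ 3 = 1 → t * c * t⁻¹ = c⁻¹ →
    c = 1 := by decide +kernel

theorem not_real_A4 {H : Subgroup G} (e : Nonempty (H ≃* alternatingGroup (Fin 4))) {c t : G}
    (hc : c ∈ H) (ht : t ∈ H) (h3 : c ^ 3 = 1) (h : t * c * t⁻¹ = c⁻¹) : c = 1 := by
  obtain ⟨ψ, h0, -, h2⟩ := exists_hom_of_iso e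
  obtain ⟨x, rfl⟩ := h2 c hc
  obtain ⟨y, rfl⟩ := h2 t ht
  have e1 : x ^ 3 = 1 := h0 (by rw [map_pow, h3, map_one])
  have e2 : y * x * y⁻¹ = x⁻¹ := h0 (by simpa using h)
  have : x = 1 := Subtype.ext (not_real_A4_aux x y y.2 (congrArg Subtype.val e1) (congrArg Subtype.val e2))
  rw [this, map_one]

theorem exists_le_cj [Finite G] {p : ℕ} (hp : p.Prime) {L X P : Subgroup G} (hX : X ≤ L) (hP : P ≤ L)
    (hPp : IsPGroup p P) {m : ℕ} (hm : Nat.card L = Nat.card X * m) (hpm : ¬ p ∣ m) :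
    ∃ k ∈ L, P ≤ cj k X := by
  have : Fact p.Prime := ⟨hp⟩
  have hi : (X.subgroupOf L).index = m := by
    have h1 := (X.subgroupOf L).card_mul_index
    rw [Nat.card_congr (Subgroup.subgroupOfEquivOfLe hX).toEquiv, hm] at h1
    exact Nat.eq_of_mul_eq_mul_left Nat.card_pos h1
  obtain ⟨c, hc⟩ := (hPp.comap_subtype (K := L)).nonempty_fixed_point_of_prime_not_dvd_card
    (L ⧸ X.subgroupOf L) (by rw [← hi] at hpm; exact hpm)
  obtain ⟨k, rfl⟩ := QuotientGroup.mk_surjective c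
  refine ⟨k, k.2, fun g hg => ?_⟩
  have : (((⟨g, hP hg⟩ : L) * k : L) : L ⧸ X.subgroupOf L) = k := hc ⟨⟨g, hP hg⟩, hg⟩
  have := QuotientGroup.eq.1 this.symm
  rw [← mul_assoc, Subgroup.mem_subgroupOf] at this
  exact mem_cj.mpr this

theorem cj_le_of_mem {L X : Subgroup G} (hX : X ≤ L) {k : G} (hk : k ∈ L) : cj k X ≤ L :=
  (H8.cj_mono k hX).trans (H8.cj_eq_self_of_mem hk).le

theorem MaxIn.not_pgroup [Finite G] {p : ℕ} (hp : p.Prime) {L X M : Subgroup G} (h : MaxIn M L)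
    (hX : X ≤ L) (hMp : IsPGroup p M) {m : ℕ} (hm : Nat.card L = Nat.card X * m) (hpm : ¬ p ∣ m)
    (hm1 : m ≠ 1) (hlt : Nat.card M ≠ Nat.card X) : False := by
  obtain ⟨k, hk, hle⟩ := exists_le_cj hp hX h.le hMp hm hpm
  rcases h.max _ hle (cj_le_of_mem hX hk) with e | e
  · exact hlt (by rw [← e, card_cj])
  · rw [← e, card_cj] at hm
    exact hm1 (Nat.eq_of_mul_eq_mul_left Nat.card_pos (by rw [← hm, mul_one]))

theorem RealNN.conj {r : ℕ} {X : Subgroup G} (h : RealNN r X) (k : G) : RealNN r (cj k X) := by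
  intro c hc hr hc1
  obtain ⟨⟨t, ht, ht'⟩, u, hu, hu'⟩ := h (k⁻¹ * c * k) (mem_cj.mp hc)
    (by rw [show k⁻¹ * c * k = k⁻¹ * c * k⁻¹⁻¹ by rw [inv_inv], conj_pow, hr]; simp)
    (fun e => hc1 (by rw [show c = k * (k⁻¹ * c * k) * k⁻¹ by group, e]; simp))
  refine ⟨⟨k * t * k⁻¹, mem_cj.mpr (by simpa [mul_assoc] using ht), ?_⟩, k * u * k⁻¹,
    mem_cj.mpr (by simpa [mul_assoc] using hu), fun e => hu' ?_⟩
  · calc _ = k * (t * (k⁻¹ * c * k) * t⁻¹) * k⁻¹ := by group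
      _ = _ := by rw [ht']; group
  · calc _ = k⁻¹ * (k * u * k⁻¹ * c * (k * u * k⁻¹)⁻¹ * c) * k := by group
      _ = _ := by rw [e]; group

theorem MaxIn.not_dihedral [Finite G] {r : ℕ} (hr : r.Prime) (hr2 : r ≠ 2) {L X M : Subgroup G}
    (h : MaxIn M L) (hX : X ≤ L) (hM : Nat.card M = 2 * r) {m : ℕ}
    (hm : Nat.card L = Nat.card X * m) (hpm : ¬ r ∣ m) (hm1 : m ≠ 1) (hreal : RealNN r X) : False := by
  have : Fact r.Prime := ⟨hr⟩
  obtain ⟨⟨c, hcM⟩, hc⟩ := exists_prime_orderOf_dvd_card' (G := M) r (by rw [hM]; simp)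
  rw [← Subgroup.orderOf_coe] at hc
  simp only at hc
  have hzle : Subgroup.zpowers c ≤ M := by simpa using hcM
  have hzc : Nat.card (Subgroup.zpowers c) = r := by rw [Nat.card_zpowers, hc]
  obtain ⟨k, hk, hle⟩ := exists_le_cj hr hX (hzle.trans h.le)
    (IsPGroup.of_card (n := 1) (by rw [hzc, pow_one])) hm hpm
  have hc1 : c ≠ 1 := by intro e; rw [e, orderOf_one] at hc; exact hr.one_lt.ne hc
  obtain ⟨⟨t, ht, ht'⟩, u, hu, hu'⟩ := hreal.conj k c (hle (Subgroup.mem_zpowers c))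
    (hc ▸ pow_orderOf_eq_one c) hc1
  have hX' := cj_le_of_mem hX hk
  have hMN : M ≤ Subgroup.normalizer (Subgroup.zpowers c : Set G) := by
    have hi : ((Subgroup.zpowers c).subgroupOf M).index = 2 := by
      have h1 := ((Subgroup.zpowers c).subgroupOf M).card_mul_index
      rw [Nat.card_congr (Subgroup.subgroupOfEquivOfLe hzle).toEquiv, hzc, hM, mul_comm 2] at h1
      exact Nat.eq_of_mul_eq_mul_left hr.pos h1
    have := Subgroup.normal_of_index_eq_two hi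
    exact (Subgroup.normal_subgroupOf_iff_le_normalizer hzle).mp this
  have huN : u ∉ Subgroup.normalizer (Subgroup.zpowers c : Set G) := by
    intro huN
    obtain ⟨n, hn⟩ := (Subgroup.mem_normalizer_iff.mp huN c).mp (Subgroup.mem_zpowers c)
    apply hu'
    rw [← hn]
    exact (Commute.zpow_left (Commute.refl c) n)
  have hN : M = Subgroup.normalizer (Subgroup.zpowers c : Set G) ⊓ L :=
    h.eq_of_ne (le_inf hMN h.le) inf_le_right (fun e => huN (e.ge (hX' hu)).1)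
  have htM : t ∈ M := by
    rw [hN]
    refine ⟨Subgroup.mem_normalizer_fintype ?_, hX' ht⟩
    rintro _ ⟨n, rfl⟩
    refine ⟨-n, ?_⟩
    simp only
    rw [← conj_zpow, ht']
    simp
  have htz : t ∉ Subgroup.zpowers c := by
    rintro ⟨n, rfl⟩
    simp only at ht'
    rw [(Commute.zpow_left (Commute.refl c) n).eq, mul_inv_cancel_right] at ht'
    have h2 : c ^ 2 = 1 := by rw [pow_two]; nth_rewrite 1 [ht']; simp
    have := orderOf_dvd_of_pow_eq_one h2
    rw [hc] at this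
    exact hr2 ((Nat.prime_dvd_prime_iff_eq hr Nat.prime_two).mp this)
  have hMX : M ≤ cj k X := by
    have h1 : Subgroup.zpowers c ≤ M ⊓ cj k X := le_inf hzle hle
    have h2 := Subgroup.card_dvd_of_le h1
    have h3 := Subgroup.card_dvd_of_le (inf_le_left : M ⊓ cj k X ≤ M)
    have h4 : Nat.card (Subgroup.zpowers c) ≠ Nat.card (M ⊓ cj k X : Subgroup G) := fun e =>
      htz (Subgroup.eq_of_le_of_card_ge h1 e.ge ▸ ⟨htM, ht⟩)
    rw [hzc] at h2 h4
    rw [hM] at h3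
    obtain ⟨a, ha⟩ := h2
    rw [ha, mul_comm 2] at h3
    have h5 := Nat.le_of_dvd (by norm_num) (Nat.dvd_of_mul_dvd_mul_left hr.pos h3)
    have h6 : a ≠ 0 := by rintro rfl; exact Nat.card_pos.ne' ha
    have h7 : a ≠ 1 := by rintro rfl; exact h4 (by rw [ha, mul_one])
    have h8 : a = 2 := by omega
    rw [← Subgroup.eq_of_le_of_card_ge (inf_le_left : M ⊓ cj k X ≤ M) (by rw [hM, ha, h8, mul_comm])]
    exact inf_le_right
  rcases h.max _ hMX hX' with e | e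
  · exact huN (hMN (e ▸ hu))
  · rw [← e, card_cj] at hm
    exact hm1 (Nat.eq_of_mul_eq_mul_left Nat.card_pos (by rw [← hm, mul_one]))

end Cfsg.Agent.H3
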