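import Mathlib
import Cfsg.Agent.H3.SmallGroups2
import Cfsg.Agent.H3.FinSub
import Cfsg.Agent.H8.Basic

/-! Orders and isomorphism types of the geometric subgroups of `PGL(2, F)`. -/

set_option autoImplicit false

namespace Cfsg.Agent.H3

open MulAction Matrix OnePoint
open scoped MatrixGroups
open Matrix.ProjGenLinGroup (mk)
open Cfsg.Agent.H8

variable {F K : Type*} [Field F] [Field K]

instance finitePGL [Finite F] : Finite PGL(2, F) :=
  Finite.of_surjective _ ProjGenLinGroup.mk_surjective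

theorem card_PGL [Finite F] : Nat.card PGL(2, F) = Nat.card F * (Nat.card F ^ 2 - 1) := by
  classical
  have := Fintype.ofFinite F
  have h1 := Matrix.card_GL_field (𝔽 := F) 2
  have h2 := Subgroup.card_eq_card_quotient_mul_card_subgroup (Subgroup.center (GL (Fin 2) F))
  have h3 : Nat.card (Subgroup.center (GL (Fin 2) F)) = Nat.card F - 1 := by
    rw [GeneralLinearGroup.center_eq_range_scalar, ← Nat.card_units]
    refine (Nat.card_congr (MonoidHom.ofInjective ?_).toEquiv).symm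
    intro a b hab
    have := congrArg (fun g : GL (Fin 2) F => g 0 0) hab
    simpa [Units.ext_iff] using this
  rw [h1, h3, Fin.prod_univ_two, ← Nat.card_eq_fintype_card] at h2
  have h4 : 1 < Nat.card F := Finite.one_lt_card
  change _ = Nat.card PGL(2, F) * _ at h2
  apply Nat.eq_of_mul_eq_mul_right (show 0 < Nat.card F - 1 by omega)
  rw [← h2]
  simp only [Fin.val_zero, pow_zero, Fin.val_one, pow_one]
  rw [show Nat.card F ^ 2 - Nat.card F = Nat.card F * (Nat.card F - 1) by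
    rw [Nat.mul_sub_one, pow_two]]
  ring

instance normal_Lsub : (Lsub F).Normal := ⟨by
  intro a ha g
  induction a using ProjGenLinGroup.induction_on with | mk a =>
  induction g using ProjGenLinGroup.induction_on with | mk g =>
  rw [← map_inv, ← map_mul, ← map_mul]
  rw [mk_mem_Lsub, ← det_fin_two] at *
  rwa [Units.val_mul, Units.val_mul, Matrix.det_units_conj]⟩

theorem mul_self_mem_Lsub [Finite F] (g : PGL(2, F)) : g * g ∈ Lsub F := by
  by_cases h : g ∈ Lsub F
  · exact (Lsub F).mul_mem h h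
  · exact mul_mem_Lsub_of_not h h

theorem Lsub_eq_top [Finite F] (h2 : (2 : F) = 0) : Lsub F = ⊤ := by
  rw [eq_top_iff]
  intro g _
  induction g using ProjGenLinGroup.induction_on with | mk g =>
  have : CharP F 2 := CharTwo.of_one_ne_zero_of_two_eq_zero one_ne_zero h2
  exact mk_mem_Lsub.mpr (FiniteField.isSquare_of_char_two (ringChar.eq F 2) _)

theorem two_mul_card_inf {G : Type*} [Group G] [Finite G] {A C : Subgroup G} {a : G} (ha : a ∈ A)
    (haC : a ∉ C) (h : ∀ b ∈ A, b ∉ C → b * a ∈ C) :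
    2 * Nat.card (A ⊓ C : Subgroup G) = Nat.card A ∧ (C.subgroupOf A).index = 2 := by
  have hi : (C.subgroupOf A).index = 2 := by
    refine Subgroup.relIndex_eq_two_iff_exists_notMem_and.mpr ⟨a, ha, haC, fun b hb => ?_⟩
    by_cases hbC : b ∈ C
    · exact Or.inr hbC
    · exact Or.inl (h b hb hbC)
  refine ⟨?_, hi⟩
  rw [← (C.subgroupOf A).index_mul_card, hi, ← Subgroup.inf_subgroupOf_left,
    Nat.card_congr (Subgroup.subgroupOfEquivOfLe inf_le_left).toEquiv]

theorem two_mul_card_inf_Lsub [Finite F] {A : Subgroup PGL(2, F)} (h : ¬ A ≤ Lsub F) :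
    2 * Nat.card (A ⊓ Lsub F : Subgroup PGL(2, F)) = Nat.card A := by
  obtain ⟨a, ha, haL⟩ := SetLike.not_le_iff_exists.mp h
  exact (two_mul_card_inf ha haL (fun b _ hb => mul_mem_Lsub_of_not hb haL)).1

/-- The pointwise stabiliser of two points. -/
noncomputable def fix2 (F : Type*) {K : Type*} [Field F] [Field K] [Algebra F K] (x y : OnePoint K) :
    Subgroup PGL(2, F) := stabilizer PGL(2, F) x ⊓ stabilizer PGL(2, F) y

theorem mem_fix2 [Algebra F K] {x y : OnePoint K} {g : PGL(2, F)} :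
    g ∈ fix2 F x y ↔ g • x = x ∧ g • y = y := Iff.rfl

theorem cj_fix2 [Algebra F K] (g : PGL(2, F)) (x y : OnePoint K) :
    cj g (fix2 F x y) = fix2 F (g • x) (g • y) := by
  ext h
  simp only [mem_cj, mem_fix2, mul_smul, inv_smul_eq_iff]

theorem cj_pairStab [Algebra F K] (g : PGL(2, F)) (x y : OnePoint K) :
    cj g (pairStab F x y) = pairStab F (g • x) (g • y) := by
  ext h
  simp only [mem_cj, mem_pairStab, mul_smul, inv_smul_eq_iff]

theorem cj_stabilizer [Algebra F K] (g : PGL(2, F)) (x : OnePoint K) :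
    cj g (stabilizer PGL(2, F) x) = stabilizer PGL(2, F) (g • x) := by
  ext h
  simp only [mem_cj, mem_stabilizer_iff, mul_smul, inv_smul_eq_iff]

theorem fix2_le_pairStab [Algebra F K] (x y : OnePoint K) : fix2 F x y ≤ pairStab F x y :=
  fun _ h => Or.inl h

theorem isCyclic_fix2 [Algebra F K] [Finite F] {x y : OnePoint K} (hxy : x ≠ y) :
    IsCyclic (fix2 F x y) := by
  obtain ⟨χ, hχ⟩ := exists_multiplier x
  let c : fix2 F x y →* stabilizer PGL(2, K) x :=
    { toFun := fun g => ⟨ProjGenLinGroup.map (algebraMap F K) (g : PGL(2, F)), by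
        rw [mem_stabilizer_iff, pglMap_smul]; exact g.2.1⟩
      map_one' := by ext; simp
      map_mul' := by intro a b; ext; simp }
  refine isCyclic_of_injective_ringHom (χ.comp c) ?_
  rw [injective_iff_map_eq_one]
  intro g hg
  have := ((hχ _).1 hg).2 y hxy.symm (by
    change ProjGenLinGroup.map (algebraMap F K) (g : PGL(2, F)) • y = y
    rw [pglMap_smul]; exact g.2.2)
  apply Subtype.ext
  apply pglMap_injective (algebraMap F K)
  rw [Subgroup.coe_one, map_one]
  exact this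

theorem fix2_comm [Algebra F K] [Finite F] {x y : OnePoint K} (hxy : x ≠ y) {a b : PGL(2, F)}
    (ha : a ∈ fix2 F x y) (hb : b ∈ fix2 F x y) : a * b = b * a := by
  have := isCyclic_fix2 (F := F) hxy
  exact congrArg Subtype.val (IsCyclic.isMulCommutative.is_comm.comm (⟨a, ha⟩ : fix2 F x y) ⟨b, hb⟩)

theorem mul_self_of_swap [Algebra F K] {x y : OnePoint K} (hxy : x ≠ y) {g : PGL(2, F)}
    (h1 : g • x = y) (h2 : g • y = x) : g * g = 1 := by
  obtain ⟨k, k1, k2⟩ := exists_smul_two hxy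
  obtain ⟨a, ha⟩ := ProjGenLinGroup.mk_surjective (k * ProjGenLinGroup.map (algebraMap F K) g * k⁻¹)
  have e1 : mk a • (∞ : OnePoint K) = (0 : K) := by
    rw [ha, ← k1, conj_smul_smul, pglMap_smul, h1, k2]
  have e2 : mk a • ((0 : K) : OnePoint K) = ∞ := by
    rw [ha, ← k2, conj_smul_smul, pglMap_smul, h2, k1]
  rw [smul_infty_eq_coe] at e1
  rw [smul_coe_eq_infty] at e2
  simp only [Algebra.algebraMap_self, RingHom.id_apply, zero_mul, mul_zero, zero_add] at e1 e2
  have e3 : mk (a * a) = 1 := by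
    rw [mk_eq_one_iff]
    simp [Matrix.mul_apply, Fin.sum_univ_two, e1, e2, mul_comm]
  rw [map_mul, ha] at e3
  apply pglMap_injective (algebraMap F K)
  rw [map_mul, map_one]
  have := congrArg (fun z => k⁻¹ * z * k) e3
  simpa [mul_assoc] using this

theorem dihedral_of_le_pairStab [Algebra F K] [Finite F] {x y : OnePoint K} (hxy : x ≠ y)
    {M : Subgroup PGL(2, F)} (hM : M ≤ pairStab F x y) {s : PGL(2, F)} (hs : s ∈ M)
    (hsx : s • x = y) : Nonempty (M ≃* DihedralGroup (Nat.card (M ⊓ fix2 F x y : Subgroup _))) ∧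
      2 * Nat.card (M ⊓ fix2 F x y : Subgroup _) = Nat.card M := by
  have hsw : ∀ b ∈ M, b ∉ fix2 F x y → b • x = y ∧ b • y = x :=
    fun b hb hb' => (hM hb).resolve_left hb'
  have hs' : s ∉ fix2 F x y := fun h => hxy (h.1.symm.trans hsx)
  obtain ⟨h1, h2⟩ := two_mul_card_inf hs hs' (fun b hb hb' => by
    rw [mem_fix2, mul_smul, mul_smul, hsx, (hsw s hs hs').2]
    exact ⟨(hsw b hb hb').2, (hsw b hb hb').1⟩)
  refine ⟨?_, h1⟩
  have hc := isCyclic_fix2 (F := F) hxy
  have e : Nat.card (M ⊓ fix2 F x y : Subgroup _) = Nat.card ((fix2 F x y).subgroupOf M) := by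
    rw [← Subgroup.inf_subgroupOf_left,
      Nat.card_congr (Subgroup.subgroupOfEquivOfLe inf_le_left).toEquiv]
  rw [e]
  refine dihedral_of_index_two _ ?_ h2 (fun g hg => Subtype.ext ?_)
  · refine isCyclic_of_injective (G' := fix2 F x y)
      (((M.subtype.comp (Subgroup.subtype _))).codRestrict _ (fun g => g.2)) ?_
    intro a b hab
    have := congrArg Subtype.val hab
    exact Subtype.ext (Subtype.ext this)
  · exact mul_self_of_swap hxy (hsw g g.2 hg).1 (hsw g g.2 hg).2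

omit [Field F] in
theorem card_onePoint [Finite F] : Nat.card (OnePoint F) = Nat.card F + 1 := Finite.card_option

theorem card_stabilizer_pt [Finite F] (x : OnePoint F) :
    Nat.card (stabilizer PGL(2, F) x) = Nat.card F * (Nat.card F - 1) := by
  have : IsPretransitive PGL(2, F) (OnePoint F) := ⟨fun a b => by
    obtain ⟨g, hg⟩ := exists_smul_eq_infty a
    obtain ⟨h, hh⟩ := exists_smul_eq_infty b
    exact ⟨h⁻¹ * g, by rw [mul_smul, hg, inv_smul_eq_iff, hh]⟩⟩
  have h1 := (stabilizer PGL(2, F) x).index_mul_card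
  rw [index_stabilizer_of_transitive, card_onePoint, card_PGL] at h1
  apply Nat.eq_of_mul_eq_mul_left (show 0 < Nat.card F + 1 by omega)
  rw [h1, show Nat.card F ^ 2 - 1 = (Nat.card F + 1) * (Nat.card F - 1) from Nat.sq_sub_sq _ 1]
  ring

/-- The diagonal element `z ↦ a z`. -/
def dg (a : F) (ha : a ≠ 0) : PGL(2, F) := mk (mat a 0 0 1 (by simpa using ha))

theorem dg_mem_fix2 (a : F) (ha : a ≠ 0) : dg a ha ∈ fix2 F (∞ : OnePoint F) (0 : F) :=
  ⟨smul_infty_eq_infty.mpr rfl, smul_coe_eq_coe.mpr (by simp)⟩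

theorem dg_smul (a : F) (ha : a ≠ 0) (z : F) : dg a ha • (z : OnePoint F) = (a * z : F) :=
  smul_coe_eq_coe.mpr (by simp)

theorem dg_mem_Lsub {a : F} {ha : a ≠ 0} : dg a ha ∈ Lsub F ↔ IsSquare a := by
  rw [dg, mk_mem_Lsub]; simp

theorem card_fix2_split [Finite F] {x y : OnePoint F} (hxy : x ≠ y) :
    Nat.card (fix2 F x y) = Nat.card F - 1 := by
  obtain ⟨k, k1, k2⟩ := exists_smul_two hxy
  rw [← card_cj k, cj_fix2, k1, k2, ← Nat.card_units]
  symm
  refine Nat.card_eq_of_bijective (fun a : Fˣ => ⟨dg a a.ne_zero, dg_mem_fix2 _ _⟩) ⟨?_, ?_⟩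
  · intro a b hab
    have := congrArg (fun g : fix2 F (∞ : OnePoint F) (0 : F) => (g : PGL(2, F)) • ((1 : F) : OnePoint F)) hab
    simpa [dg_smul, Units.ext_iff] using this
  · rintro ⟨g, hg1, hg2⟩
    have h1 : g • ((1 : F) : OnePoint F) ≠ ∞ := fun h =>
      coe_ne_infty _ (MulAction.injective g (h.trans hg1.symm))
    obtain ⟨s, hs⟩ := OnePoint.ne_infty_iff_exists.mp h1
    have hs0 : s ≠ 0 := by
      rintro rfl
      exact zero_ne_one' (MulAction.injective g (hg2.trans hs))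
    refine ⟨Units.mk0 s hs0, Subtype.ext ?_⟩
    have : g⁻¹ * dg s hs0 = 1 := by
      apply eq_one_of_fix_std
      · rw [mul_smul, (dg_mem_fix2 s hs0).1, inv_smul_eq_iff]; exact hg1.symm
      · rw [mul_smul, (dg_mem_fix2 s hs0).2, inv_smul_eq_iff]; exact hg2.symm
      · rw [mul_smul, dg_smul, inv_smul_eq_iff, mul_one, hs]
    exact (inv_mul_eq_one.mp this).symm

theorem irr_norm_ne [Algebra F K] {t : K} {a b : F} (h : Irr t a b) {c d : F} (hcd : c ≠ 0 ∨ d ≠ 0) :
    (d + a * c) * d - b * c * c ≠ 0 := by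
  intro e
  have e' := congrArg (algebraMap F K) e
  simp only [map_sub, map_mul, map_add, map_zero] at e'
  have : (algebraMap F K c * t + algebraMap F K d) *
      (algebraMap F K c * t + algebraMap F K (-(d + a * c))) = 0 := by
    simp only [map_neg, map_add, map_mul]
    linear_combination (algebraMap F K c) ^ 2 * h.eq - e'
  rcases mul_eq_zero.mp this with h1 | h1
  · obtain ⟨h2, h3⟩ := h.lin h1
    tauto
  · obtain ⟨h2, h3⟩ := h.lin h1
    rw [h2, mul_zero, add_zero, neg_eq_zero] at h3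
    tauto

theorem irr_mem_fix2 [Algebra F K] {t : K} {a b : F} (h : Irr t a b) {c d : F} (hcd : c ≠ 0 ∨ d ≠ 0) :
    mk (mat (d + a * c) (b * c) c d (irr_norm_ne h hcd)) ∈
      fix2 F (t : OnePoint K) (algebraMap F K a - t : K) :=
  ⟨h.smul_eq_iff.mpr ⟨rfl, rfl⟩, h.conj.smul_eq_iff.mpr ⟨rfl, rfl⟩⟩

theorem irr_eq_one [Algebra F K] [Finite F] {t : K} {a b : F} (h : Irr t a b) {g : PGL(2, F)}
    (hg : g • (t : OnePoint K) = t) {x : OnePoint F} (hx : g • x = x) : g = 1 :=
  eq_one_of_fix_three (fun e => h.ne_conj (coe_eq_coe.mp e)) (h.ratPt_ne x).symm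
    (h.conj.ratPt_ne x).symm hg (h.smul_conj hg) (by rw [← ratPt_smul, hx])

theorem card_fix2_irr [Algebra F K] [Finite F] {t : K} {a b : F} (h : Irr t a b) :
    Nat.card (fix2 F (t : OnePoint K) (algebraMap F K a - t : K)) = Nat.card F + 1 := by
  rw [← card_onePoint]
  refine Nat.card_eq_of_bijective (fun g => (g : PGL(2, F)) • (∞ : OnePoint F)) ⟨?_, ?_⟩
  · intro g g' e
    have : (g⁻¹ * g' : fix2 F (t : OnePoint K) (algebraMap F K a - t : K)).1 = 1 :=
      irr_eq_one h (g⁻¹ * g').2.1 (x := ∞) (by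
        rw [Subgroup.coe_mul, mul_smul, Subgroup.coe_inv, inv_smul_eq_iff]; exact e.symm)
    exact inv_mul_eq_one.mp (Subtype.ext this)
  · intro z
    cases z with
    | infty => exact ⟨1, one_smul _ _⟩
    | coe s =>
      refine ⟨⟨_, irr_mem_fix2 h (c := 1) (d := s - a) (Or.inl one_ne_zero)⟩, ?_⟩
      simp only
      rw [smul_infty_eq_coe]
      simp

theorem not_fix2_split_le [Finite F] (h2 : (2 : F) ≠ 0) {x y : OnePoint F} (hxy : x ≠ y) :
    ¬ fix2 F x y ≤ Lsub F := by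
  intro hle
  obtain ⟨k, k1, k2⟩ := exists_smul_two hxy
  have := cj_mono k hle
  rw [cj_fix2, cj_normal, k1, k2] at this
  obtain ⟨a, ha⟩ := FiniteField.exists_nonsquare (ringChar_ne_two h2)
  have ha0 : a ≠ 0 := by rintro rfl; exact ha IsSquare.zero
  exact ha (dg_mem_Lsub.mp (this (dg_mem_fix2 a ha0)))

theorem not_fix2_irr_le [Algebra F K] [Finite F] (h2 : (2 : F) ≠ 0) {t : K} {a b : F}
    (h : Irr t a b) : ¬ fix2 F (t : OnePoint K) (algebraMap F K a - t : K) ≤ Lsub F := by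
  intro hle
  have := Fintype.ofFinite F
  obtain ⟨ν, hν⟩ := FiniteField.exists_nonsquare (ringChar_ne_two h2)
  have hΔ : a ^ 2 + 4 * b ≠ 0 := by
    intro e
    refine irr_norm_ne h (c := 2) (d := -a) (Or.inl h2) ?_
    linear_combination -e
  obtain ⟨u, c, huc⟩ := FiniteField.exists_root_sum_quadratic (R := F)
    (f := Polynomial.X ^ 2) (g := Polynomial.C (-(a ^ 2 + 4 * b)) * Polynomial.X ^ 2 +
      Polynomial.C 0 * Polynomial.X + Polynomial.C (-ν)) (by simp)
      (Polynomial.degree_quadratic (neg_ne_zero.mpr hΔ))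
      (FiniteField.odd_card_of_char_ne_two (ringChar_ne_two h2))
  simp only [Polynomial.eval_pow, Polynomial.eval_X, Polynomial.eval_add, Polynomial.eval_mul,
    Polynomial.eval_C] at huc
  have hcd : 2 * c ≠ 0 ∨ u - a * c ≠ 0 := by
    by_contra hcon
    push Not at hcon
    have h1 : c = 0 := (mul_eq_zero.mp hcon.1).resolve_left h2
    have h3 : u = 0 := by simpa [h1] using hcon.2
    have : ν = 0 := by rw [h1, h3] at huc; linear_combination -huc
    exact hν (this ▸ IsSquare.zero)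
  have := mk_mem_Lsub.mp (hle (irr_mem_fix2 h hcd))
  simp only [mat00, mat01, mat10, mat11] at this
  apply hν
  convert this using 1
  linear_combination -huc

theorem exists_swap_split {x y : OnePoint F} (hxy : x ≠ y) : ∃ s ∈ pairStab F x y, s • x = y := by
  obtain ⟨k, k1, k2⟩ := exists_smul_two hxy
  obtain ⟨k', k1', k2'⟩ := exists_smul_two hxy.symm
  have e1 : (k'⁻¹ * k) • x = y := by rw [mul_smul, k1, inv_smul_eq_iff, k1']
  have e2 : (k'⁻¹ * k) • y = x := by rw [mul_smul, k2, inv_smul_eq_iff, k2']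
  exact ⟨k'⁻¹ * k, Or.inr ⟨e1, e2⟩, e1⟩

theorem exists_swap_irr [Algebra F K] (t : K) (a : F) :
    ∃ s ∈ pairStab F (t : OnePoint K) (algebraMap F K a - t : K),
      s • (t : OnePoint K) = (algebraMap F K a - t : K) := by
  have e1 : mk (mat (-1) a 0 1 (by simp)) • (t : OnePoint K) = (algebraMap F K a - t : K) := by
    rw [smul_coe_eq_coe]; simp; ring
  have e2 : mk (mat (-1) a 0 1 (by simp)) • ((algebraMap F K a - t : K) : OnePoint K) = t := by
    rw [smul_coe_eq_coe]; simp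
  exact ⟨_, Or.inr ⟨e1, e2⟩, e1⟩

theorem exists_swap_Lsub [Algebra F K] [Finite F] {x y : OnePoint K}
    (h1 : ∃ s ∈ pairStab F x y, s • x = y) (h2 : ¬ fix2 F x y ≤ Lsub F) :
    ∃ s ∈ pairStab F x y ⊓ Lsub F, s • x = y := by
  obtain ⟨s, hs, hsx⟩ := h1
  by_cases hL : s ∈ Lsub F
  · exact ⟨s, ⟨hs, hL⟩, hsx⟩
  · obtain ⟨c, hc, hcL⟩ := SetLike.not_le_iff_exists.mp h2
    exact ⟨s * c, ⟨Subgroup.mul_mem _ hs (fix2_le_pairStab _ _ hc), mul_mem_Lsub_of_not hL hcL⟩,
      by rw [mul_smul, hc.1, hsx]⟩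

theorem dihedral_pairStab [Algebra F K] [Finite F] {x y : OnePoint K} (hxy : x ≠ y)
    (h1 : ∃ s ∈ pairStab F x y, s • x = y) {n : ℕ} (hn : Nat.card (fix2 F x y) = n) :
    Nonempty (pairStab F x y ≃* DihedralGroup n) ∧ Nat.card (pairStab F x y) = 2 * n := by
  obtain ⟨s, hs, hsx⟩ := h1
  have := dihedral_of_le_pairStab hxy le_rfl hs hsx
  rw [inf_eq_right.mpr (fix2_le_pairStab x y), hn] at this
  exact ⟨this.1, this.2.symm⟩

theorem dihedral_pairStab_Lsub [Algebra F K] [Finite F] {x y : OnePoint K} (hxy : x ≠ y)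
    (h1 : ∃ s ∈ pairStab F x y, s • x = y) (h2 : ¬ fix2 F x y ≤ Lsub F) {n : ℕ}
    (hn : Nat.card (fix2 F x y) = n) :
    ∃ m, 2 * m = n ∧ Nat.card (fix2 F x y ⊓ Lsub F : Subgroup _) = m ∧
      Nonempty ((pairStab F x y ⊓ Lsub F : Subgroup _) ≃* DihedralGroup m) ∧
      Nat.card (pairStab F x y ⊓ Lsub F : Subgroup _) = n := by
  obtain ⟨s, hs, hsx⟩ := exists_swap_Lsub h1 h2
  have := dihedral_of_le_pairStab hxy inf_le_left hs hsx
  rw [inf_right_comm, inf_eq_right.mpr (fix2_le_pairStab x y)] at this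
  have h3 := two_mul_card_inf_Lsub h2
  exact ⟨_, h3.trans hn, rfl, this.1, by rw [← this.2, h3, hn]⟩

theorem Lsub_ne_top [Finite F] (h2 : (2 : F) ≠ 0) : Lsub F ≠ ⊤ := fun e =>
  not_fix2_split_le h2 (x := ∞) (y := (0 : F)) (infty_ne_coe _) (e ▸ le_top)

theorem card_Lsub [Finite F] (h2 : (2 : F) ≠ 0) :
    2 * Nat.card (Lsub F) = Nat.card F * (Nat.card F ^ 2 - 1) := by
  have := two_mul_card_inf_Lsub (A := ⊤) (fun h => Lsub_ne_top h2 (top_le_iff.mp h))
  rwa [top_inf_eq, Subgroup.card_top, card_PGL] at this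

theorem card_stabilizer_Lsub [Finite F] (h2 : (2 : F) ≠ 0) (x : OnePoint F) :
    2 * Nat.card (stabilizer PGL(2, F) x ⊓ Lsub F : Subgroup _) = Nat.card F * (Nat.card F - 1) := by
  have : Nontrivial (OnePoint F) := ⟨⟨∞, (0 : F), infty_ne_coe _⟩⟩
  obtain ⟨y, hy⟩ := exists_ne x
  rw [two_mul_card_inf_Lsub (fun h => not_fix2_split_le h2 hy.symm (le_trans inf_le_left h)),
    card_stabilizer_pt]

theorem pow_eq_one_cases [Finite F] (p : ℕ) [CharP F p] (g : PGL(2, F)) :
    g ^ p = 1 ∨ g ^ (Nat.card F - 1) = 1 ∨ g ^ (Nat.card F + 1) = 1 := by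
  by_cases h1 : g = 1
  · simp [h1]
  obtain ⟨x, hx⟩ := exists_fixed_of_algClosed (K := AlgebraicClosure F) g
  rcases rat_or_irr h1 hx with ⟨x₀, rfl⟩ | ⟨t, a, b, ht, rfl⟩
  · rw [← ratPt_smul, ratPt_injective.eq_iff] at hx
    by_cases hu : IsUnip x₀ g
    · exact Or.inl (isUnip_pow_char p hu)
    · right; left
      simp only [IsUnip, hx, true_and, not_forall] at hu
      obtain ⟨y, hy, hgy, -⟩ := hu
      rw [← card_fix2_split hy.symm]
      exact congrArg Subtype.val (pow_card_eq_one' (G := fix2 F x₀ y) (x := ⟨g, hx, hgy⟩))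
  · right; right
    rw [← card_fix2_irr ht]
    exact congrArg Subtype.val (pow_card_eq_one' (G := fix2 F _ _) (x := ⟨g, hx, ht.smul_conj hx⟩))

theorem orderOf_le_card_succ [Finite F] (g : PGL(2, F)) : orderOf g ≤ Nat.card F + 1 := by
  obtain ⟨p, hp⟩ := CharP.exists F
  have := Fintype.ofFinite F
  obtain ⟨n, hpp, hn⟩ := FiniteField.card F p
  have h1 : 1 < Nat.card F := Finite.one_lt_card
  have h2 : p ≤ Nat.card F := by
    rw [Nat.card_eq_fintype_card, hn]
    exact Nat.le_self_pow n.ne_zero p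
  rcases pow_eq_one_cases p g with h | h | h
  · exact (orderOf_le_of_pow_eq_one hpp.pos h).trans (by omega)
  · exact (orderOf_le_of_pow_eq_one (by omega) h).trans (by omega)
  · exact orderOf_le_of_pow_eq_one (by omega) h

/-! ### Subfield subgroups -/

/-- `PGL(2, k)` as a subgroup. -/
noncomputable def pgEquiv (k : Subfield F) : PGL(2, k) ≃* PG k :=
  MonoidHom.ofInjective (pglMap_injective k.subtype)

/-- `PSL(2, F)` as a subgroup of `PGL(2, F)`. -/
theorem range_toPGL : (ProjectiveSpecialLinearGroup.toPGL (n := Fin 2) (R := F)).range = Lsub F := by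
  ext g
  constructor
  · rintro ⟨a, rfl⟩
    induction a using QuotientGroup.induction_on with | H a => exact ⟨a, rfl⟩
  · rintro ⟨a, rfl⟩
    exact ⟨a, rfl⟩

/-- `PSL(2, F)` as a subgroup of `PGL(2, F)`. -/
noncomputable def pslEquiv (F : Type*) [Field F] : PSL(2, F) ≃* Lsub F :=
  (MonoidHom.ofInjective ProjectiveSpecialLinearGroup.toPGL_injective).trans
    (MulEquiv.subgroupCongr range_toPGL)

/-- `PSL(2, k)` as a subgroup. -/
noncomputable def psEquiv (k : Subfield F) : PSL(2, k) ≃* PS k :=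
  (pslEquiv k).trans (Subgroup.equivMapOfInjective _ _ (pglMap_injective k.subtype))

theorem pglMap_symm (e : F ≃+* K) (g : PGL(2, K)) :
    ProjGenLinGroup.map (e : F →+* K) (ProjGenLinGroup.map (e.symm : K →+* F) g) = g := by
  induction g using ProjGenLinGroup.induction_on with | mk g =>
  rw [ProjGenLinGroup.map_mk, ProjGenLinGroup.map_mk]
  congr 1
  ext i j
  simp

/-- Isomorphic fields have isomorphic `PGL₂`. -/
noncomputable def pglCongr (e : F ≃+* K) : PGL(2, F) ≃* PGL(2, K) :=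
  MulEquiv.ofBijective (ProjGenLinGroup.map (e : F →+* K))
    ⟨pglMap_injective _, fun g => ⟨_, pglMap_symm e g⟩⟩

theorem pglMap_mem_Lsub (f : F →+* K) {g : PGL(2, F)} (hg : g ∈ Lsub F) :
    ProjGenLinGroup.map f g ∈ Lsub K := by
  induction g using ProjGenLinGroup.induction_on with | mk g =>
  rw [ProjGenLinGroup.map_mk]
  rw [mk_mem_Lsub] at *
  simpa using hg.map f

/-- Isomorphic fields have isomorphic `PSL₂`. -/
noncomputable def pslCongr (e : F ≃+* K) : PSL(2, F) ≃* PSL(2, K) :=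
  (pslEquiv F).trans (((pglCongr e).subgroupMap (Lsub F)).trans
    ((MulEquiv.subgroupCongr (by
      refine le_antisymm ?_ (fun g hg => ⟨_, pglMap_mem_Lsub (e.symm : K →+* F) hg, pglMap_symm e g⟩)
      rintro _ ⟨g, hg, rfl⟩
      exact pglMap_mem_Lsub _ hg)).trans (pslEquiv K).symm))

theorem card_PG [Finite F] (k : Subfield F) : Nat.card (PG k) = Nat.card k * (Nat.card k ^ 2 - 1) := by
  rw [← card_PGL, Nat.card_congr (pgEquiv k).toEquiv]

theorem card_PS_eq (k : Subfield F) : Nat.card (PS k) = Nat.card (Lsub k) :=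
  Subgroup.card_map_of_injective (pglMap_injective k.subtype)

theorem card_PS [Finite F] (h2 : (2 : F) ≠ 0) (k : Subfield F) :
    2 * Nat.card (PS k) = Nat.card k * (Nat.card k ^ 2 - 1) := by
  rw [card_PS_eq, card_Lsub (two_ne_zero_subfield h2 k)]

theorem PS_eq_PG [Finite F] (h2 : (2 : F) = 0) (k : Subfield F) : PS k = PG k := by
  rw [PS, Lsub_eq_top (k.subtype.injective (by rw [map_ofNat, map_zero]; exact h2)), PG, MonoidHom.range_eq_map]

theorem orderOf_le_of_mem_PG [Finite F] {k : Subfield F} {g γ : PGL(2, F)} (h : γ ∈ cj g (PG k)) :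
    orderOf γ ≤ Nat.card k + 1 := by
  obtain ⟨_, ⟨a, rfl⟩, rfl⟩ := h
  rw [orderOf_injective _ (MulAut.conj g).injective, orderOf_injective _ (pglMap_injective _)]
  exact orderOf_le_card_succ a

theorem mem_of_transl_mem_PG {k : Subfield F} {s : F} (h : transl s ∈ PG k) : s ∈ k := by
  have := (ratOver_coe.mpr k.zero_mem).smul h
  rwa [transl_smul, zero_add, ratOver_coe] at this

theorem le_of_PS_le_PG {k k' : Subfield F} (h : PS k ≤ PG k') : k ≤ k' :=
  fun _ hs => mem_of_transl_mem_PG (h (transl_mem_PS hs))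

theorem dg_mem_PG {k : Subfield F} {a : F} (ha : a ≠ 0) (hk : a ∈ k) : dg a ha ∈ PG k :=
  mem_PG.mpr ⟨_, rfl, fun i j => by
    fin_cases i <;> fin_cases j <;> simp [hk, k.one_mem, k.zero_mem]⟩

theorem PG_le_PS {k k' : Subfield F} (hle : k ≤ k') (h : ∀ x ∈ k, ∃ s ∈ k', x = s * s) :
    PG k ≤ PS k' := by
  intro γ hγ
  obtain ⟨g, rfl, hg⟩ := mem_PG.mp hγ
  exact mem_PS.mpr ⟨g, rfl, fun i j => hle (hg i j),
    h _ (k.sub_mem (k.mul_mem (hg 0 0) (hg 1 1)) (k.mul_mem (hg 0 1) (hg 1 0)))⟩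

theorem PG_le_Lsub_iff {k : Subfield F} : PG k ≤ Lsub F ↔ ∀ x ∈ k, IsSquare x := by
  constructor
  · intro h x hx
    by_cases h0 : x = 0
    · rw [h0]; exact IsSquare.zero
    · exact dg_mem_Lsub.mp (h (dg_mem_PG h0 hx))
  · intro h
    rw [← PS_top]
    exact PG_le_PS le_top (fun x hx => by
      obtain ⟨s, hs⟩ := h x hx
      exact ⟨s, trivial, hs⟩)

theorem PG_inf_Lsub {k : Subfield F} (h : ∀ s, s * s ∈ k → s ∈ k) : PG k ⊓ Lsub F = PS k := by
  refine le_antisymm ?_ (le_inf (PS_le_PG k) (PS_le_Lsub k))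
  rintro γ ⟨hγ, hL⟩
  obtain ⟨g, rfl, hg⟩ := mem_PG.mp hγ
  obtain ⟨s, hs⟩ := mk_mem_Lsub.mp hL
  exact mem_PS.mpr ⟨g, rfl, hg, s, h s (hs ▸
    k.sub_mem (k.mul_mem (hg 0 0) (hg 1 1)) (k.mul_mem (hg 0 1) (hg 1 0))), hs⟩

/-! ### Transfer to `PSL(2, F)` -/

theorem maxIn_map_toPGL {M : Subgroup PSL(2, F)} (hM : IsCoatom M) :
    MaxIn (M.map ProjectiveSpecialLinearGroup.toPGL) (Lsub F) := by
  have hinj := ProjectiveSpecialLinearGroup.toPGL_injective (n := Fin 2) (R := F)
  refine ⟨range_toPGL (F := F) ▸ Subgroup.map_le_range _ _, fun e => hM.1 ?_, fun H h1 h2 => ?_⟩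
  · rw [← range_toPGL, MonoidHom.range_eq_map] at e
    exact Subgroup.map_injective hinj e
  · rw [← range_toPGL] at h2 ⊢
    have h3 := Subgroup.map_comap_eq_self h2
    rcases (Subgroup.map_le_iff_le_comap.mp h1).eq_or_lt with e | e
    · left; rw [e, h3]
    · right; rw [← h3, hM.2 _ e, MonoidHom.range_eq_map]

theorem exists_coatom_of_maxIn {M : Subgroup PGL(2, F)} (hM : MaxIn M (Lsub F)) {X : Type*}
    [Group X] (e : Nonempty (M ≃* X)) :
    ∃ H : Subgroup PSL(2, F), IsCoatom H ∧ Nonempty (H ≃* X) := by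
  have h1 : IsCoatom (M.subgroupOf (Lsub F)) := (isCoatom_subgroupOf_iff hM.le).mpr ⟨hM.ne, hM.max⟩
  obtain ⟨e⟩ := e
  refine ⟨(M.subgroupOf (Lsub F)).map (pslEquiv F).symm.toMonoidHom, ?_, ⟨?_⟩⟩
  · exact (OrderIso.isCoatom_iff (pslEquiv F).symm.mapSubgroup _).mpr h1
  · exact ((pslEquiv F).symm.subgroupMap _).symm.trans ((Subgroup.subgroupOfEquivOfLe hM.le).trans e)

/-- A subgroup of `PSL(2, F)` and its image in `PGL(2, F)`. -/
noncomputable def mapEquiv (M : Subgroup PSL(2, F)) :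
    M ≃* M.map ProjectiveSpecialLinearGroup.toPGL :=
  Subgroup.equivMapOfInjective _ _ ProjectiveSpecialLinearGroup.toPGL_injective

end Cfsg.Agent.H3
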