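import Mathlib
import Cfsg.Agent.H3.PglBasic

/-! The icosahedral subgroup of `PSL(2, F)` when `5` is a square. -/

set_option autoImplicit false

namespace Cfsg.Agent.H3

open MulAction Matrix OnePoint
open scoped MatrixGroups Pointwise

open Cfsg.Agent.H8

/-- Quaternions with coordinates in `ℤ[√5]`. -/
structure Ico where
  a : ℤ√5
  b : ℤ√5
  c : ℤ√5
  d : ℤ√5
  deriving DecidableEq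

namespace Ico

/-- Product. -/
def mul (p q : Ico) : Ico :=
  ⟨p.a * q.a - p.b * q.b - p.c * q.c - p.d * q.d, p.a * q.b + p.b * q.a + p.c * q.d - p.d * q.c,
    p.a * q.c - p.b * q.d + p.c * q.a + p.d * q.b, p.a * q.d + p.b * q.c - p.c * q.b + p.d * q.a⟩

/-- Scalar multiple. -/
def smul (c : ℤ√5) (q : Ico) : Ico := ⟨c * q.a, c * q.b, c * q.c, c * q.d⟩

/-- Norm. -/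
def nm (q : Ico) : ℤ√5 := q.a * q.a + q.b * q.b + q.c * q.c + q.d * q.d

/-- Powers. -/
def pw (q : Ico) : ℕ → Ico
  | 0 => ⟨1, 0, 0, 0⟩
  | n + 1 => (pw q n).mul q

/-- Four times the unit icosians, up to sign. -/
def tbl : List Ico :=
  [⟨⟨4, 0⟩, ⟨0, 0⟩, ⟨0, 0⟩, ⟨0, 0⟩⟩,
   ⟨⟨0, 0⟩, ⟨4, 0⟩, ⟨0, 0⟩, ⟨0, 0⟩⟩,
   ⟨⟨0, 0⟩, ⟨0, 0⟩, ⟨4, 0⟩, ⟨0, 0⟩⟩,
   ⟨⟨2, 0⟩, ⟨2, 0⟩, ⟨2, 0⟩, ⟨2, 0⟩⟩,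
   ⟨⟨1, 1⟩, ⟨-1, 1⟩, ⟨2, 0⟩, ⟨0, 0⟩⟩,
   ⟨⟨0, 0⟩, ⟨0, 0⟩, ⟨0, 0⟩, ⟨4, 0⟩⟩,
   ⟨⟨2, 0⟩, ⟨-2, 0⟩, ⟨-2, 0⟩, ⟨2, 0⟩⟩,
   ⟨⟨1, -1⟩, ⟨1, 1⟩, ⟨0, 0⟩, ⟨-2, 0⟩⟩,
   ⟨⟨2, 0⟩, ⟨2, 0⟩, ⟨-2, 0⟩, ⟨-2, 0⟩⟩,
   ⟨⟨2, 0⟩, ⟨0, 0⟩, ⟨-1, -1⟩, ⟨1, -1⟩⟩,
   ⟨⟨2, 0⟩, ⟨-2, 0⟩, ⟨2, 0⟩, ⟨-2, 0⟩⟩,
   ⟨⟨2, 0⟩, ⟨-2, 0⟩, ⟨-2, 0⟩, ⟨-2, 0⟩⟩,
   ⟨⟨0, 0⟩, ⟨1, 1⟩, ⟨2, 0⟩, ⟨-1, 1⟩⟩,
   ⟨⟨1, -1⟩, ⟨1, 1⟩, ⟨0, 0⟩, ⟨2, 0⟩⟩,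
   ⟨⟨2, 0⟩, ⟨0, 0⟩, ⟨-1, -1⟩, ⟨-1, 1⟩⟩,
   ⟨⟨0, 0⟩, ⟨1, -1⟩, ⟨-1, -1⟩, ⟨-2, 0⟩⟩,
   ⟨⟨1, -1⟩, ⟨-2, 0⟩, ⟨-1, -1⟩, ⟨0, 0⟩⟩,
   ⟨⟨0, 0⟩, ⟨2, 0⟩, ⟨1, -1⟩, ⟨1, 1⟩⟩,
   ⟨⟨2, 0⟩, ⟨2, 0⟩, ⟨-2, 0⟩, ⟨2, 0⟩⟩,
   ⟨⟨1, 1⟩, ⟨0, 0⟩, ⟨1, -1⟩, ⟨2, 0⟩⟩,
   ⟨⟨1, 1⟩, ⟨-1, 1⟩, ⟨-2, 0⟩, ⟨0, 0⟩⟩,
   ⟨⟨0, 0⟩, ⟨2, 0⟩, ⟨-1, 1⟩, ⟨1, 1⟩⟩,
   ⟨⟨1, -1⟩, ⟨0, 0⟩, ⟨2, 0⟩, ⟨-1, -1⟩⟩,
   ⟨⟨2, 0⟩, ⟨1, -1⟩, ⟨0, 0⟩, ⟨1, 1⟩⟩,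
   ⟨⟨2, 0⟩, ⟨2, 0⟩, ⟨2, 0⟩, ⟨-2, 0⟩⟩,
   ⟨⟨2, 0⟩, ⟨-1, 1⟩, ⟨0, 0⟩, ⟨-1, -1⟩⟩,
   ⟨⟨0, 0⟩, ⟨2, 0⟩, ⟨-1, 1⟩, ⟨-1, -1⟩⟩,
   ⟨⟨1, 1⟩, ⟨1, -1⟩, ⟨2, 0⟩, ⟨0, 0⟩⟩,
   ⟨⟨1, 1⟩, ⟨2, 0⟩, ⟨0, 0⟩, ⟨1, -1⟩⟩,
   ⟨⟨1, 1⟩, ⟨0, 0⟩, ⟨1, -1⟩, ⟨-2, 0⟩⟩,
   ⟨⟨2, 0⟩, ⟨-2, 0⟩, ⟨2, 0⟩, ⟨2, 0⟩⟩,
   ⟨⟨1, -1⟩, ⟨2, 0⟩, ⟨-1, -1⟩, ⟨0, 0⟩⟩,
   ⟨⟨1, 1⟩, ⟨-2, 0⟩, ⟨0, 0⟩, ⟨1, -1⟩⟩,
   ⟨⟨1, 1⟩, ⟨0, 0⟩, ⟨-1, 1⟩, ⟨-2, 0⟩⟩,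
   ⟨⟨1, 1⟩, ⟨1, -1⟩, ⟨-2, 0⟩, ⟨0, 0⟩⟩,
   ⟨⟨2, 0⟩, ⟨-1, -1⟩, ⟨1, -1⟩, ⟨0, 0⟩⟩,
   ⟨⟨0, 0⟩, ⟨2, 0⟩, ⟨1, -1⟩, ⟨-1, -1⟩⟩,
   ⟨⟨1, 1⟩, ⟨-2, 0⟩, ⟨0, 0⟩, ⟨-1, 1⟩⟩,
   ⟨⟨2, 0⟩, ⟨-1, -1⟩, ⟨-1, 1⟩, ⟨0, 0⟩⟩,
   ⟨⟨2, 0⟩, ⟨1, 1⟩, ⟨1, -1⟩, ⟨0, 0⟩⟩,
   ⟨⟨1, -1⟩, ⟨0, 0⟩, ⟨-2, 0⟩, ⟨1, 1⟩⟩,
   ⟨⟨2, 0⟩, ⟨1, -1⟩, ⟨0, 0⟩, ⟨-1, -1⟩⟩,
   ⟨⟨1, -1⟩, ⟨2, 0⟩, ⟨1, 1⟩, ⟨0, 0⟩⟩,
   ⟨⟨2, 0⟩, ⟨0, 0⟩, ⟨1, 1⟩, ⟨-1, 1⟩⟩,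
   ⟨⟨1, -1⟩, ⟨-1, -1⟩, ⟨0, 0⟩, ⟨2, 0⟩⟩,
   ⟨⟨0, 0⟩, ⟨1, 1⟩, ⟨-2, 0⟩, ⟨-1, 1⟩⟩,
   ⟨⟨0, 0⟩, ⟨1, 1⟩, ⟨-2, 0⟩, ⟨1, -1⟩⟩,
   ⟨⟨1, -1⟩, ⟨-1, -1⟩, ⟨0, 0⟩, ⟨-2, 0⟩⟩,
   ⟨⟨1, 1⟩, ⟨2, 0⟩, ⟨0, 0⟩, ⟨-1, 1⟩⟩,
   ⟨⟨2, 0⟩, ⟨0, 0⟩, ⟨1, 1⟩, ⟨1, -1⟩⟩,
   ⟨⟨2, 0⟩, ⟨1, 1⟩, ⟨-1, 1⟩, ⟨0, 0⟩⟩,
   ⟨⟨0, 0⟩, ⟨1, -1⟩, ⟨1, 1⟩, ⟨2, 0⟩⟩,
   ⟨⟨1, -1⟩, ⟨-2, 0⟩, ⟨1, 1⟩, ⟨0, 0⟩⟩,
   ⟨⟨2, 0⟩, ⟨-1, 1⟩, ⟨0, 0⟩, ⟨1, 1⟩⟩,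
   ⟨⟨0, 0⟩, ⟨1, -1⟩, ⟨-1, -1⟩, ⟨2, 0⟩⟩,
   ⟨⟨0, 0⟩, ⟨1, -1⟩, ⟨1, 1⟩, ⟨-2, 0⟩⟩,
   ⟨⟨1, -1⟩, ⟨0, 0⟩, ⟨-2, 0⟩, ⟨-1, -1⟩⟩,
   ⟨⟨0, 0⟩, ⟨1, 1⟩, ⟨2, 0⟩, ⟨1, -1⟩⟩,
   ⟨⟨1, 1⟩, ⟨0, 0⟩, ⟨-1, 1⟩, ⟨2, 0⟩⟩,
   ⟨⟨1, -1⟩, ⟨0, 0⟩, ⟨2, 0⟩, ⟨1, 1⟩⟩]

theorem tbl_nm : ∀ t ∈ tbl, t.nm = 16 := by decide +kernel

theorem tbl_mul : ∀ s ∈ tbl.take 5, ∀ t ∈ tbl, ∃ r ∈ tbl, s.mul t = r.smul 4 ∨ s.mul t = r.smul (-4) := by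
  decide +kernel

/-- Zero imaginary part. -/
def sc (q : Ico) : Prop := q.b = 0 ∧ q.c = 0 ∧ q.d = 0

instance (q : Ico) : Decidable q.sc := by unfold sc; infer_instance

theorem tbl_pw : ∀ t ∈ tbl, (t.pw 2).sc ∨ (t.pw 3).sc ∨ (t.pw 5).sc := by decide +kernel

variable {F : Type*} [Field F] (f : ℤ√5 →+* F) (x y : F)

/-- The matrix of a quaternion. -/
def ev (q : Ico) : Matrix (Fin 2) (Fin 2) F :=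
  !![f q.a + f q.b * x - f q.d * y, f q.b * y + f q.c + f q.d * x;
     f q.b * y - f q.c + f q.d * x, f q.a - f q.b * x + f q.d * y]

variable {x y} (h : x ^ 2 + y ^ 2 = -1)
include h

theorem ev_mul (p q : Ico) : ev f x y (p.mul q) = ev f x y p * ev f x y q := by
  ext i j
  fin_cases i <;> fin_cases j <;>
    simp only [ev, mul, map_add, map_sub, map_mul, Matrix.mul_apply, Fin.sum_univ_two, of_apply,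
      cons_val', cons_val_zero, cons_val_one, cons_val_fin_one, Fin.zero_eta, Fin.mk_one,
      Fin.isValue]
  · linear_combination (-(f p.b * f q.b) - f p.d * f q.d) * h
  · linear_combination (-(f p.b * f q.d) + f p.d * f q.b) * h
  · linear_combination (f p.b * f q.d - f p.d * f q.b) * h
  · linear_combination (-(f p.b * f q.b) - f p.d * f q.d) * h

theorem det_ev (q : Ico) : (ev f x y q).det = f q.nm := by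
  simp only [ev, nm, det_fin_two_of, map_add, map_mul]
  linear_combination (-(f q.b * f q.b) - f q.d * f q.d) * h

variable (h2 : (2 : F) ≠ 0)
include h2

theorem det_ne {q : Ico} (hq : q.nm = 16) : (ev f x y q).det ≠ 0 := by
  rw [det_ev f h, hq, map_ofNat, show (16 : F) = 2 ^ 4 by norm_num]
  exact pow_ne_zero _ h2

/-- The invertible matrix of a quaternion of norm sixteen. -/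
def gl (q : Ico) (hq : q.nm = 16) : GL (Fin 2) F :=
  GeneralLinearGroup.mkOfDetNeZero (ev f x y q) (det_ne f h h2 hq)

theorem gl_val (q : Ico) (hq : q.nm = 16) :
    (gl f h h2 q hq : Matrix (Fin 2) (Fin 2) F) = ev f x y q := rfl

theorem gl_mul {s t r : Ico} (hs : s.nm = 16) (ht : t.nm = 16) (hr : r.nm = 16)
    (e : s.mul t = r.smul 4 ∨ s.mul t = r.smul (-4)) :
    ProjGenLinGroup.mk (gl f h h2 s hs) * ProjGenLinGroup.mk (gl f h h2 t ht) = ProjGenLinGroup.mk (gl f h h2 r hr) := by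
  have h4 : (4 : F) ≠ 0 := by
    rw [show (4 : F) = 2 ^ 2 by norm_num]; exact pow_ne_zero _ h2
  rw [← map_mul]
  symm
  rcases e with e | e
  · refine mk_eq_of_smul 4 h4 (fun i j => ?_)
    rw [Units.val_mul, gl_val, gl_val, gl_val, ← ev_mul f h, e]
    fin_cases i <;> fin_cases j <;> simp [ev, smul, map_ofNat] <;> ring
  · refine mk_eq_of_smul (-4) (neg_ne_zero.mpr h4) (fun i j => ?_)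
    rw [Units.val_mul, gl_val, gl_val, gl_val, ← ev_mul f h, e]
    fin_cases i <;> fin_cases j <;> simp [ev, smul, map_ofNat] <;> ring

theorem gl_pow_val (q : Ico) (hq : q.nm = 16) (n : ℕ) :
    ((gl f h h2 q hq ^ n : GL (Fin 2) F) : Matrix (Fin 2) (Fin 2) F) = ev f x y (q.pw n) := by
  induction n with
  | zero =>
    ext i j
    fin_cases i <;> fin_cases j <;> simp [pw, ev]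
  | succ n ih => rw [pow_succ, Units.val_mul, ih, gl_val, pw, ev_mul f h]

theorem gl_pow {q : Ico} (hq : q.nm = 16) {n : ℕ} (e : (q.pw n).sc) : ProjGenLinGroup.mk (gl f h h2 q hq) ^ n = 1 := by
  rw [← map_pow, mk_eq_one_iff]
  simp only [gl_pow_val, ev, e.1, e.2.1, e.2.2]
  simp

theorem gl_eq_one {q : Ico} (hq : q.nm = 16) (e : ProjGenLinGroup.mk (gl f h h2 q hq) = 1) :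
    f q.b = 0 ∧ f q.c = 0 ∧ f q.d = 0 := by
  rw [mk_eq_one_iff] at e
  simp only [gl_val, ev, of_apply, cons_val', cons_val_zero, cons_val_one, cons_val_fin_one] at e
  obtain ⟨e1, e2, e3⟩ := e
  have a1 : f q.b * x - f q.d * y = 0 := mul_left_cancel₀ h2 (by linear_combination e3)
  have a2 : f q.b * y + f q.d * x = 0 := mul_left_cancel₀ h2 (by linear_combination e1 + e2)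
  refine ⟨?_, mul_left_cancel₀ h2 (by linear_combination e1 - e2), ?_⟩
  · linear_combination -x * a1 - y * a2 + f q.b * h
  · linear_combination y * a1 - x * a2 + f q.d * h

theorem gl_mem (q : Ico) (hq : q.nm = 16) : ProjGenLinGroup.mk (gl f h h2 q hq) ∈ Lsub F := by
  rw [mk_mem_Lsub, ← det_fin_two, gl_val, det_ev f h, hq, map_ofNat]
  exact ⟨4, by norm_num⟩

end Ico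

theorem exists_sq_add_sq_neg_one (F : Type*) [Field F] [Finite F] : ∃ x y : F, x ^ 2 + y ^ 2 = -1 := by
  obtain ⟨p, hp⟩ := CharP.exists F
  have : NeZero p := ⟨(CharP.char_is_prime F p).ne_zero⟩
  obtain ⟨a, b, h⟩ := CharP.sq_add_sq F p (-1)
  exact ⟨a, b, by simpa using h⟩

open Ico in
theorem exists_A5 {F : Type*} [Field F] [Finite F] (h2 : (2 : F) ≠ 0) (h5 : IsSquare (5 : F)) :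
    ∃ H : Subgroup PGL(2, F), H ≤ Lsub F ∧ Nat.card H = 60 ∧
      Nonempty (H ≃* alternatingGroup (Fin 5)) := by
  obtain ⟨x, y, h⟩ := exists_sq_add_sq_neg_one F
  obtain ⟨r, hr⟩ := h5
  let f : ℤ√5 →+* F := Zsqrtd.lift ⟨r, by simpa using hr.symm⟩
  let P : {t // t ∈ tbl} → PGL(2, F) := fun t => ProjGenLinGroup.mk (gl f h h2 t (tbl_nm t t.2))
  let S : Set PGL(2, F) := Set.range P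
  let H := stabilizer PGL(2, F) S
  have h4 : (4 : F) ≠ 0 := by
    rw [show (4 : F) = 2 ^ 2 by norm_num]; exact pow_ne_zero _ h2
  have hgen : ∀ (s : Ico) (hs : s ∈ tbl.take 5), P ⟨s, List.mem_of_mem_take hs⟩ ∈ H := by
    intro s hs
    rw [mem_stabilizer_set_iff_smul_set_subset (Set.toFinite _)]
    rintro _ ⟨_, ⟨t, rfl⟩, rfl⟩
    obtain ⟨r, hr, e⟩ := tbl_mul s hs t t.2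
    exact ⟨⟨r, hr⟩, (gl_mul f h h2 _ _ _ e).symm⟩
  have h1 : (1 : PGL(2, F)) ∈ S := ⟨⟨⟨4, 0, 0, 0⟩, by decide⟩, by
    have := gl_pow f h h2 (q := ⟨4, 0, 0, 0⟩) (by decide) (n := 1) (by decide)
    rwa [pow_one] at this⟩
  have hHS : (H : Set PGL(2, F)) ⊆ S := by
    intro g hg
    have : g • S = S := hg
    rw [← this]
    exact ⟨1, h1, by simp⟩
  have hle : Nat.card H ≤ 60 := by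
    calc Nat.card H = (H : Set PGL(2, F)).ncard := rfl
      _ ≤ S.ncard := Set.ncard_le_ncard hHS (Set.toFinite _)
      _ ≤ Nat.card {t // t ∈ tbl} := Nat.card_le_card_of_surjective _ Set.rangeFactorization_surjective
      _ = tbl.toFinset.card := by
        rw [← Nat.card_eq_finsetCard]
        exact Nat.card_congr (Equiv.subtypeEquivRight (by simp))
      _ ≤ 60 := List.toFinset_card_le _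
  have hi := hgen ⟨0, 4, 0, 0⟩ (by decide)
  have hj := hgen ⟨0, 0, 4, 0⟩ (by decide)
  have hw := hgen ⟨2, 2, 2, 2⟩ (by decide)
  have hz := hgen ⟨⟨1, 1⟩, ⟨-1, 1⟩, 2, 0⟩ (by decide)
  have hij : P ⟨⟨0, 4, 0, 0⟩, by decide⟩ * P ⟨⟨0, 0, 4, 0⟩, by decide⟩ = P ⟨⟨0, 0, 0, 4⟩, by decide⟩ :=
    gl_mul f h h2 _ _ _ (by decide)
  have hji : P ⟨⟨0, 0, 4, 0⟩, by decide⟩ * P ⟨⟨0, 4, 0, 0⟩, by decide⟩ = P ⟨⟨0, 0, 0, 4⟩, by decide⟩ :=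
    gl_mul f h h2 _ _ _ (by decide)
  have hjj : P ⟨⟨0, 0, 4, 0⟩, by decide⟩ * P ⟨⟨0, 0, 4, 0⟩, by decide⟩ = 1 := by
    rw [← pow_two]; exact gl_pow f h h2 _ (by decide)
  have hK : KleinPair (P ⟨⟨0, 4, 0, 0⟩, by decide⟩) (P ⟨⟨0, 0, 4, 0⟩, by decide⟩) := by
    refine ⟨?_, hjj, hij.trans hji.symm, fun e => h4 ?_, fun e => h4 ?_, fun e => h4 ?_⟩
    · rw [← pow_two]; exact gl_pow f h h2 _ (by decide)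
    · simpa [map_ofNat] using (gl_eq_one f h h2 _ e).1
    · simpa [map_ofNat] using (gl_eq_one f h h2 _ e).2.1
    · rw [e, hjj] at hij
      simpa [map_ofNat] using (gl_eq_one f h h2 _ hij.symm).2.2
  have d4 : 4 ∣ Nat.card H := hK.card_V ▸ Subgroup.card_dvd_of_le (hK.V_le hi hj)
  have d3 : 3 ∣ Nat.card H := by
    have : Fact (Nat.Prime 3) := ⟨Nat.prime_three⟩
    rw [← orderOf_eq_prime (p := 3) (gl_pow f h h2 (q := ⟨2, 2, 2, 2⟩) (by decide) (by decide))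
      (fun e => h2 (by simpa [map_ofNat] using (gl_eq_one f h h2 _ e).1))]
    exact Subgroup.orderOf_dvd_natCard _ hw
  have d5 : 5 ∣ Nat.card H := by
    have : Fact (Nat.Prime 5) := ⟨Nat.prime_five⟩
    rw [← orderOf_eq_prime (p := 5) (gl_pow f h h2 (q := ⟨⟨1, 1⟩, ⟨-1, 1⟩, 2, 0⟩) (by decide) (by decide))
      (fun e => h2 (by simpa [map_ofNat] using (gl_eq_one f h h2 _ e).2.1))]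
    exact Subgroup.orderOf_dvd_natCard _ hz
  have h60 : Nat.card H = 60 := by
    have h0 : 0 < Nat.card H := Nat.card_pos
    omega
  refine ⟨H, fun g hg => ?_, h60, iso_A5 h60 (fun g => ?_)⟩
  · obtain ⟨t, rfl⟩ := hHS hg
    exact gl_mem f h h2 _ _
  · obtain ⟨t, ht⟩ := hHS g.2
    simp only [Subtype.ext_iff, Subgroup.coe_pow, Subgroup.coe_one, ← ht]
    rcases tbl_pw t t.2 with e | e | e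
    · exact Or.inl (gl_pow f h h2 _ e)
    · exact Or.inr (Or.inl (gl_pow f h h2 _ e))
    · exact Or.inr (Or.inr (gl_pow f h h2 _ e))

end Cfsg.Agent.H3
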