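import Cfsg.Agent.H3.Central

set_option autoImplicit false

/-! Minimal normal subgroups as products of simple groups; Scott's lemma. -/

namespace Cfsg.Agent.H3

open Function

theorem isSimpleGroup_quotient_of_maximal {N : Type*} [Group N] (L : Subgroup N) [L.Normal]
    (hL : L ≠ ⊤) (hmax : ∀ M : Subgroup N, M.Normal → L ≤ M → M = L ∨ M = ⊤) :
    IsSimpleGroup (N ⧸ L) := by
  have : Nontrivial (N ⧸ L) := by
    obtain ⟨x, hx⟩ : ∃ x, x ∉ L := by
      by_contra h
      push Not at h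
      exact hL ((Subgroup.eq_top_iff' _).2 h)
    exact ⟨⟨x, 1, fun h => hx ((QuotientGroup.eq_one_iff x).1 h)⟩⟩
  refine ⟨fun M hM => ?_⟩
  have h1 := Subgroup.map_comap_eq_self_of_surjective (QuotientGroup.mk'_surjective L) M
  rcases hmax (M.comap (QuotientGroup.mk' L)) (hM.comap _) (fun x hx => by
    rw [Subgroup.mem_comap, QuotientGroup.mk'_apply, (QuotientGroup.eq_one_iff x).2 hx]
    exact M.one_mem) with h | h
  · left
    rw [← h1, h, Subgroup.map_eq_bot_iff, QuotientGroup.ker_mk']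
  · right
    rw [← h1, h]
    exact Subgroup.map_top_of_surjective _ (QuotientGroup.mk'_surjective L)

theorem exists_simple_quotient (N : Type*) [Group N] [Finite N] [Nontrivial N] :
    ∃ (T : Type) (_ : Group T) (π : N →* T), IsSimpleGroup T ∧ Surjective π := by
  obtain ⟨L, -, hL⟩ := exists_maximal_ge_of_wellFoundedGT
    (fun M : Subgroup N => M.Normal ∧ M ≠ ⊤) ⊥ ⟨inferInstance, bot_ne_top⟩
  have := hL.1.1
  have hs := isSimpleGroup_quotient_of_maximal L hL.1.2 (fun M hM hLM => by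
    by_cases h : M = ⊤
    · exact Or.inr h
    · exact Or.inl (le_antisymm (hL.2 ⟨hM, h⟩ hLM) hLM))
  let e := (Shrink.mulEquiv.{0} (α := N ⧸ L))
  exact ⟨Shrink.{0} (N ⧸ L), inferInstance, e.symm.toMonoidHom.comp (QuotientGroup.mk' L),
    e.isSimpleGroup, e.symm.surjective.comp (QuotientGroup.mk'_surjective L)⟩

theorem exists_pi_equiv_of_separating {N T : Type*} [Group N] [Finite N] [Group T] [IsSimpleGroup T]
    (h : ∀ n : N, n ≠ 1 → ∃ ψ : N →* T, Surjective ψ ∧ ψ n ≠ 1) :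
    ∃ m : ℕ, Nonempty (N ≃* (Fin m → T)) := by
  have hex : ∃ c, ∃ (m : ℕ) (φ : N →* (Fin m → T)), Surjective φ ∧ Nat.card φ.ker = c :=
    ⟨_, 0, 1, fun _ => ⟨1, Subsingleton.elim _ _⟩, rfl⟩
  classical
  obtain ⟨m, φ, hφ, hc⟩ := Nat.find_spec hex
  by_cases hk : φ.ker = ⊥
  · exact ⟨m, ⟨MulEquiv.ofBijective φ ⟨(MonoidHom.ker_eq_bot_iff φ).1 hk, hφ⟩⟩⟩
  exfalso
  obtain ⟨⟨n, hn⟩, hn1⟩ := (Subgroup.ne_bot_iff_exists_ne_one).1 hk
  obtain ⟨ψ, hψ, hψn⟩ := h n (fun h => hn1 (Subtype.ext h))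
  have htop : φ.ker.map ψ = ⊤ :=
    (Subgroup.Normal.eq_bot_or_eq_top ((inferInstance : φ.ker.Normal).map ψ hψ)).resolve_left
      fun h => hψn (by
        have : ψ n ∈ φ.ker.map ψ := ⟨n, hn, rfl⟩
        rwa [h, Subgroup.mem_bot] at this)
  let φ' : N →* (Fin (m + 1) → T) :=
    { toFun := fun x => Fin.cons (ψ x) (φ x)
      map_one' := by ext i; refine Fin.cases ?_ (fun i => ?_) i <;> simp
      map_mul' := fun x y => by ext i; refine Fin.cases ?_ (fun i => ?_) i <;> simp }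
  have hφ' : Surjective φ' := by
    intro f
    obtain ⟨x, hx⟩ := hφ (Fin.tail f)
    obtain ⟨y, hy, hy'⟩ : (ψ x)⁻¹ * f 0 ∈ φ.ker.map ψ := by rw [htop]; trivial
    refine ⟨x * y, ?_⟩
    change (Fin.cons (ψ (x * y)) (φ (x * y)) : Fin (m + 1) → T) = f
    rw [map_mul, map_mul, hy', (MonoidHom.mem_ker).1 hy, hx]
    simp
  have hlt : φ'.ker < φ.ker := by
    refine ⟨fun x hx => ?_, fun hle => hψn ?_⟩
    · ext i
      exact congrFun ((MonoidHom.mem_ker).1 hx) i.succ
    · exact congrFun ((MonoidHom.mem_ker).1 (hle hn)) 0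
  have h1 := Nat.find_min' hex ⟨m + 1, φ', hφ', rfl⟩
  rw [← hc] at h1
  exact hlt.ne (Subgroup.eq_of_le_of_card_ge hlt.le h1)

theorem separating_of_minimal_normal {H T : Type*} [Group H] [Group T] [Nontrivial T]
    (N : Subgroup H) [hNn : N.Normal] (hmin : ∀ M : Subgroup H, M.Normal → M ≤ N → M = ⊥ ∨ M = N)
    (π : N →* T) (hπ : Surjective π) (n : N) (hn : n ≠ 1) :
    ∃ g : H, π (MulAut.conjNormal g n) ≠ 1 := by
  let J : Subgroup H :=
    { carrier := {x | ∃ hx : x ∈ N, ∀ g : H, π (MulAut.conjNormal g ⟨x, hx⟩) = 1}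
      one_mem' := ⟨N.one_mem, fun g => by
        change π (MulAut.conjNormal g 1) = 1
        rw [map_one, map_one]⟩
      mul_mem' := by
        rintro x y ⟨hx, hx'⟩ ⟨hy, hy'⟩
        refine ⟨N.mul_mem hx hy, fun g => ?_⟩
        change π (MulAut.conjNormal g (⟨x, hx⟩ * ⟨y, hy⟩)) = 1
        rw [map_mul, map_mul, hx', hy', one_mul]
      inv_mem' := by
        rintro x ⟨hx, hx'⟩
        refine ⟨N.inv_mem hx, fun g => ?_⟩
        change π (MulAut.conjNormal g (⟨x, hx⟩⁻¹)) = 1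
        rw [map_inv, map_inv, hx', inv_one] }
  have hJ : J.Normal := ⟨by
    rintro x ⟨hx, hx'⟩ g
    refine ⟨hNn.conj_mem x hx g, fun g' => ?_⟩
    rw [← hx' (g' * g), map_mul]
    rfl⟩
  by_contra hcon
  push Not at hcon
  rcases hmin J hJ (fun x hx => hx.1) with h | h
  · have : (n : H) ∈ J := ⟨n.2, hcon⟩
    rw [h, Subgroup.mem_bot] at this
    exact hn (Subtype.ext this)
  · obtain ⟨t, ht⟩ := exists_ne (1 : T)
    obtain ⟨x, rfl⟩ := hπ t
    obtain ⟨_, hx⟩ : (x : H) ∈ J := by rw [h]; exact x.2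
    have := hx 1
    rw [map_one] at this
    exact ht this

section Scott

variable {X T : Type*} [Group X] [Group T] [IsSimpleGroup T]

theorem commutator_eq_top_of_simple (hT : ¬ IsMulCommutative T) : commutator T = ⊤ := by
  refine (Subgroup.Normal.eq_bot_or_eq_top inferInstance).resolve_left fun h => hT ⟨⟨fun a b => ?_⟩⟩
  rw [← commutatorElement_eq_one_iff_mul_comm, ← Subgroup.mem_bot, ← h]
  exact Subgroup.commutator_mem_commutator trivial trivial

theorem map_ker_eq_top {ψ χ : X →* T} (hψ : Surjective ψ) (hχ : Surjective χ)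
    (hne : ψ.ker ≠ χ.ker) : χ.ker.map ψ = ⊤ := by
  refine (Subgroup.Normal.eq_bot_or_eq_top
    ((inferInstance : χ.ker.Normal).map ψ hψ)).resolve_left fun h => ?_
  rw [Subgroup.map_eq_bot_iff] at h
  rcases Subgroup.Normal.eq_bot_or_eq_top ((inferInstance : ψ.ker.Normal).map χ hχ) with h' | h'
  · rw [Subgroup.map_eq_bot_iff] at h'
    exact hne (le_antisymm h' h)
  · obtain ⟨t, ht⟩ := exists_ne (1 : T)
    obtain ⟨x, rfl⟩ := hψ t
    obtain ⟨y, hy, hxy⟩ : χ x ∈ ψ.ker.map χ := by rw [h']; trivial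
    have h1 : y⁻¹ * x ∈ χ.ker := by rw [MonoidHom.mem_ker, map_mul, map_inv, hxy, inv_mul_cancel]
    have h2 := ψ.ker.mul_mem hy (h h1)
    rw [mul_inv_cancel_left] at h2
    exact ht h2

theorem map_inf_eq_top (hT : ¬ IsMulCommutative T) {ψ : X →* T} {A B : Subgroup X} [A.Normal]
    [B.Normal] (hA : A.map ψ = ⊤) (hB : B.map ψ = ⊤) : (A ⊓ B).map ψ = ⊤ := by
  rw [eq_top_iff, ← commutator_eq_top_of_simple hT, commutator_def]
  nth_rewrite 1 [← hA]
  rw [← hB, ← Subgroup.map_commutator]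
  exact Subgroup.map_mono (Subgroup.commutator_le_inf A B)

/-- Surjections onto a non-abelian simple group with pairwise different kernels are independent. -/
theorem exists_forall_eq_of_ker_ne (hT : ¬ IsMulCommutative T) {I : Type*} (ψ : I → X →* T)
    (hψ : ∀ i, Surjective (ψ i)) (s : Finset I)
    (hne : ∀ i ∈ s, ∀ j ∈ s, (ψ i).ker = (ψ j).ker → i = j) (f : I → T) :
    ∃ x : X, ∀ i ∈ s, ψ i x = f i := by
  classical
  have aux : ∀ (i : I) (s : Finset I), (∀ j ∈ s, (ψ i).ker ≠ (ψ j).ker) →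
      ∃ A : Subgroup X, A.Normal ∧ A.map (ψ i) = ⊤ ∧ ∀ j ∈ s, A ≤ (ψ j).ker := by
    intro i s
    induction s using Finset.induction_on with
    | empty => exact fun _ => ⟨⊤, inferInstance, Subgroup.map_top_of_surjective _ (hψ i), by simp⟩
    | insert j s hj ih =>
      intro h
      obtain ⟨A, hA, hA', hA''⟩ := ih fun l hl => h l (Finset.mem_insert_of_mem hl)
      refine ⟨A ⊓ (ψ j).ker, inferInstance, map_inf_eq_top hT hA'
        (map_ker_eq_top (hψ i) (hψ j) (h j (Finset.mem_insert_self _ _))), fun l hl => ?_⟩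
      rcases Finset.mem_insert.1 hl with rfl | hl
      · exact inf_le_right
      · exact inf_le_left.trans (hA'' l hl)
  induction s using Finset.induction_on with
  | empty => exact ⟨1, by simp⟩
  | insert i s hi ih =>
    obtain ⟨x, hx⟩ := ih fun a ha b hb => hne a (Finset.mem_insert_of_mem ha) b
      (Finset.mem_insert_of_mem hb)
    obtain ⟨A, -, hA', hA''⟩ := aux i s fun j hj h =>
      hi (hne i (Finset.mem_insert_self _ _) j (Finset.mem_insert_of_mem hj) h ▸ hj)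
    obtain ⟨y, hy, hy'⟩ : (ψ i x)⁻¹ * f i ∈ A.map (ψ i) := by rw [hA']; trivial
    refine ⟨x * y, fun j hj => ?_⟩
    rcases Finset.mem_insert.1 hj with rfl | hj
    · rw [map_mul, hy', mul_inv_cancel_left]
    · rw [map_mul, (MonoidHom.mem_ker).1 (hA'' j hj hy), mul_one, hx j hj]

omit [IsSimpleGroup T] in
theorem exists_mulAut_of_ker_eq {ψ χ : X →* T} (hψ : Surjective ψ) (hχ : Surjective χ)
    (h : ψ.ker = χ.ker) : ∃ θ : T ≃* T, ∀ x, θ (ψ x) = χ x :=
  ⟨((QuotientGroup.quotientKerEquivOfSurjective ψ hψ).symm.trans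
    (QuotientGroup.quotientMulEquivOfEq h)).trans (QuotientGroup.quotientKerEquivOfSurjective χ hχ),
    fun x => by
      have : (QuotientGroup.quotientKerEquivOfSurjective ψ hψ).symm (ψ x) = (x : X ⧸ ψ.ker) := by
        rw [MulEquiv.symm_apply_eq]; rfl
      simp only [MulEquiv.trans_apply, this]
      rfl⟩

end Scott

end Cfsg.Agent.H3
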