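import Cfsg.Agent.H3.SmallSupport
import Cfsg.Agent.H8.Basic

set_option autoImplicit false

/-! Stabilisers of uniform partitions in symmetric and alternating groups. -/

namespace Cfsg.Agent.H3

open MulAction Function Equiv

section
variable {Ω β : Type*}

/-- the stabiliser of the partition of `Ω` into the fibres of `f` -/
def partStab (f : Ω → β) : Subgroup (Perm Ω) where
  carrier := {g | ∀ x y, f x = f y ↔ f (g x) = f (g y)}
  one_mem' := fun _ _ => Iff.rfl
  mul_mem' := fun hg hh x y => (hh x y).trans (hg _ _)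
  inv_mem' := fun {g} hg x y => by rw [hg (g⁻¹ x) (g⁻¹ y)]; simp

theorem closure_partStab (f : Ω → β) :
    Subgroup.closure {g : Perm Ω | ∀ x y : Ω, f x = f y ↔ f (g x) = f (g y)} = partStab f :=
  (partStab f).closure_eq

theorem mem_partStab_of_lift {f : Ω → β} {w : Perm Ω} (σ : Perm β) (h : ∀ z, f (w z) = σ (f z)) :
    w ∈ partStab f := fun x y => by rw [h, h, σ.injective.eq_iff]

theorem swap_mem_partStab [DecidableEq Ω] {f : Ω → β} {u v : Ω} (h : f u = f v) :
    swap u v ∈ partStab f := mem_partStab_of_lift 1 fun z => apply_swap_eq_self h z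

theorem exists_lift [Finite Ω] {f : Ω → β} {a : ℕ} (hf : ∀ i, Nat.card {x // f x = i} = a)
    (σ : Perm β) : ∃ w : Perm Ω, ∀ z, f (w z) = σ (f z) := by
  have e : ∀ c, {x // σ (f x) = c} ≃ {x // f x = c} := fun c => Classical.choice
    (Finite.card_eq.1 (by simp only [← σ.eq_symm_apply, hf]))
  exact ⟨ofFiberEquiv (f := fun x => σ (f x)) e, fun z => ofFiberEquiv_map e z⟩

theorem exists_pair_fiber [Finite Ω] {f : Ω → β} {a : ℕ} (hf : ∀ i, Nat.card {x // f x = i} = a)
    (ha : 2 ≤ a) (i : β) : ∃ u v, u ≠ v ∧ f u = i ∧ f v = i := by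
  have : Nontrivial {x // f x = i} := Finite.one_lt_card_iff_nontrivial.1 (by rw [hf]; omega)
  obtain ⟨u, v, h⟩ := exists_pair_ne {x // f x = i}
  exact ⟨u, v, fun e => h (Subtype.ext e), u.2, v.2⟩

theorem exists_pair_fiber_ne [Finite Ω] {f : Ω → β} {a : ℕ} (hf : ∀ i, Nat.card {x // f x = i} = a)
    (ha : 3 ≤ a) (x : Ω) : ∃ u v, u ≠ v ∧ u ≠ x ∧ v ≠ x ∧ f u = f x ∧ f v = f x := by
  classical
  have := Fintype.ofFinite {y // f y = f x}
  obtain ⟨u, hu, v, hv, h⟩ := Finset.one_lt_card.1 (show 1 < (Finset.univ.erase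
    (⟨x, rfl⟩ : {y // f y = f x})).card by
      rw [Finset.card_erase_of_mem (Finset.mem_univ _), Finset.card_univ, ← Nat.card_eq_fintype_card,
        hf]; omega)
  exact ⟨u, v, fun e => h (Subtype.ext e), fun e => Finset.ne_of_mem_erase hu (Subtype.ext e),
    fun e => Finset.ne_of_mem_erase hv (Subtype.ext e), u.2, v.2⟩

theorem prim_or_le {f : Ω → β} (L : Subgroup (Perm Ω))
    (T1 : ∀ x y, ∃ g ∈ L, g ∈ partStab f ∧ g x = y)
    (T2 : ∀ x y z, f y = f x → f z = f x → y ≠ x → z ≠ x → ∃ g ∈ L, g x = x ∧ g y = z)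
    (T3 : ∀ x y z, f y ≠ f x → f z ≠ f x → ∃ g ∈ L, g x = x ∧ g y = z)
    (hL : ¬ L ≤ partStab f) : IsPreprimitive L Ω := by
  have : IsPretransitive L Ω := ⟨fun x y => by
    obtain ⟨g, hg, -, h⟩ := T1 x y
    exact ⟨⟨g, hg⟩, h⟩⟩
  refine prim_of_block fun B hB x hx y hy hxy => ?_
  have hB' : ∀ g ∈ L, ∀ u ∈ B, g u ∈ B → ∀ v ∈ B, g v ∈ B := fun g hg u hu => hB ⟨g, hg⟩ u hu
  have key : ∀ u ∈ B, ∀ v ∈ B, f v ≠ f u → ∀ z, f z ≠ f u → z ∈ B := by
    intro u hu v hv huv z hz
    obtain ⟨g, hg, h1, rfl⟩ := T3 u v z huv hz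
    exact hB' g hg u hu (h1.symm ▸ hu) v hv
  by_cases h : ∃ v ∈ B, f v ≠ f x
  · obtain ⟨v, hv, hvx⟩ := h
    intro z
    by_cases hz : f z = f x
    · exact key v hv x hx hvx.symm z (hz ▸ hvx.symm)
    · exact key x hx v hv hvx z hz
  push Not at h
  have h2 : ∀ z, f z = f x → z ∈ B := by
    intro z hz
    by_cases hzx : z = x
    · exact hzx ▸ hx
    obtain ⟨g, hg, h1, rfl⟩ := T2 x y z (h y hy) hz hxy.symm hzx
    exact hB' g hg x hx (h1.symm ▸ hx) y hy
  have h3 : ∀ g ∈ L, ∀ u v, f u = f v → f (g u) = f (g v) := by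
    intro g hg u v huv
    obtain ⟨k, hk, hk', rfl⟩ := T1 x u
    obtain ⟨l, hl, hl', e⟩ := T1 (g (k x)) x
    obtain ⟨v, rfl⟩ := k.surjective v
    rw [hl', e]
    exact (h _ (hB' (l * g * k) (L.mul_mem (L.mul_mem hl hg) hk) x hx (e.symm ▸ hx : l (g (k x)) ∈ B) v
      (h2 v ((hk' _ _).2 huv).symm))).symm
  exact absurd (fun g hg u v => ⟨h3 g hg u v, fun e => by
    simpa using h3 g⁻¹ (L.inv_mem hg) _ _ e⟩) hL

variable [Fintype Ω] [DecidableEq Ω] {f : Ω → β} {a : ℕ}

theorem exists_W1 (hf : ∀ i, Nat.card {x // f x = i} = a) (x y : Ω) :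
    ∃ g ∈ partStab f, g x = y := by
  classical
  obtain ⟨w, hw⟩ := exists_lift hf (swap (f x) (f y))
  exact ⟨swap (w x) y * w, mul_mem (swap_mem_partStab (by simp [hw])) (mem_partStab_of_lift _ hw),
    by simp⟩

theorem exists_W3 (hf : ∀ i, Nat.card {x // f x = i} = a) {x y z : Ω} (hy : f y ≠ f x)
    (hz : f z ≠ f x) : ∃ g ∈ partStab f, g x = x ∧ g y = z := by
  classical
  obtain ⟨w, hw⟩ := exists_lift hf (swap (f y) (f z))
  have h1 : f (w x) = f x := by rw [hw, swap_apply_of_ne_of_ne hy.symm hz.symm]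
  have h2 : f (w y) = f z := by rw [hw, swap_apply_left]
  refine ⟨swap (w x) x * swap (w y) z * w, mul_mem (mul_mem (swap_mem_partStab h1)
    (swap_mem_partStab h2)) (mem_partStab_of_lift _ hw), ?_, ?_⟩
  · rw [Perm.mul_apply, Perm.mul_apply, swap_apply_of_ne_of_ne (x := w x), swap_apply_left]
    · exact fun e => hz (by rw [← h2, ← e, h1])
    · exact fun e => hz (by rw [← e, h1])
  · rw [Perm.mul_apply, Perm.mul_apply, swap_apply_left, swap_apply_of_ne_of_ne]
    · exact fun e => hz (by rw [e, h1])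
    · exact fun e => hz (by rw [e])

theorem exists_even_fix {w : Perm Ω} (hw : w ∈ partStab f) {u v : Ω} (huv : u ≠ v) (h : f u = f v) :
    ∃ g ∈ partStab f ⊓ alternatingGroup Ω, ∀ z, z ≠ u → z ≠ v → g z = w z := by
  rcases Int.units_eq_one_or (Perm.sign w) with h1 | h1
  · exact ⟨w, ⟨hw, h1⟩, fun _ _ _ => rfl⟩
  · refine ⟨w * swap u v, ⟨mul_mem hw (swap_mem_partStab h), ?_⟩, fun z h1 h2 => by
      rw [Perm.mul_apply, swap_apply_of_ne_of_ne h1 h2]⟩
    simp [h1, Perm.sign_swap huv]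

theorem isCoatom_partStab [Nontrivial β] (hf : ∀ i, Nat.card {x // f x = i} = a) (ha : 2 ≤ a) :
    IsCoatom (partStab f) := by
  obtain ⟨i, j, hij⟩ := exists_pair_ne β
  obtain ⟨u, v, huv, hu, hv⟩ := exists_pair_fiber hf ha i
  obtain ⟨w, -, -, hw, -⟩ := exists_pair_fiber hf ha j
  refine ⟨fun h => hij ?_, fun L hL => ?_⟩
  · have := ((show swap v w ∈ partStab f from h ▸ Subgroup.mem_top _) u v).1 (hu.trans hv.symm)
    rwa [swap_apply_left, swap_apply_of_ne_of_ne huv (fun e => hij (by rw [← hu, e, hw])), hu,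
      hw] at this
  · refine Perm.subgroup_eq_top_of_isPreprimitive_of_isSwap_mem (prim_or_le L (fun x y => ?_)
      (fun x y z hy hz hyx hzx => ⟨swap y z, hL.le (swap_mem_partStab (hy.trans hz.symm)),
        swap_apply_of_ne_of_ne hyx.symm hzx.symm, swap_apply_left _ _⟩)
      (fun x y z hy hz => ?_) hL.not_ge) (swap u v) ⟨u, v, huv, rfl⟩
      (hL.le (swap_mem_partStab (hu.trans hv.symm)))
    · obtain ⟨g, hg, h⟩ := exists_W1 hf x y
      exact ⟨g, hL.le hg, hg, h⟩
    · obtain ⟨g, hg, h⟩ := exists_W3 hf hy hz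
      exact ⟨g, hL.le hg, h⟩

theorem exists_even_W1 [Nontrivial β] (hf : ∀ i, Nat.card {x // f x = i} = a) (ha : 2 ≤ a)
    (x y : Ω) : ∃ g ∈ partStab f ⊓ alternatingGroup Ω, g x = y := by
  obtain ⟨w, hw, rfl⟩ := exists_W1 hf x y
  obtain ⟨j, hj⟩ := exists_ne (f x)
  obtain ⟨u, v, huv, hu, hv⟩ := exists_pair_fiber hf ha j
  obtain ⟨g, hg, h⟩ := exists_even_fix hw huv (hu.trans hv.symm)
  exact ⟨g, hg, h x (fun e => hj (by rw [e, hu])) fun e => hj (by rw [e, hv])⟩

theorem prim_of_alt [Fintype β] [Nontrivial β] (hf : ∀ i, Nat.card {x // f x = i} = a) (ha : 2 ≤ a)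
    (h3 : 3 ≤ a ∨ 3 ≤ Fintype.card β) {L : Subgroup (Perm Ω)}
    (hL : partStab f ⊓ alternatingGroup Ω ≤ L) (hL' : ¬ L ≤ partStab f) : IsPreprimitive L Ω := by
  classical
  refine prim_or_le L (fun x y => ?_) (fun x y z hy hz hyx hzx => ?_) (fun x y z hy hz => ?_) hL'
  · obtain ⟨g, hg, h⟩ := exists_even_W1 hf ha x y
    exact ⟨g, hL hg, hg.1, h⟩
  · obtain ⟨j, hj⟩ := exists_ne (f x)
    obtain ⟨u, v, huv, hu, hv⟩ := exists_pair_fiber hf ha j
    obtain ⟨g, hg, h⟩ := exists_even_fix (swap_mem_partStab (hy.trans hz.symm)) huv (hu.trans hv.symm)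
    refine ⟨g, hL hg, ?_, ?_⟩
    · rw [h x (fun e => hj (by rw [e, hu])) fun e => hj (by rw [e, hv]),
        swap_apply_of_ne_of_ne hyx.symm hzx.symm]
    · rw [h y (fun e => hj (by rw [← hy, e, hu])) fun e => hj (by rw [← hy, e, hv]), swap_apply_left]
  · obtain ⟨w, hw, h1, h2⟩ := exists_W3 hf hy hz
    obtain ⟨u, v, huv, e, h⟩ : ∃ u v, u ≠ v ∧ f u = f v ∧ x ≠ u ∧ x ≠ v ∧ y ≠ u ∧ y ≠ v := by
      rcases h3 with h3 | h3
      · obtain ⟨u, v, huv, hu, hv, e1, e2⟩ := exists_pair_fiber_ne hf h3 x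
        exact ⟨u, v, huv, e1.trans e2.symm, hu.symm, hv.symm, fun e => hy (e ▸ e1),
          fun e => hy (e ▸ e2)⟩
      · obtain ⟨j, -, hj⟩ := Finset.exists_mem_notMem_of_card_lt_card (s := {f x, f y})
          (t := Finset.univ) (Finset.card_le_two.trans_lt h3)
        simp only [Finset.mem_insert, Finset.mem_singleton, not_or] at hj
        obtain ⟨u, v, huv, hu, hv⟩ := exists_pair_fiber hf ha j
        exact ⟨u, v, huv, hu.trans hv.symm, fun e => hj.1 (by rw [e, hu]),
          fun e => hj.1 (by rw [e, hv]), fun e => hj.2 (by rw [e, hu]), fun e => hj.2 (by rw [e, hv])⟩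
    obtain ⟨g, hg, h'⟩ := exists_even_fix hw huv e
    exact ⟨g, hL hg, by rw [h' x h.1 h.2.1, h1], by rw [h' y h.2.2.1 h.2.2.2, h2]⟩

theorem swap_mul_swap_mem_alt {u v r s : Ω} (h1 : u ≠ v) (h2 : r ≠ s) :
    swap u v * swap r s ∈ alternatingGroup Ω := by
  simp [Perm.sign_swap h1, Perm.sign_swap h2]

theorem exists_threeCycle_two [Fintype β] (hf : ∀ i, Nat.card {x // f x = i} = 2)
    (hb : Fintype.card β = 3 ∨ 5 ≤ Fintype.card β) {L : Subgroup (Perm Ω)}
    (hL : partStab f ⊓ alternatingGroup Ω ≤ L) {g : Perm Ω} (hg : g ∈ L) {x y : Ω}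
    (hxy : f x = f y) (hne : f (g x) ≠ f (g y)) : ∃ c ∈ L, c.IsThreeCycle := by
  classical
  have hpart : ∀ x, ∃ x', x' ≠ x ∧ f x' = f x ∧ ∀ z, f z = f x → z = x ∨ z = x' := by
    intro x
    obtain ⟨y, hy, hy'⟩ := (Nat.card_eq_two_iff' (⟨x, rfl⟩ : {y // f y = f x})).1 (hf (f x))
    refine ⟨y, fun e => hy (Subtype.ext e), y.2, fun z hz => ?_⟩
    by_cases h : z = x
    · exact Or.inl h
    · exact Or.inr (congrArg Subtype.val (hy' ⟨z, hz⟩ fun e => h (congrArg Subtype.val e)))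
  have hxy' : x ≠ y := fun e => hne (by rw [e])
  have hH : ∀ {u v r s : Ω}, u ≠ v → r ≠ s → f u = f v → f r = f s → swap u v * swap r s ∈ L :=
    fun h1 h2 h3 h4 => hL ⟨mul_mem (swap_mem_partStab h3) (swap_mem_partStab h4),
      swap_mul_swap_mem_alt h1 h2⟩
  have hτ : ∀ {p q : Ω}, p ≠ q → f p = f q → swap (g x) (g y) * swap (g p) (g q) ∈ L := by
    intro p q h1 h2
    have := L.mul_mem (L.mul_mem hg (hH hxy' h1 hxy h2)) (L.inv_mem hg)
    rwa [swap_apply_apply, swap_apply_apply, conj_mul]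
  have hex : ∀ s : Finset β, s.card < Fintype.card β → ∃ r s', r ≠ s' ∧ f r = f s' ∧ f r ∉ s := by
    intro s hs
    obtain ⟨j, -, hj⟩ := Finset.exists_mem_notMem_of_card_lt_card (s := s) (t := Finset.univ) hs
    obtain ⟨u, v, huv, hu, hv⟩ := exists_pair_fiber hf le_rfl j
    exact ⟨u, v, huv, hu.trans hv.symm, hu ▸ hj⟩
  obtain ⟨u', hu1, hu2, hu3⟩ := hpart (g x)
  have hu4 : u' ≠ g y := fun e => hne (by rw [← hu2, e])
  rcases hb with hb | hb
  · obtain ⟨w, hw1, hw2, hw3⟩ := hpart (g y)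
    obtain ⟨p, rfl⟩ := g.surjective u'
    obtain ⟨q, hq1, hq2, hq3⟩ := hpart p
    have hpw : g p ≠ w := fun e => hne (by rw [← hu2, e, hw2])
    by_cases hv : g q = w
    · obtain ⟨r, s, hrs, e, h⟩ := hex {f (g x), f (g y)} (Finset.card_le_two.trans_lt (by omega))
      simp only [Finset.mem_insert, Finset.mem_singleton, not_or] at h
      obtain ⟨r, rfl⟩ := g.surjective r
      obtain ⟨s, rfl⟩ := g.surjective s
      obtain ⟨x', -, -, hx3⟩ := hpart x
      have hx4 : ∀ z, f z = f x → z = x ∨ z = y := fun z hz => (hx3 z hz).imp_right fun e =>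
        e.trans ((hx3 y hxy.symm).resolve_left hxy'.symm).symm
      have hpx : f p ≠ f x := fun e => (hx4 p e).elim (fun e => hu1 (by rw [e])) fun e => hu4 (by rw [e])
      have hout : ∀ z, f (g z) ≠ f (g x) → f (g z) ≠ f (g y) → f z ≠ f x ∧ f z ≠ f p := by
        intro z h1 h2
        refine ⟨fun e => (hx4 z e).elim (fun e => h1 (by rw [e])) fun e => h2 (by rw [e]),
          fun e => (hq3 z e).elim (fun e => h1 (by rw [e, hu2])) fun e => h2 (by rw [e, hv, hw2])⟩
      have hr := hout r h.1 h.2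
      have hs := hout s (e ▸ h.1) (e ▸ h.2)
      have hrs' : f r = f s := by
        by_contra hc
        have := Finset.card_le_univ ({f x, f p, f r, f s} : Finset β)
        rw [Finset.card_insert_of_notMem (by simp [hpx.symm, hr.1.symm, hs.1.symm]),
          Finset.card_insert_of_notMem (by simp [hr.2.symm, hs.2.symm]), Finset.card_pair hc] at this
        omega
      refine ⟨_, L.mul_mem (hτ (g.injective.ne_iff.1 hrs) hrs') (hH hrs hu1.symm e hu2.symm), ?_⟩
      rw [mul_assoc, swap_mul_self_mul]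
      exact Perm.isThreeCycle_swap_mul_swap_same (g.injective.ne hxy') hu1.symm hu4.symm
    · have hs : swap (g x) (g y) * swap (g p) w ∈ L := by
        refine hL ⟨mem_partStab_of_lift (swap (f (g x)) (f (g y))) fun z => ?_,
          swap_mul_swap_mem_alt (g.injective.ne hxy') hpw⟩
        have hwx : w ≠ g x := fun e => hne (by rw [← e, hw2])
        rw [Perm.mul_apply]
        by_cases h1 : f z = f (g x)
        · rw [h1, swap_apply_left]
          rcases hu3 z h1 with rfl | rfl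
          · rw [swap_apply_of_ne_of_ne hu1.symm hwx.symm, swap_apply_left]
          · rw [swap_apply_left, swap_apply_of_ne_of_ne hwx hw1, hw2]
        by_cases h2 : f z = f (g y)
        · rw [h2, swap_apply_right]
          rcases hw3 z h2 with rfl | rfl
          · rw [swap_apply_of_ne_of_ne hu4.symm hw1.symm, swap_apply_right]
          · rw [swap_apply_right, swap_apply_of_ne_of_ne hu1 hu4, hu2]
        · rw [swap_apply_of_ne_of_ne h1 h2, swap_apply_of_ne_of_ne (x := z),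
            swap_apply_of_ne_of_ne (x := z)]
          exacts [fun e => h1 (by rw [e]), fun e => h2 (by rw [e]), fun e => h1 (by rw [e, hu2]),
            fun e => h2 (by rw [e, hw2])]
      refine ⟨_, L.mul_mem (L.inv_mem (hτ hq1.symm hq2.symm)) hs, ?_⟩
      rw [mul_inv_rev, mul_assoc, inv_mul_cancel_left, swap_inv]
      exact Perm.isThreeCycle_swap_mul_swap_same (g.injective.ne hq1.symm) hpw hv
  · obtain ⟨p, q, hpq, e, h⟩ := hex {f x, f (g⁻¹ u')} (Finset.card_le_two.trans_lt (by omega))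
    simp only [Finset.mem_insert, Finset.mem_singleton, not_or] at h
    obtain ⟨r, s, hrs, e', h'⟩ := hex {f (g x), f (g y), f (g p), f (g q)}
      (Finset.card_le_four.trans_lt (by omega))
    simp only [Finset.mem_insert, Finset.mem_singleton, not_or] at h'
    have h1 := hτ hpq e
    have h2 := hH hu1.symm hrs hu2.symm e'
    refine ⟨_, L.mul_mem (L.mul_mem (L.mul_mem h1 h2) (L.inv_mem h1)) (L.inv_mem h2), ?_⟩
    set τ := swap (g x) (g y) * swap (g p) (g q) with hτ'
    have hfix : ∀ z, z ≠ g x → z ≠ g y → z ≠ g p → z ≠ g q → τ z = z := fun z a1 a2 a3 a4 => by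
      rw [hτ', Perm.mul_apply, swap_apply_of_ne_of_ne a3 a4, swap_apply_of_ne_of_ne a1 a2]
    have t1 : τ (g x) = g y := by
      rw [hτ', Perm.mul_apply, swap_apply_of_ne_of_ne (x := g x), swap_apply_left]
      exacts [g.injective.ne fun e => h.1 (by rw [e]), g.injective.ne fun e' => h.1 (by rw [e, e'])]
    have t2 : τ u' = u' := hfix _ hu1 hu4 (fun e => h.2 (by simp [e])) fun e' => h.2 (by simp [e, e'])
    have t3 : τ r = r := hfix _ (fun e => h'.1 (by rw [e])) (fun e => h'.2.1 (by rw [e]))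
      (fun e => h'.2.2.1 (by rw [e])) fun e => h'.2.2.2 (by rw [e])
    have t4 : τ s = s := hfix _ (fun e => h'.1 (by rw [e', e])) (fun e => h'.2.1 (by rw [e', e]))
      (fun e => h'.2.2.1 (by rw [e', e])) fun e => h'.2.2.2 (by rw [e', e])
    rw [← conj_mul, ← swap_apply_apply, ← swap_apply_apply, t1, t2, t3, t4, mul_inv_rev, mul_assoc,
      mul_inv_cancel_left, swap_inv, swap_comm _ u', swap_comm _ u']
    exact Perm.isThreeCycle_swap_mul_swap_same hu4 hu1 (g.injective.ne hxy'.symm)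

theorem isCoatom_partStab_alt {b : ℕ} {f : Ω → Fin b} (h8 : Fintype.card Ω ≠ 8) (ha : 2 ≤ a)
    (hb : 2 ≤ b) (hf : ∀ i, Nat.card {x // f x = i} = a) :
    IsCoatom ((partStab f ⊓ alternatingGroup Ω).subgroupOf (alternatingGroup Ω)) := by
  have : Nontrivial (Fin b) := Fin.nontrivial_iff_two_le.2 hb
  have hcard : Fintype.card Ω = b * a := by
    rw [← Fintype.card_congr (sigmaFiberEquiv f), Fintype.card_sigma]
    simp only [← Nat.card_eq_fintype_card, hf]
    simp
  rw [H8.isCoatom_subgroupOf_iff inf_le_right]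
  refine ⟨fun h => ?_, fun L hL hLA => ?_⟩
  · obtain ⟨i, j, hij⟩ := exists_pair_ne (Fin b)
    obtain ⟨u, v, huv, hu, hv⟩ := exists_pair_fiber hf ha i
    obtain ⟨w, w', hww, hw, hw'⟩ := exists_pair_fiber hf ha j
    have n1 : u ≠ w := fun e => hij (by rw [← hu, e, hw])
    have n2 : v ≠ w := fun e => hij (by rw [← hv, e, hw])
    have n3 : u ≠ w' := fun e => hij (by rw [← hu, e, hw'])
    have n4 : v ≠ w' := fun e => hij (by rw [← hv, e, hw'])
    have := ((h.ge (swap_mul_swap_mem_alt n2 hww)).1 u v).1 (hu.trans hv.symm)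
    simp only [Perm.mul_apply, swap_apply_of_ne_of_ne n1 n3, swap_apply_of_ne_of_ne huv n1,
      swap_apply_of_ne_of_ne n2 n4, swap_apply_left, hu, hw] at this
    exact hij this
  by_cases hle : L ≤ partStab f
  · exact Or.inl (le_antisymm (le_inf hle hLA) hL)
  refine Or.inr (le_antisymm hLA ?_)
  by_cases h3 : 3 ≤ a ∨ 3 ≤ b
  · have hp := prim_of_alt hf ha (by simpa using h3) hL hle
    obtain ⟨c, hc, hc3⟩ : ∃ c ∈ L, c.IsThreeCycle := by
      by_cases h3a : 3 ≤ a
      · obtain ⟨x, -, -, -⟩ := exists_pair_fiber hf ha ⟨0, by omega⟩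
        obtain ⟨u, v, huv, hu, hv, e1, e2⟩ := exists_pair_fiber_ne hf h3a x
        exact ⟨_, hL ⟨mul_mem (swap_mem_partStab e1.symm) (swap_mem_partStab e2.symm),
          swap_mul_swap_mem_alt hu.symm hv.symm⟩,
          Perm.isThreeCycle_swap_mul_swap_same hu.symm hv.symm huv⟩
      · obtain rfl : a = 2 := by omega
        obtain ⟨g, hg, x, y, h1, h2⟩ : ∃ g ∈ L, ∃ x y, f x = f y ∧ f (g x) ≠ f (g y) := by
          by_contra hc
          push Not at hc
          exact hle fun g hg u v => ⟨hc g hg u v, fun e => by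
            simpa using hc g⁻¹ (L.inv_mem hg) _ _ e⟩
        exact exists_threeCycle_two hf (by simp; omega) hL hg h1 h2
    exact Perm.alternatingGroup_le_of_isPreprimitive_of_isThreeCycle_mem hp hc3 hc
  · obtain rfl : a = 2 := by omega
    obtain rfl : b = 2 := by omega
    obtain ⟨g, hg, hg'⟩ := SetLike.not_le_iff_exists.1 hle
    obtain ⟨x, -, -, -⟩ := exists_pair_fiber hf ha 0
    obtain ⟨h, hh, e⟩ := exists_even_W1 hf ha (g x) x
    have h1 : h * g ≠ 1 := fun e => hg' (by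
      rw [eq_inv_of_mul_eq_one_right e]; exact inv_mem hh.1)
    have h2 : (h * g).support.card ≤ 3 := by
      have := Finset.card_lt_card (s := (h * g).support) (Finset.ssubset_univ_iff.2 fun e' =>
        (Perm.notMem_support.2 (show (h * g) x = x from e)) (e' ▸ Finset.mem_univ x))
      rw [Finset.card_univ] at this
      omega
    have h4 : h * g ∈ L := L.mul_mem (hL hh) hg
    have h5 : (h * g).IsThreeCycle := by
      have := Perm.two_le_card_support_of_ne_one h1
      rcases h2.eq_or_lt with h2 | h2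
      · exact card_support_eq_three_iff.1 h2
      · have h6 := (Perm.card_support_eq_two.1 (show (h * g).support.card = 2 by omega)).sign_eq
        have h7 : Perm.sign (h * g) = 1 := hLA h4
        rw [h6] at h7
        exact absurd h7 (by decide)
    have d3 : 3 ∣ Nat.card L := h5.orderOf ▸ L.orderOf_dvd_natCard h4
    have : IsPretransitive L Ω := ⟨fun x y => by
      obtain ⟨g, hg, h⟩ := exists_even_W1 hf ha x y
      exact ⟨⟨g, hL hg⟩, h⟩⟩
    have d4 : 4 ∣ Nat.card L := by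
      have := (stabilizer L x).index_dvd_card
      rwa [index_stabilizer_of_transitive, Nat.card_eq_fintype_card, hcard] at this
    have : Nontrivial Ω := Fintype.one_lt_card_iff_nontrivial.1 (by omega)
    refine (Subgroup.eq_of_le_of_card_ge hLA ?_).ge
    rw [nat_card_alternatingGroup, Nat.card_eq_fintype_card (α := Ω), hcard]
    exact Nat.le_of_dvd Nat.card_pos (Nat.Coprime.mul_dvd_of_dvd_of_dvd (by norm_num) d3 d4)

end

end Cfsg.Agent.H3
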