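import Mathlib
import Cfsg.Agent.H3.PglBasic

/-! Klein four subgroups of `PSL(2, F)` and their normalisers. -/

set_option autoImplicit false

namespace Cfsg.Agent.H3

open MulAction Matrix OnePoint
open scoped MatrixGroups
open Matrix.ProjGenLinGroup (mk)
open Cfsg.Agent.H8

variable {F : Type*} [Field F]

/-- Trace. -/
def tr (A : GL (Fin 2) F) : F := A 0 0 + A 1 1

/-- Determinant. -/
def dt (A : GL (Fin 2) F) : F := A 0 0 * A 1 1 - A 0 1 * A 1 0

theorem dt_eq (A : GL (Fin 2) F) : dt A = (A : Matrix (Fin 2) (Fin 2) F).det := (det_fin_two _).symm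

theorem dt_ne (A : GL (Fin 2) F) : dt A ≠ 0 := dt_eq A ▸ A.det_ne_zero

theorem dt_mul (A B : GL (Fin 2) F) : dt (A * B) = dt A * dt B := by
  rw [dt_eq, dt_eq, dt_eq, Units.val_mul, det_mul]

theorem exists_lift {g : PGL(2, F)} (hg : g ∈ Lsub F) : ∃ A : GL (Fin 2) F, mk A = g ∧ dt A = 1 := by
  obtain ⟨s, rfl⟩ := hg
  exact ⟨SpecialLinearGroup.toGL s, rfl, by rw [dt_eq]; exact s.det_coe⟩

/-- The Chebyshev-like sequence governing powers of a two by two matrix. -/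
def useq (τ δ : F) : ℕ → F
  | 0 => 0
  | 1 => 1
  | n + 2 => τ * useq τ δ (n + 1) - δ * useq τ δ n

theorem pow_succ_val (A : GL (Fin 2) F) (n : ℕ) :
    ((A ^ (n + 1) : GL (Fin 2) F) : Matrix (Fin 2) (Fin 2) F) =
      useq (tr A) (dt A) (n + 1) • (A : Matrix (Fin 2) (Fin 2) F) -
        (dt A * useq (tr A) (dt A) n) • (1 : Matrix (Fin 2) (Fin 2) F) := by
  induction n with
  | zero => simp [useq]
  | succ n ih =>
    rw [pow_succ, Units.val_mul, ih]
    ext i j
    fin_cases i <;> fin_cases j <;>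
      simp [useq, Matrix.mul_apply, Fin.sum_univ_two, tr, dt] <;> ring

theorem useq_eq_zero {A : GL (Fin 2) F} {n : ℕ} (h : mk A ^ (n + 1) = 1) (h1 : mk A ≠ 1) :
    useq (tr A) (dt A) (n + 1) = 0 := by
  by_contra hne
  apply h1
  rw [← map_pow, mk_eq_one_iff] at h
  simp only [pow_succ_val, Matrix.sub_apply, Matrix.smul_apply, smul_eq_mul] at h
  obtain ⟨e1, e2, e3⟩ := h
  simp only [ne_eq, zero_ne_one, not_false_eq_true, one_apply_ne, mul_zero, sub_zero, one_ne_zero,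
    one_apply_eq, mul_one, sub_left_inj] at e1 e2 e3
  exact mk_eq_one_iff.mpr ⟨(mul_eq_zero.mp e1).resolve_left hne,
    (mul_eq_zero.mp e2).resolve_left hne, mul_left_cancel₀ hne e3⟩

theorem pow_eq_one_of_useq {A : GL (Fin 2) F} {n : ℕ} (h : useq (tr A) (dt A) (n + 1) = 0) :
    mk A ^ (n + 1) = 1 := by
  rw [← map_pow, mk_eq_one_iff, pow_succ_val, h]
  simp

theorem tr_eq_zero {A : GL (Fin 2) F} (h : mk A * mk A = 1) (h1 : mk A ≠ 1) : tr A = 0 := by
  have := useq_eq_zero (n := 1) (by rwa [pow_two]) h1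
  simpa [useq] using this

theorem tr_sq_of_order_four {A : GL (Fin 2) F} (h : mk A ^ 4 = 1) (h1 : mk A * mk A ≠ 1) :
    tr A ≠ 0 ∧ tr A ^ 2 = 2 * dt A := by
  have h2 : tr A ≠ 0 := fun e => h1 (by
    rw [← pow_two]; exact pow_eq_one_of_useq (n := 1) (by simp [useq, e]))
  have := useq_eq_zero (n := 3) h (fun e => h1 (by rw [e, one_mul]))
  simp only [useq] at this
  exact ⟨h2, mul_left_cancel₀ h2 (by linear_combination this)⟩

theorem isSquare_two_of_order_four {g : PGL(2, F)} (hg : g ∈ Lsub F) (h : g ^ 4 = 1)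
    (h1 : g * g ≠ 1) : IsSquare (2 : F) := by
  obtain ⟨A, rfl, hA⟩ := exists_lift hg
  exact ⟨tr A, by rw [← pow_two, (tr_sq_of_order_four h h1).2, hA, mul_one]⟩

theorem mem_Lsub_of_order_four (h2 : IsSquare (2 : F)) {g : PGL(2, F)} (h : g ^ 4 = 1)
    (h1 : g * g ≠ 1) : g ∈ Lsub F := by
  induction g using ProjGenLinGroup.induction_on with | mk A =>
  obtain ⟨h3, h4⟩ := tr_sq_of_order_four h h1
  obtain ⟨s, hs⟩ := h2
  have hs0 : s ≠ 0 := by
    rintro rfl
    exact pow_ne_zero 2 h3 (by rw [h4, hs]; ring)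
  refine mk_mem_Lsub.mpr ⟨tr A / s, ?_⟩
  change dt A = _
  field_simp
  linear_combination -h4 - dt A * hs

theorem tr_mem_of_small (h2 : (2 : F) ≠ 0) {k : Subfield F} (hk : ∀ s, s * s = 5 → s ∈ k)
    {A : GL (Fin 2) F} (hA : dt A = 1) (h : mk A ^ 2 = 1 ∨ mk A ^ 3 = 1 ∨ mk A ^ 5 = 1) :
    tr A ∈ k := by
  have hpm : ∀ c ∈ k, tr A * tr A = c * c → tr A ∈ k := by
    intro c hc e
    rcases mul_self_eq_mul_self_iff.mp e with e | e <;> rw [e]
    exacts [hc, k.neg_mem hc]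
  have h2k : (2 : F) ∈ k := ofNat_mem k 2
  by_cases h1 : mk A = 1
  · obtain ⟨e1, e2, e3⟩ := mk_eq_one_iff.mp h1
    refine hpm 2 h2k ?_
    simp only [dt, e1, e3] at hA
    simp only [tr, e3]
    linear_combination 4 * hA
  rcases h with h | h | h
  · rw [tr_eq_zero (by rwa [← pow_two]) h1]; exact k.zero_mem
  · have := useq_eq_zero (n := 2) h h1
    simp only [useq, hA] at this
    exact hpm 1 k.one_mem (by linear_combination this)
  · have := useq_eq_zero (n := 4) h h1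
    simp only [useq, hA] at this
    have h3 : ((2 * tr A - 1) * (2 * tr A - 1) - 5) * ((2 * tr A + 1) * (2 * tr A + 1) - 5) = 0 := by
      linear_combination 16 * this
    rcases mul_eq_zero.mp h3 with e | e
    · have := k.div_mem (k.add_mem (hk _ (sub_eq_zero.mp e)) k.one_mem) h2k
      rwa [sub_add_cancel, mul_div_cancel_left₀ _ h2] at this
    · have := k.div_mem (k.sub_mem (hk _ (sub_eq_zero.mp e)) k.one_mem) h2k
      rwa [add_sub_cancel_right, mul_div_cancel_left₀ _ h2] at this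

theorem tr_sq_conj {A B : GL (Fin 2) F} {g : PGL(2, F)} (h : g⁻¹ * mk A * g = mk B) :
    tr A ^ 2 * dt B = tr B ^ 2 * dt A := by
  induction g using ProjGenLinGroup.induction_on with | mk C =>
  rw [← map_inv, ← map_mul, ← map_mul] at h
  obtain ⟨c, -, e⟩ := exists_smul_of_mk_eq h
  have e1 : tr (C⁻¹ * A * C) = tr A := by
    have := Matrix.trace_units_conj' C (A : Matrix (Fin 2) (Fin 2) F)
    simpa [trace_fin_two, tr] using this
  have e2 : dt (C⁻¹ * A * C) = dt A := by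
    rw [dt_eq, dt_eq, Units.val_mul, Units.val_mul, Matrix.det_units_conj']
  rw [← e1, ← e2]
  simp only [tr, dt, e]
  ring

theorem le_of_PS_le_cj [Finite F] {k k' : Subfield F} {g : PGL(2, F)} (h : PS k ≤ cj g (PG k')) :
    k ≤ k' := by
  have hsq : ∀ s ∈ k, s ^ 2 ∈ k' := by
    intro s hs
    have h1 : mk (mat s (-1) 1 0 (by simp)) ∈ PS k :=
      mem_PS.mpr ⟨_, rfl, fun i j => by
        fin_cases i <;> fin_cases j <;> simp [hs, k.one_mem, k.zero_mem], 1, k.one_mem, by simp⟩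
    obtain ⟨B, hB, hBk⟩ := mem_PG.mp (mem_cj.mp (h h1))
    have h2 := tr_sq_conj hB.symm
    have h3 : s ^ 2 = tr B ^ 2 / dt B := by
      rw [eq_div_iff (dt_ne B)]
      simpa [tr, dt] using h2
    rw [h3]
    exact k'.div_mem (k'.pow_mem (k'.add_mem (hBk 0 0) (hBk 1 1)) 2)
      (k'.sub_mem (k'.mul_mem (hBk 0 0) (hBk 1 1)) (k'.mul_mem (hBk 0 1) (hBk 1 0)))
  intro s hs
  by_cases h2 : (2 : F) = 0
  · have : CharP k 2 := CharTwo.of_one_ne_zero_of_two_eq_zero one_ne_zero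
      (k.subtype.injective (by rw [map_ofNat, map_zero]; exact h2))
    obtain ⟨t, ht⟩ := FiniteField.isSquare_of_char_two (ringChar.eq k 2) ⟨s, hs⟩
    have := hsq t t.2
    rwa [pow_two, ← Subfield.coe_mul, ← ht] at this
  · have := k'.div_mem (k'.sub_mem (k'.sub_mem (hsq _ (k.add_mem hs k.one_mem)) (hsq s hs))
      k'.one_mem) (ofNat_mem k' 2)
    rwa [show (s + 1) ^ 2 - s ^ 2 - 1 = 2 * s by ring, mul_div_cancel_left₀ _ h2] at this

theorem mk_neg (A : GL (Fin 2) F) : mk (-A) = mk A :=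
  (mk_eq_of_smul (-1) (by simp) (fun i j => by simp)).symm

theorem comm_or_anti {A B : GL (Fin 2) F} (h : mk A * mk B = mk B * mk A) :
    A * B = B * A ∨ A * B = -(B * A) := by
  rw [← map_mul, ← map_mul] at h
  obtain ⟨c, -, e⟩ := exists_smul_of_mk_eq h.symm
  have h1 : dt (A * B) = c * c * dt (B * A) := by simp only [dt, e]; ring
  rw [dt_mul, dt_mul, mul_comm (dt B)] at h1
  have h2 : c * c = 1 := mul_right_cancel₀ (mul_ne_zero (dt_ne A) (dt_ne B)) (by rw [← h1, one_mul])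
  rcases mul_self_eq_one_iff.mp h2 with rfl | rfl
  · left; ext i j; rw [e, one_mul]
  · right; ext i j; rw [e]; simp

theorem entries_mul {A B C D : GL (Fin 2) F} (h : A * B = C * D) :
    A 0 0 * B 0 0 + A 0 1 * B 1 0 = C 0 0 * D 0 0 + C 0 1 * D 1 0 ∧
    A 0 0 * B 0 1 + A 0 1 * B 1 1 = C 0 0 * D 0 1 + C 0 1 * D 1 1 ∧
    A 1 0 * B 0 0 + A 1 1 * B 1 0 = C 1 0 * D 0 0 + C 1 1 * D 1 0 ∧
    A 1 0 * B 0 1 + A 1 1 * B 1 1 = C 1 0 * D 0 1 + C 1 1 * D 1 1 := by
  have e : ∀ i j, (A * B) i j = (C * D) i j := fun i j => by rw [h]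
  simp only [Units.val_mul, Matrix.mul_apply, Fin.sum_univ_two] at e
  exact ⟨e 0 0, e 0 1, e 1 0, e 1 1⟩

theorem anti_of_klein (h2 : (2 : F) ≠ 0) {X Y : GL (Fin 2) F} (h : KleinPair (mk X) (mk Y)) :
    X * Y = -(Y * X) := by
  refine (comm_or_anti h.comm).resolve_left (fun e => h.ij1 ?_)
  have t1 := tr_eq_zero h.ii h.i1
  have t2 := tr_eq_zero h.jj h.j1
  obtain ⟨e1, e2, e3, e4⟩ := entries_mul e
  simp only [tr] at t1 t2
  rw [← map_mul, mk_eq_one_iff]
  simp only [Units.val_mul, Matrix.mul_apply, Fin.sum_univ_two]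
  refine ⟨mul_left_cancel₀ h2 ?_, mul_left_cancel₀ h2 ?_, ?_⟩
  · linear_combination e2 + Y 0 1 * t1 + X 0 1 * t2
  · linear_combination e3 + Y 1 0 * t1 + X 1 0 * t2
  · linear_combination e1 + (Y 0 0) * t1 - (X 1 1) * t2

theorem scalar_of_comm (h2 : (2 : F) ≠ 0) {X Y B : GL (Fin 2) F} (tX : tr X = 0) (tY : tr Y = 0)
    (dX : dt X = 1) (dY : dt Y = 1) (hXY : X * Y = -(Y * X)) (h1 : B * X = X * B)
    (h3 : B * Y = Y * B) : mk B = 1 := by
  obtain ⟨a1, a2, a3, -⟩ := entries_mul h1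
  obtain ⟨b1, b2, b3, -⟩ := entries_mul h3
  obtain ⟨c1, -, -, -⟩ := entries_mul (hXY.trans (neg_mul Y X).symm)
  simp only [tr, dt, Units.val_neg, Matrix.neg_apply] at tX tY dX dY c1
  have eX : X 1 1 = - X 0 0 := by linear_combination tX
  have eY : Y 1 1 = - Y 0 0 := by linear_combination tY
  rw [eX] at a2 a3 dX
  rw [eY] at b2 b3 dY
  set t := X 0 0 * (B 0 0 - B 1 1) + X 0 1 * B 1 0 + X 1 0 * B 0 1 with ht
  set t' := Y 0 0 * (B 0 0 - B 1 1) + Y 0 1 * B 1 0 + Y 1 0 * B 0 1 with ht'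
  have p1 : B 0 0 - B 1 1 = -t * X 0 0 := by
    rw [ht]; linear_combination -(B 0 0 - B 1 1) * dX + X 0 0 * a1 + X 0 1 * a3
  have p2 : 2 * B 0 1 = -t * X 0 1 := by
    rw [ht]; linear_combination -2 * B 0 1 * dX + X 0 0 * a2 - X 0 1 * a1
  have p3 : 2 * B 1 0 = -t * X 1 0 := by
    rw [ht]; linear_combination -2 * B 1 0 * dX - X 0 0 * a3 + X 1 0 * a1
  have q1 : B 0 0 - B 1 1 = -t' * Y 0 0 := by
    rw [ht']; linear_combination -(B 0 0 - B 1 1) * dY + Y 0 0 * b1 + Y 0 1 * b3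
  have q2 : 2 * B 0 1 = -t' * Y 0 1 := by
    rw [ht']; linear_combination -2 * B 0 1 * dY + Y 0 0 * b2 - Y 0 1 * b1
  have q3 : 2 * B 1 0 = -t' * Y 1 0 := by
    rw [ht']; linear_combination -2 * B 1 0 * dY - Y 0 0 * b3 + Y 1 0 * b1
  have h0 : t = 0 := mul_left_cancel₀ h2 (by
    linear_combination 2 * ht + 2 * X 0 0 * q1 + X 0 1 * q3 + X 1 0 * q2 - t' * c1)
  rw [h0] at p1 p2 p3
  exact mk_eq_one_iff.mpr ⟨mul_left_cancel₀ h2 (by linear_combination p2),
    mul_left_cancel₀ h2 (by linear_combination p3), by linear_combination p1⟩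

theorem mem_V_of_comm (h2 : (2 : F) ≠ 0) {i j g : PGL(2, F)} (h : KleinPair i j)
    (hi : i ∈ Lsub F) (hj : j ∈ Lsub F) (h1 : g * i = i * g) (h3 : g * j = j * g) : g ∈ h.V := by
  obtain ⟨X, rfl, dX⟩ := exists_lift hi
  obtain ⟨Y, rfl, dY⟩ := exists_lift hj
  induction g using ProjGenLinGroup.induction_on with | mk A =>
  have hXY := anti_of_klein h2 h
  have hYX : Y * X = -(X * Y) := by rw [hXY, neg_neg]
  have key := fun B => scalar_of_comm (B := B) h2 (tr_eq_zero h.ii h.i1) (tr_eq_zero h.jj h.j1) dX dY hXY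
  have fin : ∀ v ∈ h.V, mk A * v = 1 → mk A ∈ h.V := fun v hv e =>
    eq_inv_of_mul_eq_one_left e ▸ h.V.inv_mem hv
  rcases comm_or_anti h1 with e1 | e1 <;> rcases comm_or_anti h3 with e2 | e2
  · exact Or.inl (key A e1 e2)
  · refine fin (mk X) (by simp [h.mem_V]) ?_
    rw [← map_mul]
    refine key _ (by rw [← mul_assoc, e1]) ?_
    rw [mul_assoc, hXY, mul_neg, ← mul_assoc, e2, neg_mul, neg_neg, mul_assoc]
  · refine fin (mk Y) (by simp [h.mem_V]) ?_
    rw [← map_mul]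
    refine key _ ?_ (by rw [← mul_assoc, e2])
    rw [mul_assoc, hYX, mul_neg, ← mul_assoc, e1, neg_mul, neg_neg, mul_assoc]
  · refine fin (mk X * mk Y) (by simp [h.mem_V]) ?_
    rw [← map_mul, ← map_mul]
    refine key _ ?_ ?_
    · rw [mul_assoc, mul_assoc, hYX, mul_neg, mul_neg, ← mul_assoc, e1, neg_mul, neg_neg, mul_assoc]
    · rw [mul_assoc, hXY, neg_mul, mul_neg, mul_assoc Y, ← mul_assoc, e2, neg_mul, neg_neg,
        mul_assoc, hXY]

theorem conj_step (h2 : (2 : F) ≠ 0) {X X' : GL (Fin 2) F} (tX : tr X = 0) (tX' : tr X' = 0)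
    (dX : dt X = 1) (dX' : dt X' = 1) : ∃ g : PGL(2, F), g * mk X * g⁻¹ = mk X' ∧
      ∀ Z : GL (Fin 2) F, Z * X = -(X * Z) → Z * X' = -(X' * Z) → g * mk Z * g⁻¹ = mk Z := by
  have main : ∀ X' : GL (Fin 2) F, tr X' = 0 → dt X' = 1 →
      (X 0 0 + X' 0 0) * (X 1 1 + X' 1 1) - (X 0 1 + X' 0 1) * (X 1 0 + X' 1 0) ≠ 0 →
      ∃ g : PGL(2, F), g * mk X * g⁻¹ = mk X' ∧
      ∀ Z : GL (Fin 2) F, Z * X = -(X * Z) → Z * X' = -(X' * Z) → g * mk Z * g⁻¹ = mk Z := by
    intro X' tX' dX' hd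
    simp only [tr, dt] at tX tX' dX dX'
    refine ⟨mk (mat _ _ _ _ hd), ?_, fun Z z1 z2 => ?_⟩
    · rw [mul_inv_eq_iff_eq_mul, ← map_mul, ← map_mul]
      congr 1
      ext i j
      fin_cases i <;> fin_cases j <;> simp [Matrix.mul_apply, Fin.sum_univ_two]
      · linear_combination X 0 0 * tX - X' 0 0 * tX' - dX + dX'
      · linear_combination X 0 1 * tX - X' 0 1 * tX'
      · linear_combination X 1 0 * tX - X' 1 0 * tX'
      · linear_combination X 1 1 * tX - X' 1 1 * tX' - dX + dX'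
    · rw [mul_inv_eq_iff_eq_mul, ← map_mul, ← map_mul, ← mk_neg]
      congr 1
      obtain ⟨a1, a2, a3, a4⟩ := entries_mul (z1.trans (neg_mul X Z).symm)
      obtain ⟨b1, b2, b3, b4⟩ := entries_mul (z2.trans (neg_mul X' Z).symm)
      simp only [Units.val_neg, Matrix.neg_apply] at a1 a2 a3 a4 b1 b2 b3 b4
      ext i j
      fin_cases i <;> fin_cases j <;> simp [Matrix.mul_apply, Fin.sum_univ_two]
      · linear_combination -a1 - b1
      · linear_combination -a2 - b2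
      · linear_combination -a3 - b3
      · linear_combination -a4 - b4
  by_cases hd : (X 0 0 + X' 0 0) * (X 1 1 + X' 1 1) - (X 0 1 + X' 0 1) * (X 1 0 + X' 1 0) = 0
  · obtain ⟨g, h1, h3⟩ := main (-X') (by simp only [tr] at tX' ⊢; simp; linear_combination -tX')
      (by simpa [dt] using dX') (by
        intro e
        simp only [dt] at dX dX'
        simp only [Units.val_neg, Matrix.neg_apply] at e
        exact pow_ne_zero 2 h2 (by linear_combination hd + e - 2 * dX - 2 * dX'))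
    exact ⟨g, by rw [h1, mk_neg], fun Z z1 z2 => h3 Z z1 (by rw [mul_neg, z2, neg_mul])⟩
  · exact main X' tX' dX' hd

theorem klein_conj (h2 : (2 : F) ≠ 0) {x y x' y' : PGL(2, F)} (h : KleinPair x y)
    (h' : KleinPair x' y') (hx : x ∈ Lsub F) (hy : y ∈ Lsub F) (hx' : x' ∈ Lsub F)
    (hy' : y' ∈ Lsub F) : ∃ g : PGL(2, F), g * x * g⁻¹ = x' ∧ g * y * g⁻¹ = y' := by
  obtain ⟨X, rfl, dX⟩ := exists_lift hx
  obtain ⟨X', rfl, dX'⟩ := exists_lift hx'
  obtain ⟨Y', rfl, dY'⟩ := exists_lift hy'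
  obtain ⟨g, hg, -⟩ := conj_step h2 (tr_eq_zero h.ii h.i1) (tr_eq_zero h'.ii h'.i1) dX dX'
  have h1 := h.conj g
  rw [hg] at h1
  obtain ⟨Y, hY, dY⟩ := exists_lift (normal_Lsub.conj_mem y hy g)
  rw [← hY] at h1
  obtain ⟨g', hg', hZ⟩ := conj_step h2 (tr_eq_zero h1.jj h1.j1) (tr_eq_zero h'.jj h'.j1) dY dY'
  refine ⟨g' * g, ?_, ?_⟩
  · rw [← hZ X' (anti_of_klein h2 h1) (anti_of_klein h2 h'), ← hg]; group
  · rw [← hg', hY]; group

theorem KleinPair.mul_self {G : Type*} [Group G] {i j : G} (h : KleinPair i j) {v : G}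
    (hv : v ∈ h.V) : v * v = 1 := by
  rcases hv with rfl | rfl | rfl | rfl
  · simp
  · exact h.ii
  · exact h.jj
  · rw [mul_assoc, ← mul_assoc j, ← h.comm, mul_assoc, h.jj, mul_one, h.ii]

theorem KleinPair.comm_of_mem {G : Type*} [Group G] {i j : G} (h : KleinPair i j) {x y : G}
    (hx : x ∈ h.V) (hy : y ∈ h.V) : x * y = y * x := by
  have h1 := h.mul_self (h.V.mul_mem hx hy)
  rw [← inv_eq_of_mul_eq_one_right h1, _root_.mul_inv_rev, inv_eq_of_mul_eq_one_right (h.mul_self hx),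
    inv_eq_of_mul_eq_one_right (h.mul_self hy)]

theorem KleinPair.V_le_NV {G : Type*} [Group G] {i j : G} (h : KleinPair i j) : h.V ≤ NV i j :=
  Subgroup.le_normalizer (H := h.V)

theorem card_NV [Finite F] (h2 : (2 : F) ≠ 0) {i j : PGL(2, F)} (h : KleinPair i j)
    (hi : i ∈ Lsub F) (hj : j ∈ Lsub F) : Nat.card (NV i j) = 24 := by
  classical
  have := Fintype.ofFinite PGL(2, F)
  let s : Finset PGL(2, F) := {i, j, i * j}
  have hs : s.card = 3 := by
    rw [Finset.card_eq_three]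
    exact ⟨_, _, _, h.ij, by simpa using h.j1, by simpa using h.i1, rfl⟩
  have hsV : ∀ x, x ∈ s ↔ x ∈ h.V ∧ x ≠ 1 := by
    intro x
    simp only [s, Finset.mem_insert, Finset.mem_singleton, h.mem_V]
    constructor
    · rintro (rfl | rfl | rfl) <;> simp [h.i1, h.j1, h.ij1]
    · tauto
  have hVL := h.V_le hi hj
  have hiV : i ∈ h.V := Or.inr (Or.inl rfl)
  have hjV : j ∈ h.V := Or.inr (Or.inr (Or.inl rfl))
  have key := Finset.card_eq_sum_card_fiberwise (s := Finset.univ.filter (· ∈ NV i j))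
    (t := s.offDiag) (f := fun g => (g * i * g⁻¹, g * j * g⁻¹)) (by
      intro g hg
      have hg' := mem_NV.mp (Finset.mem_filter.mp hg).2
      have hK := h.conj g
      simp only [Finset.coe_offDiag, Set.mem_offDiag, Finset.mem_coe, hsV]
      exact ⟨⟨hg'.1, hK.i1⟩, ⟨hg'.2.1, hK.j1⟩, hK.ij⟩)
  rw [Nat.card_eq_fintype_card, Fintype.card_subtype, key,
    Finset.sum_const_nat (m := 4), Finset.offDiag_card, hs]
  rintro ⟨x, y⟩ hxy
  simp only [Finset.mem_offDiag, hsV] at hxy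
  obtain ⟨⟨hx, hx1⟩, ⟨hy, hy1⟩, hxy⟩ := hxy
  obtain ⟨g, g1, g2⟩ := klein_conj h2 h ⟨h.mul_self hx, h.mul_self hy, h.comm_of_mem hx hy, hx1, hy1, hxy⟩
    hi hj (hVL hx) (hVL hy)
  have hgN : g ∈ NV i j := by
    rw [mem_NV, show g * (i * j) * g⁻¹ = (g * i * g⁻¹) * (g * j * g⁻¹) by group, g1, g2]
    exact ⟨hx, hy, h.V.mul_mem hx hy⟩
  rw [← h.card_V, Nat.card_eq_fintype_card, Fintype.card_subtype]
  symm
  apply Finset.card_bij (fun v _ => g * v)
  · intro v hv
    have hv' := (Finset.mem_filter.mp hv).2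
    simp only [Finset.mem_filter, Finset.mem_univ, true_and, Prod.mk.injEq]
    refine ⟨(NV i j).mul_mem hgN (h.V_le_NV hv'), ?_, ?_⟩
    · rw [mul_assoc g v, h.comm_of_mem hv' hiV, ← g1]; group
    · rw [mul_assoc g v, h.comm_of_mem hv' hjV, ← g2]; group
  · intro a _ b _ e
    exact mul_left_cancel e
  · intro b hb
    simp only [Finset.mem_filter, Finset.mem_univ, true_and, Prod.mk.injEq] at hb
    refine ⟨g⁻¹ * b, ?_, by simp⟩
    simp only [Finset.mem_filter, Finset.mem_univ, true_and]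
    refine mem_V_of_comm h2 h hi hj ?_ ?_
    · calc _ = g⁻¹ * (b * i * b⁻¹) * b := by group
        _ = _ := by rw [hb.2.1, ← g1]; group
    · calc _ = g⁻¹ * (b * j * b⁻¹) * b := by group
        _ = _ := by rw [hb.2.2, ← g2]; group

theorem pow_NV (h2 : (2 : F) ≠ 0) {i j : PGL(2, F)} (h : KleinPair i j)
    (hi : i ∈ Lsub F) (hj : j ∈ Lsub F) {g : PGL(2, F)} (hg : g ∈ NV i j) :
    g ^ 2 = 1 ∨ g ^ 3 = 1 ∨ g ^ 4 = 1 := by
  obtain ⟨g1, g2, -⟩ := mem_NV.mp hg
  have hK := h.conj g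
  let c := MulAut.conj g
  change c i = 1 ∨ c i = i ∨ c i = j ∨ c i = i * j at g1
  change c j = 1 ∨ c j = i ∨ c j = j ∨ c j = i * j at g2
  change KleinPair (c i) (c j) at hK
  have e1 : i * (i * j) = j := by rw [← mul_assoc, h.ii, one_mul]
  have e2 : i * j * j = i := by rw [mul_assoc, h.jj, mul_one]
  have e3 : i * j * i = j := by rw [h.comm, mul_assoc, h.ii, mul_one]
  have e4 : j * (i * j) = i := by rw [h.comm, ← mul_assoc, h.jj, one_mul]
  have two : c (c i) = i → c (c j) = j → g ^ 4 = 1 := by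
    intro a1 a2
    have : g * g ∈ h.V := mem_V_of_comm h2 h hi hj
      (by conv_rhs => rw [← a1]
          simp [c, mul_assoc]) (by conv_rhs => rw [← a2]
                                   simp [c, mul_assoc])
    rw [← h.mul_self this]
    simp only [pow_succ, pow_zero, one_mul, mul_assoc]
  have three : c (c (c i)) = i → c (c (c j)) = j → c i ≠ i → c j ≠ j → c (i * j) ≠ i * j →
      g ^ 3 = 1 := by
    intro a1 a2 n1 n2 n3
    have h3 : g ^ 3 ∈ h.V := mem_V_of_comm h2 h hi hj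
      (by conv_rhs => rw [← a1]
          simp [c, pow_succ, mul_assoc]) (by conv_rhs => rw [← a2]
                                             simp [c, pow_succ, mul_assoc])
    have h4 : c (g ^ 3) = g ^ 3 := by simp [c, pow_succ, mul_assoc]
    rcases h3 with e | e | e | e
    · exact e
    all_goals rw [e] at h4; contradiction
  have n1 : i * j ≠ i := by simpa using h.j1
  have n2 : i * j ≠ j := by simpa using h.i1
  rcases g1 with g1 | g1 | g1 | g1
  · exact absurd g1 hK.i1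
  · rcases g2 with g2 | g2 | g2 | g2
    · exact absurd g2 hK.j1
    · exact absurd (g1.trans g2.symm) hK.ij
    · exact Or.inr (Or.inr (two (by rw [g1, g1]) (by rw [g2, g2])))
    · exact Or.inr (Or.inr (two (by rw [g1, g1]) (by rw [g2, map_mul, g1, g2, e1])))
  · rcases g2 with g2 | g2 | g2 | g2
    · exact absurd g2 hK.j1
    · exact Or.inr (Or.inr (two (by rw [g1, g2]) (by rw [g2, g1])))
    · exact absurd (g1.trans g2.symm) hK.ij
    · have g3 : c (i * j) = i := by rw [map_mul, g1, g2, e4]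
      exact Or.inr (Or.inl (three (by rw [g1, g2, g3]) (by rw [g2, g3, g1]) (g1 ▸ h.ij.symm)
        (g2 ▸ n2) (by rw [g3]; exact n1.symm)))
  · rcases g2 with g2 | g2 | g2 | g2
    · exact absurd g2 hK.j1
    · have g3 : c (i * j) = j := by rw [map_mul, g1, g2, e3]
      exact Or.inr (Or.inl (three (by rw [g1, g3, g2]) (by rw [g2, g1, g3]) (g1 ▸ n1)
        (g2 ▸ h.ij) (by rw [g3]; exact n2.symm)))
    · exact Or.inr (Or.inr (two (by rw [g1, map_mul, g1, g2, e2]) (by rw [g2, g2])))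
    · exact absurd (g1.trans g2.symm) hK.ij

theorem iso_NV [Finite F] (h2 : (2 : F) ≠ 0) {i j : PGL(2, F)} (h : KleinPair i j)
    (hi : i ∈ Lsub F) (hj : j ∈ Lsub F) : Nonempty (NV i j ≃* Equiv.Perm (Fin 4)) :=
  iso_S4 (card_NV h2 h hi hj) (fun g => by
    simpa [Subtype.ext_iff] using pow_NV h2 h hi hj g.2)

theorem S4_gen_aux : ∀ g : Equiv.Perm (Fin 4), ∃ a b : Equiv.Perm (Fin 4), g = a * a * (b * b) ∨
    g = (Equiv.swap 0 1 * Equiv.swap 1 2 * Equiv.swap 2 3) * (a * a * (b * b)) := by decide +kernel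

theorem S4_le_Lsub [Finite F] (h2 : IsSquare (2 : F)) {H : Subgroup PGL(2, F)}
    (e : Nonempty (H ≃* Equiv.Perm (Fin 4))) : H ≤ Lsub F := by
  obtain ⟨ψ, h0, -, h3⟩ := exists_hom_of_iso e
  intro g hg
  obtain ⟨x, rfl⟩ := h3 g hg
  obtain ⟨a, b, e | e⟩ := S4_gen_aux x
  · rw [e, map_mul, map_mul, map_mul]
    exact (Lsub F).mul_mem (mul_self_mem_Lsub _) (mul_self_mem_Lsub _)
  · rw [e, map_mul, map_mul ψ (a * a), map_mul ψ a, map_mul ψ b]
    refine (Lsub F).mul_mem (mem_Lsub_of_order_four h2 ?_ ?_)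
      ((Lsub F).mul_mem (mul_self_mem_Lsub _) (mul_self_mem_Lsub _))
    · rw [← map_pow, map_eq_one_iff _ h0]; decide
    · rw [← map_mul, Ne, map_eq_one_iff _ h0]; decide

theorem isSquare_two_of_S4_le {H : Subgroup PGL(2, F)}
    (e : Nonempty (H ≃* Equiv.Perm (Fin 4))) (hle : H ≤ Lsub F) : IsSquare (2 : F) := by
  obtain ⟨r, hr, s, -, hK, -⟩ := klein_S4 e
  refine isSquare_two_of_order_four (hle hr) ?_ hK.i1
  rw [← hK.ii]
  simp only [pow_succ, pow_zero, one_mul, mul_assoc]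

theorem A4_of_S4_inf [Finite F] (h2 : ¬ IsSquare (2 : F)) {H : Subgroup PGL(2, F)}
    (e : Nonempty (H ≃* Equiv.Perm (Fin 4))) :
    Nat.card (H ⊓ Lsub F : Subgroup _) = 12 ∧
      Nonempty ((H ⊓ Lsub F : Subgroup _) ≃* alternatingGroup (Fin 4)) := by
  have h1 := two_mul_card_inf_Lsub (fun hle => h2 (isSquare_two_of_S4_le e hle))
  have h3 : Nat.card H = 24 := by
    obtain ⟨e⟩ := e
    rw [Nat.card_congr e.toEquiv, Nat.card_perm, Nat.card_fin]; rfl
  have h4 : Nat.card (H ⊓ Lsub F : Subgroup _) = 12 := by omega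
  refine ⟨h4, iso_A4 h4 (fun g => ?_)⟩
  obtain ⟨ψ, h0, -, h5⟩ := exists_hom_of_iso e
  obtain ⟨x, hx⟩ := h5 g g.2.1
  have aux : ∀ x : Equiv.Perm (Fin 4), x ^ 3 = 1 ∨ x ^ 4 = 1 := by decide +kernel
  simp only [Subtype.ext_iff, Subgroup.coe_pow, Subgroup.coe_one]
  rcases aux x with h | h
  · right; rw [← hx, ← map_pow, h, map_one]
  · left
    by_contra hne
    exact h2 (isSquare_two_of_order_four g.2.2 (by rw [← hx, ← map_pow, h, map_one])
      (by rwa [← pow_two]))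

/-! ### The standard Klein pair -/

/-- First standard involution. -/
def iStd (a b : ℕ) (h : (a : F) ^ 2 + (b : F) ^ 2 = -1) : GL (Fin 2) F :=
  mat a b b (-a) (by rw [show (a : F) * -a - b * b = 1 by linear_combination -h]; exact one_ne_zero)

/-- Second standard involution. -/
def jStd (F : Type*) [Field F] : GL (Fin 2) F := mat 0 1 (-1) 0 (by simp)

theorem klein_std (h2 : (2 : F) ≠ 0) (a b : ℕ) (h : (a : F) ^ 2 + (b : F) ^ 2 = -1) :
    KleinPair (mk (iStd a b h)) (mk (jStd F)) := by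
  have hab : (a : F) = 0 → (b : F) = 0 → False := fun e1 e2 => by
    rw [e1, e2] at h; simp at h
  have hjj : mk (jStd F) * mk (jStd F) = 1 := by
    rw [← pow_two]; exact pow_eq_one_of_useq (n := 1) (by simp [useq, tr, jStd])
  refine ⟨?_, hjj, ?_, ?_, ?_, ?_⟩
  · rw [← pow_two]; exact pow_eq_one_of_useq (n := 1) (by simp [useq, tr, iStd])
  · rw [← map_mul, ← map_mul, ← mk_neg]
    congr 1
    ext i j
    fin_cases i <;> fin_cases j <;> simp [iStd, jStd, Matrix.mul_apply, Fin.sum_univ_two]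
  · intro e
    obtain ⟨e1, -, e2⟩ := mk_eq_one_iff.mp e
    simp only [iStd, mat00, mat01, mat11] at e1 e2
    exact hab (mul_left_cancel₀ h2 (by linear_combination e2)) e1
  · intro e
    simpa [jStd] using (mk_eq_one_iff.mp e).1
  · intro e
    nth_rewrite 1 [← e] at hjj
    rw [← map_mul] at hjj
    obtain ⟨e1, -, e2⟩ := mk_eq_one_iff.mp hjj
    simp [iStd, jStd, Matrix.mul_apply, Fin.sum_univ_two] at e1 e2
    exact hab e1 (mul_left_cancel₀ h2 (by linear_combination -e2))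

theorem dt_iStd (a b : ℕ) (h : (a : F) ^ 2 + (b : F) ^ 2 = -1) : dt (iStd a b h) = 1 := by
  simp only [dt, iStd, mat00, mat01, mat10, mat11]; linear_combination -h

theorem dt_jStd : dt (jStd F) = 1 := by simp [dt, jStd]

theorem mk_mem_Lsub_of_dt {A : GL (Fin 2) F} (h : dt A = 1) : mk A ∈ Lsub F :=
  mk_mem_Lsub.mpr ⟨1, by rw [one_mul]; exact h⟩

theorem exists_std_klein [Finite F] (h2 : (2 : F) ≠ 0) : ∃ i j : PGL(2, F), KleinPair i j ∧
    i ∈ Lsub F ∧ j ∈ Lsub F ∧ ∀ k : Subfield F, NV i j ≤ PG k ∧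
      (IsSquare (2 : k) → NV i j ≤ PS k) ∧
      ∀ M : Subgroup PGL(2, F), i ∈ M → j ∈ M → M ≤ Lsub F →
        (∀ A : GL (Fin 2) F, mk A ∈ M → dt A = 1 → tr A ∈ k) → M ≤ PS k := by
  obtain ⟨p, hp⟩ := CharP.exists F
  have : NeZero p := ⟨(CharP.char_is_prime F p).ne_zero⟩
  obtain ⟨a, b, h⟩ := CharP.sq_add_sq F p (-1)
  replace h : (a : F) ^ 2 + (b : F) ^ 2 = -1 := by simpa using h
  have hK := klein_std h2 a b h
  have hi := mk_mem_Lsub_of_dt (dt_iStd a b h)
  have hj := mk_mem_Lsub_of_dt (dt_jStd (F := F))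
  refine ⟨_, _, hK, hi, hj, fun k => ?_⟩
  have hk : (a : k) ^ 2 + (b : k) ^ 2 = -1 := k.subtype.injective (by simpa using h)
  have h2k := two_ne_zero_subfield h2 k
  have hKk := klein_std h2k a b hk
  have hik := mk_mem_Lsub_of_dt (dt_iStd a b hk)
  have hjk := mk_mem_Lsub_of_dt (dt_jStd (F := k))
  have e1 : ProjGenLinGroup.map k.subtype (mk (iStd a b hk)) = mk (iStd a b h) := by
    rw [ProjGenLinGroup.map_mk]
    congr 1
    ext i j
    fin_cases i <;> fin_cases j <;> simp [iStd]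
  have e2 : ProjGenLinGroup.map k.subtype (mk (jStd k)) = mk (jStd F) := by
    rw [ProjGenLinGroup.map_mk]
    congr 1
    ext i j
    fin_cases i <;> fin_cases j <;> simp [jStd]
  have e3 : (NV (mk (iStd a b hk)) (mk (jStd k))).map (ProjGenLinGroup.map k.subtype) =
      NV (mk (iStd a b h)) (mk (jStd F)) := by
    apply Subgroup.eq_of_le_of_card_ge
    · rintro _ ⟨g, hg, rfl⟩
      rw [← e1, ← e2]
      exact map_mem_NV hg _
    · rw [Subgroup.card_map_of_injective (pglMap_injective _), card_NV h2 hK hi hj,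
        card_NV h2k hKk hik hjk]
  refine ⟨e3 ▸ Subgroup.map_le_range _ _, fun hs => e3 ▸ Subgroup.map_mono
    (S4_le_Lsub hs (iso_NV h2k hKk hik hjk)), fun M hiM hjM hML htr g hg => ?_⟩
  obtain ⟨A, rfl, dA⟩ := exists_lift (hML hg)
  have t1 := htr A hg dA
  have t2 := htr (A * iStd a b h) (M.mul_mem hg hiM) (by rw [dt_mul, dA, dt_iStd, one_mul])
  have t3 := htr (A * jStd F) (M.mul_mem hg hjM) (by rw [dt_mul, dA, dt_jStd, one_mul])
  have t4 := htr (A * iStd a b h * jStd F) (M.mul_mem (M.mul_mem hg hiM) hjM)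
    (by rw [dt_mul, dt_mul, dA, dt_iStd, dt_jStd, one_mul, one_mul])
  have ha : (a : F) ∈ k := natCast_mem k a
  have hb : (b : F) ∈ k := natCast_mem k b
  have h2' : (2 : F) ∈ k := ofNat_mem k 2
  have u1 := k.sub_mem (k.mul_mem hb t4) (k.mul_mem ha t2)
  have u2 := k.neg_mem (k.add_mem (k.mul_mem hb t2) (k.mul_mem ha t4))
  have v1 : (b : F) * tr (A * iStd a b h * jStd F) - a * tr (A * iStd a b h) = A 0 0 - A 1 1 := by
    simp [tr, iStd, jStd, Matrix.mul_apply, Fin.sum_univ_two]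
    linear_combination -(A 0 0 - A 1 1) * h
  have v2 : -((b : F) * tr (A * iStd a b h) + a * tr (A * iStd a b h * jStd F)) = A 0 1 + A 1 0 := by
    simp [tr, iStd, jStd, Matrix.mul_apply, Fin.sum_univ_two]
    linear_combination -(A 0 1 + A 1 0) * h
  have v3 : tr (A * jStd F) = A 1 0 - A 0 1 := by
    simp [tr, jStd, Matrix.mul_apply, Fin.sum_univ_two]
    ring
  rw [v1] at u1
  rw [v2] at u2
  rw [v3] at t3
  have half : ∀ x, 2 * x ∈ k → x ∈ k := fun x hx => by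
    have := k.div_mem hx h2'
    rwa [mul_div_cancel_left₀ _ h2] at this
  refine mem_PS.mpr ⟨A, rfl, fun i j => ?_, 1, k.one_mem, by rw [one_mul]; exact dA⟩
  fin_cases i <;> fin_cases j <;> apply half
  · convert k.add_mem t1 u1 using 1; simp [tr]; ring
  · convert k.sub_mem u2 t3 using 1; simp; ring
  · convert k.add_mem u2 t3 using 1; simp; ring
  · convert k.sub_mem t1 u1 using 1; simp [tr]; ring

end Cfsg.Agent.H3
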