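import Mathlib
import Cfsg.Agent.H3.PglKlein
import Cfsg.Agent.H3.Icosian

/-! Maximal subgroups of `PSL(2, F)`: sufficiency. -/

set_option autoImplicit false

namespace Cfsg.Agent.H3

open MulAction Matrix OnePoint
open scoped MatrixGroups
open Matrix.ProjGenLinGroup (mk)
open Cfsg.Agent.H8

variable {F : Type*} [Field F]

theorem pairStab_ratPt (K : Type*) [Field K] [Algebra F K] (x y : OnePoint F) :
    pairStab F (ratPt K x) (ratPt K y) = pairStab F x y := by
  ext g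
  simp only [mem_pairStab, ← ratPt_smul, ratPt_injective.eq_iff]

theorem fix2_ratPt (K : Type*) [Field K] [Algebra F K] (x y : OnePoint F) :
    fix2 F (ratPt K x) (ratPt K y) = fix2 F x y := by
  ext g
  simp only [mem_fix2, ← ratPt_smul, ratPt_injective.eq_iff]

/-- The subgroup fixes neither a rational point nor a pair of points. -/
def NotGeo (H : Subgroup PGL(2, F)) : Prop :=
  (∀ x : OnePoint F, ¬ H ≤ stabilizer PGL(2, F) x) ∧
    ∀ x y : OnePoint (AlgebraicClosure F), x ≠ y → ¬ H ≤ pairStab F x y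

theorem NotGeo.mono {H H' : Subgroup PGL(2, F)} (h : NotGeo H) (hle : H ≤ H') : NotGeo H' :=
  ⟨fun x e => h.1 x (hle.trans e), fun x y hxy e => h.2 x y hxy (hle.trans e)⟩

theorem NotGeo.not_le_split {H : Subgroup PGL(2, F)} (h : NotGeo H) {x y : OnePoint F} (hxy : x ≠ y) :
    ¬ H ≤ pairStab F x y := by
  rw [← pairStab_ratPt (AlgebraicClosure F)]
  exact h.2 _ _ (ratPt_injective.ne hxy)

theorem sq_mem_fix2 {K : Type*} [Field K] [Algebra F K] {x y : OnePoint K} {g : PGL(2, F)}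
    (h : g ∈ pairStab F x y) : g * g ∈ fix2 F x y := by
  rcases h with ⟨h1, h2⟩ | ⟨h1, h2⟩ <;> rw [mem_fix2, mul_smul, mul_smul] <;> simp [h1, h2]

theorem notGeo_of_tri [Finite F] (h2 : (2 : F) ≠ 0) {H : Subgroup PGL(2, F)} (h : Tri H) :
    NotGeo H := by
  obtain ⟨a, ha, b, hb, a3, b3, ab2, ab1⟩ := h
  have h23 : ∀ {M : Type _} [Monoid M] (z : M), z ^ 2 = 1 → z ^ 3 = 1 → z = 1 := fun z e2 e3 => by
    rw [show 3 = 2 + 1 from rfl, pow_succ, e2, one_mul] at e3; exact e3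
  refine ⟨fun x hle => ab1 ?_, fun x y hxy hle => ab1 ?_⟩
  · obtain ⟨χ, hχ⟩ := exists_multiplier x
    let a' : stabilizer PGL(2, F) x := ⟨a, hle ha⟩
    let b' : stabilizer PGL(2, F) x := ⟨b, hle hb⟩
    have e1 : a' ^ 3 = 1 := Subtype.ext a3
    have e2 : b' ^ 3 = 1 := Subtype.ext b3
    have e3 : (a' * b') ^ 2 = 1 := Subtype.ext ab2
    have e4 : χ (a' * b') = 1 := by
      have u2 : χ (a' * b') ^ 2 = 1 := by rw [← map_pow, e3, map_one]
      have u3 : χ (a' * b') ^ 3 = 1 := by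
        rw [map_mul, mul_pow, ← map_pow, ← map_pow, e1, e2, map_one, mul_one]
      rw [show 3 = 2 + 1 from rfl, pow_succ, u2, one_mul] at u3; exact u3
    obtain ⟨p, hp⟩ := CharP.exists F
    have e5 : (a * b) ^ p = 1 := isUnip_pow_char p ((hχ _).1 e4)
    have hpp := CharP.char_is_prime F p
    obtain ⟨m, hm⟩ : Odd p := hpp.odd_of_ne_two (by
      rintro rfl
      exact h2 (CharP.cast_eq_zero F 2))
    rwa [hm, pow_succ, pow_mul, ab2, one_pow, one_mul] at e5
  · have hf : ∀ g ∈ H, g ^ 3 = 1 → g ∈ fix2 F x y := by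
      intro g hg g3
      have := sq_mem_fix2 (fix2_le_pairStab _ _ (sq_mem_fix2 (hle hg)))
      rwa [show g * g * (g * g) = g ^ 3 * g by simp only [pow_succ, pow_zero, one_mul, mul_assoc],
        g3, one_mul] at this
    have hc : Commute a b := fix2_comm hxy (hf a ha a3) (hf b hb b3)
    exact h23 _ ab2 (by rw [hc.mul_pow, a3, b3, mul_one])

theorem transl_mul (s t : F) : transl s * transl t = transl (s + t) := by
  rw [transl, transl, transl, ← map_mul]
  congr 1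
  ext i j
  fin_cases i <;> fin_cases j <;> simp [Matrix.mul_apply, Fin.sum_univ_two, add_comm]

theorem transl_fix {K : Type*} [Field K] [Algebra F K] {s : F} (hs : s ≠ 0) {x : OnePoint K}
    (h : transl s • x = x) : x = ∞ := by
  cases x with
  | infty => rfl
  | coe z =>
    rw [transl, smul_coe_eq_coe] at h
    simp [hs] at h

theorem notGeo_PS [Finite F] {k : Subfield F} (hk : 3 ≤ Nat.card k) : NotGeo (PS k) := by
  refine ⟨fun x hle => ?_, fun x y hxy hle => ?_⟩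
  · have h1 := transl_fix one_ne_zero (hle (transl_mem_PS k.one_mem))
    have h2 : transl' (1 : F) • x = x := hle (transl'_mem_PS k.one_mem)
    rw [h1, transl', smul_infty_eq_infty] at h2
    simp at h2
  · obtain ⟨s, hs0, hs1⟩ : ∃ s : k, s ≠ 0 ∧ s ≠ -1 := by
      classical
      have := Fintype.ofFinite k
      by_contra hcon
      push Not at hcon
      have h1 : (Finset.univ : Finset k) ⊆ {0, -1} := by
        intro s _
        by_cases h : s = 0 <;> simp [h, hcon s]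
      have h2 := (Finset.card_le_card h1).trans Finset.card_le_two
      rw [Finset.card_univ, ← Nat.card_eq_fintype_card] at h2
      omega
    have hsw : ∀ t ∈ k, t ≠ 0 → transl t ∉ fix2 F x y := fun t _ ht h =>
      hxy ((transl_fix ht h.1).trans (transl_fix ht h.2).symm)
    have hs0' : (s : F) ≠ 0 := fun e => hs0 (Subtype.ext e)
    have h1 := (hle (transl_mem_PS k.one_mem)).resolve_left (hsw 1 k.one_mem one_ne_zero)
    have h2 := (hle (transl_mem_PS s.2)).resolve_left (hsw s s.2 hs0')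
    refine hsw (1 + s) (k.add_mem k.one_mem s.2) (fun e => hs1 (Subtype.ext ?_)) ?_
    · simp; linear_combination e
    · rw [← transl_mul, mem_fix2, mul_smul, mul_smul, h2.1, h2.2]
      exact ⟨h1.2, h1.1⟩

theorem notGeo_Lsub [Finite F] (h : 3 ≤ Nat.card F) : NotGeo (Lsub F) := by
  rw [← PS_top]; exact notGeo_PS (by rwa [card_subfield_top])

/-- The three exceptional types of Dickson's theorem. -/
def Exc (p : ℕ) (H : Subgroup PGL(2, F)) : Prop :=
  (∀ g ∈ H, orderOf g ≤ 5) ∧ p ≠ 2 ∧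
  ((Nat.card H = 12 ∧ Nonempty (H ≃* alternatingGroup (Fin 4)) ∧ p ≠ 3) ∨
  (Nat.card H = 24 ∧ Nonempty (H ≃* Equiv.Perm (Fin 4)) ∧ p ≠ 3) ∨
  (Nat.card H = 60 ∧ Nonempty (H ≃* alternatingGroup (Fin 5)) ∧ p ≠ 5 ∧
    ∀ g ∈ H, g ^ 2 = 1 ∨ g ^ 3 = 1 ∨ g ^ 5 = 1))

theorem dickson2 [Finite F] (p : ℕ) [Fact p.Prime] [CharP F p] (H : Subgroup PGL(2, F)) :
    (∃ x : OnePoint F, H ≤ stabilizer PGL(2, F) x) ∨
    (∃ x y : OnePoint F, x ≠ y ∧ H ≤ pairStab F x y) ∨
    (∃ (t : AlgebraicClosure F) (a b : F), Irr t a b ∧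
      H ≤ pairStab F (t : OnePoint (AlgebraicClosure F)) (algebraMap F _ a - t : AlgebraicClosure F)) ∨
    Exc p H ∨
    ∃ (k : Subfield F) (g : PGL(2, F)), 3 ≤ Nat.card k ∧ (H = cj g (PS k) ∨ H = cj g (PG k)) := by
  rcases dickson p H with h | h | h | ⟨k, hk, ho, hp⟩ | h
  · exact Or.inl h
  · exact Or.inr (Or.inl h)
  · exact Or.inr (Or.inr (Or.inl h))
  · right; right; right; left
    have hs : SmallOrd H := fun g => by
      rcases hk with ⟨rfl, -⟩ | ⟨rfl, -⟩ | ⟨rfl, -⟩ <;> rcases ho g with h | h | h <;> simp [h]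
    refine ⟨fun g hg => by simpa using hs.orderOf_le ⟨g, hg⟩, ?_, ?_⟩
    · rintro rfl
      rcases hk with ⟨-, h⟩ | ⟨-, h⟩ | ⟨-, h⟩ <;> simp [h] at hp
    rcases hk with ⟨rfl, h⟩ | ⟨rfl, h⟩ | ⟨rfl, h⟩
    · refine Or.inl ⟨h, iso_A4 h (fun g => by rcases ho g with h | h | h <;> simp [h]), ?_⟩
      rintro rfl; simp [h] at hp
    · refine Or.inr (Or.inl ⟨h, iso_S4 h ho, ?_⟩)
      rintro rfl; simp [h] at hp
    · refine Or.inr (Or.inr ⟨h, iso_A5 h ho, ?_, fun g hg => ?_⟩)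
      · rintro rfl; simp [h] at hp
      · simpa [Subtype.ext_iff] using ho ⟨g, hg⟩
  · exact Or.inr (Or.inr (Or.inr (Or.inr h)))

theorem NotGeo.dickson [Finite F] (p : ℕ) [Fact p.Prime] [CharP F p] {H : Subgroup PGL(2, F)}
    (h : NotGeo H) : Exc p H ∨
    ∃ (k : Subfield F) (g : PGL(2, F)), 3 ≤ Nat.card k ∧ (H = cj g (PS k) ∨ H = cj g (PG k)) := by
  rcases dickson2 p H with ⟨x, hx⟩ | ⟨x, y, hxy, hx⟩ | ⟨t, a, b, ht, hx⟩ | h1 | h1
  · exact absurd hx (h.1 x)
  · exact absurd hx (h.not_le_split hxy)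
  · exact absurd hx (h.2 _ _ (fun e => ht.ne_conj (coe_eq_coe.mp e)))
  · exact Or.inl h1
  · exact Or.inr h1

theorem eq_Lsub_of_top {H : Subgroup PGL(2, F)} (hH : H ≤ Lsub F) {g : PGL(2, F)}
    (h : H = cj g (PS ⊤) ∨ H = cj g (PG ⊤)) : H = Lsub F := by
  rcases h with h | h
  · rw [h, PS_top, cj_normal]
  · rw [PG_top, cj_normal] at h
    exact le_antisymm hH (h ▸ le_top)

theorem le_cj_PG {H : Subgroup PGL(2, F)} {g : PGL(2, F)} {k : Subfield F}
    (h : H = cj g (PS k) ∨ H = cj g (PG k)) : H ≤ cj g (PG k) := by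
  rcases h with h | h
  · exact h ▸ cj_mono g (PS_le_PG k)
  · exact h.le

theorem sq_le_of_ne_top [Finite F] {k : Subfield F} (h : k ≠ ⊤) : Nat.card k ^ 2 ≤ Nat.card F := by
  obtain ⟨n, hn1, hn⟩ := exists_card_eq_pow (le_top : k ≤ ⊤)
  rw [card_subfield_top] at hn
  rcases hn1.eq_or_lt with rfl | h2
  · exact absurd (subfield_eq_top_of_card (by rw [hn, pow_one])) h
  · rw [hn]; exact Nat.pow_le_pow_right Nat.card_pos h2

theorem maxIn_borel (x : OnePoint F) :
    MaxIn (stabilizer PGL(2, F) x ⊓ Lsub F) (Lsub F) := by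
  obtain ⟨g, hg⟩ := exists_smul_eq_infty x
  suffices h : MaxIn (stabilizer PGL(2, F) (∞ : OnePoint F) ⊓ Lsub F) (Lsub F) by
    have := h.conj g⁻¹
    rwa [cj_inf, cj_stabilizer, cj_normal, ← hg, inv_smul_smul] at this
  have hT : ∀ s : F, transl s ∈ Lsub F := fun s => PS_le_Lsub ⊤ (transl_mem_PS trivial)
  refine ⟨inf_le_right, fun e => ?_, fun H h1 h2 => ?_⟩
  · have : transl' (1 : F) • (∞ : OnePoint F) = ∞ := (e.ge (PS_le_Lsub ⊤ (transl'_mem_PS trivial))).1
    rw [transl', smul_infty_eq_infty] at this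
    simp at this
  · by_cases h : H ≤ stabilizer PGL(2, F) (∞ : OnePoint F)
    · exact Or.inl (le_antisymm (le_inf h h2) h1)
    right
    obtain ⟨a, haH, ha⟩ := SetLike.not_le_iff_exists.mp h
    obtain ⟨z, hz⟩ := OnePoint.ne_infty_iff_exists.mp ha
    refine le_antisymm h2 (fun l hl => ?_)
    by_cases h3 : l • (∞ : OnePoint F) = ∞
    · exact h1 ⟨h3, hl⟩
    obtain ⟨w, hw⟩ := OnePoint.ne_infty_iff_exists.mp h3
    have h4 : transl (w - z) * a ∈ H := H.mul_mem (h1 ⟨transl_smul_infty _, hT _⟩) haH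
    have h5 : (transl (w - z) * a)⁻¹ * l ∈ H := by
      refine h1 ⟨?_, (Lsub F).mul_mem ((Lsub F).inv_mem (h2 h4)) hl⟩
      change _ • _ = _
      rw [mul_smul, inv_smul_eq_iff, mul_smul, ← hz, transl_smul, ← hw, add_sub_cancel]
    have := H.mul_mem h4 h5
    rwa [mul_inv_cancel_left] at this

theorem over_dihedral [Finite F] (p : ℕ) [Fact p.Prime] [CharP F p]
    {x y : OnePoint (AlgebraicClosure F)} (hxy : x ≠ y) {s c : PGL(2, F)}
    (hs : s ∈ pairStab F x y ⊓ Lsub F) (hsx : s • x = y) (hc : c ∈ fix2 F x y ⊓ Lsub F)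
    (hc2 : c * c ≠ 1) {H : Subgroup PGL(2, F)} (h1 : pairStab F x y ⊓ Lsub F ≤ H) (h2 : H ≤ Lsub F) :
    H = pairStab F x y ⊓ Lsub F ∨ H = Lsub F ∨ Exc p H ∨
      ∃ Q, 3 ≤ Q ∧ Q ^ 2 ≤ Nat.card F ∧ orderOf c ≤ Q + 1 := by
  have hcH : c ∈ H := h1 ⟨fix2_le_pairStab _ _ hc.1, hc.2⟩
  have hsy : s • y = x := by
    rcases hs.1 with h | h
    · exact absurd (h.1.symm.trans hsx) hxy
    · exact h.2
  have hfix : ∀ z : OnePoint (AlgebraicClosure F), (c * c) • z = z → z = x ∨ z = y := by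
    intro z hz
    by_contra hcon
    push Not at hcon
    have := (fix2 F x y).mul_mem hc.1 hc.1
    exact hc2 (eq_one_of_fix_three hxy hcon.1.symm hcon.2.symm this.1 this.2 hz)
  have hpair : ∀ x' y' : OnePoint (AlgebraicClosure F), x' ≠ y' → H ≤ pairStab F x' y' → H = pairStab F x y ⊓ Lsub F := by
    intro x' y' hxy' hle
    have h3 := sq_mem_fix2 (hle hcH)
    refine le_antisymm (le_inf (hle.trans ?_) h2) h1
    rcases hfix _ h3.1 with rfl | rfl <;> rcases hfix _ h3.2 with rfl | rfl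
    · exact absurd rfl hxy'
    · exact le_rfl
    · intro g hg; rw [mem_pairStab] at hg ⊢; tauto
    · exact absurd rfl hxy'
  rcases dickson2 p H with ⟨z, hz⟩ | ⟨x', y', hxy', hx⟩ | ⟨t, a, b, ht, hx⟩ | h3 | ⟨k, g, hk, h3⟩
  · exfalso
    have h3 : ∀ g ∈ H, g • ratPt (AlgebraicClosure F) z = ratPt _ z := fun g hg => by
      rw [← ratPt_smul, show g • z = z from hz hg]
    have h4 := h3 s (h1 hs)
    rcases hfix _ (h3 _ (H.mul_mem hcH hcH)) with e | e <;> rw [e] at h4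
    · exact hxy (h4.symm.trans hsx)
    · exact hxy (hsy.symm.trans h4)
  · left
    exact hpair _ _ (ratPt_injective.ne hxy') (by rwa [pairStab_ratPt])
  · left
    exact hpair _ _ (fun e => ht.ne_conj (coe_eq_coe.mp e)) hx
  · exact Or.inr (Or.inr (Or.inl h3))
  · by_cases hk' : k = ⊤
    · subst hk'
      exact Or.inr (Or.inl (eq_Lsub_of_top h2 h3))
    · exact Or.inr (Or.inr (Or.inr ⟨_, hk, sq_le_of_ne_top hk', orderOf_le_of_mem_PG (le_cj_PG h3 hcH)⟩))

theorem exists_gen_fix2 [Finite F] {K : Type*} [Field K] [Algebra F K] {x y : OnePoint K}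
    (hxy : x ≠ y) : ∃ c ∈ fix2 F x y ⊓ Lsub F,
      orderOf c = Nat.card (fix2 F x y ⊓ Lsub F : Subgroup _) := by
  have := isCyclic_fix2 (F := F) hxy
  have : IsCyclic (fix2 F x y ⊓ Lsub F : Subgroup _) := Subgroup.isCyclic_of_le inf_le_left
  obtain ⟨c, hc⟩ := IsCyclic.exists_ofOrder_eq_natCard (α := (fix2 F x y ⊓ Lsub F : Subgroup _))
  exact ⟨c, c.2, by rw [Subgroup.orderOf_coe, hc]⟩

theorem sq_ne_one_of_orderOf {G : Type*} [Group G] {c : G} (h : 3 ≤ orderOf c) : c * c ≠ 1 := by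
  intro e
  have := orderOf_le_of_pow_eq_one two_pos (by rwa [pow_two] : c ^ 2 = 1)
  omega

theorem maxIn_split [Finite F] (h2 : (2 : F) ≠ 0) (hq : 13 ≤ Nat.card F) {x y : OnePoint F}
    (hxy : x ≠ y) : MaxIn (pairStab F x y ⊓ Lsub F) (Lsub F) := by
  obtain ⟨p, hp⟩ := CharP.exists F
  have : Fact p.Prime := ⟨CharP.char_is_prime F p⟩
  refine ⟨inf_le_right, fun e => (notGeo_Lsub (by omega)).not_le_split hxy (e.ge.trans inf_le_left),
    fun H h1 h3 => ?_⟩
  obtain ⟨s, hs, hsx⟩ := exists_swap_Lsub (exists_swap_split hxy) (not_fix2_split_le h2 hxy)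
  obtain ⟨c, hc, hco⟩ := exists_gen_fix2 (F := F) hxy
  have h4 := two_mul_card_inf_Lsub (not_fix2_split_le h2 hxy)
  rw [card_fix2_split hxy, ← hco] at h4
  rw [← pairStab_ratPt (AlgebraicClosure F)] at h1 hs ⊢
  rw [← fix2_ratPt (AlgebraicClosure F)] at hc
  rcases over_dihedral p (ratPt_injective.ne hxy) hs (by rw [← ratPt_smul, hsx]) hc
    (sq_ne_one_of_orderOf (by omega)) h1 h3 with h | h | h | ⟨Q, q1, q2, q3⟩
  · exact Or.inl h
  · exact Or.inr h
  · have := h.1 c (h1 ⟨fix2_le_pairStab _ _ hc.1, hc.2⟩)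
    omega
  · exfalso
    have : Q ≤ 3 := by
      by_contra hQ
      have : Nat.card F ≤ 2 * Q + 3 := by omega
      nlinarith
    omega

theorem maxIn_irr [Finite F] (h2 : (2 : F) ≠ 0) (hq : Nat.card F = 5 ∨ 11 ≤ Nat.card F)
    {t : AlgebraicClosure F} {a b : F} (ht : Irr t a b) :
    MaxIn (pairStab F (t : OnePoint (AlgebraicClosure F)) (algebraMap F _ a - t : AlgebraicClosure F)
      ⊓ Lsub F) (Lsub F) := by
  obtain ⟨p, hp⟩ := CharP.exists F
  have : Fact p.Prime := ⟨CharP.char_is_prime F p⟩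
  have hxy : (t : OnePoint (AlgebraicClosure F)) ≠ (algebraMap F _ a - t : AlgebraicClosure F) :=
    fun e => ht.ne_conj (coe_eq_coe.mp e)
  refine ⟨inf_le_right, fun e => (notGeo_Lsub (by omega)).2 _ _ hxy (e.ge.trans inf_le_left),
    fun H h1 h3 => ?_⟩
  obtain ⟨s, hs, hsx⟩ := exists_swap_Lsub (exists_swap_irr t a) (not_fix2_irr_le h2 ht)
  obtain ⟨c, hc, hco⟩ := exists_gen_fix2 (F := F) hxy
  have h4 := two_mul_card_inf_Lsub (not_fix2_irr_le h2 ht)
  rw [card_fix2_irr ht, ← hco] at h4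
  have hcH := h1 ⟨fix2_le_pairStab _ _ hc.1, hc.2⟩
  rcases over_dihedral p hxy hs hsx hc
    (sq_ne_one_of_orderOf (by omega)) h1 h3 with h | h | h | ⟨Q, q1, q2, q3⟩
  · exact Or.inl h
  · exact Or.inr h
  · have h5 := h.1 c hcH
    have h6 : Nat.card F = 5 := by omega
    have h7 := card_Lsub h2
    rw [h6] at h7 h4
    have h8 := Subgroup.card_dvd_of_le h3
    rcases h.2.2 with ⟨-, e, -⟩ | ⟨e, -⟩ | ⟨e, -⟩
    · exfalso
      have hsy := (hs.1.resolve_left (fun h => hxy (h.1.symm.trans hsx))).2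
      have e1 := mul_self_of_swap hxy hsx hsy
      have e2 := mul_self_of_swap (g := s * c) hxy (by rw [mul_smul, hc.1.1, hsx])
        (by rw [mul_smul, hc.1.2, hsy])
      have e3 : c = 1 := not_real_A4 e hcH (h1 hs) (by
        rw [show 3 = orderOf c by omega]; exact pow_orderOf_eq_one c) (by
          rw [inv_eq_of_mul_eq_one_right e1, eq_inv_iff_mul_eq_one, ← e2]; group)
      rw [e3, orderOf_one] at h4
      omega
    · exfalso
      rw [e, show Nat.card (Lsub F) = 60 by omega] at h8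
      norm_num at h8
    · right
      exact Subgroup.eq_of_le_of_card_ge h3 (by omega)
  · exfalso
    have : Nat.card F ≤ 2 * Q + 1 := by omega
    nlinarith

theorem char_eq_of_card_prime_pow [Finite F] {p p' n : ℕ} (hp : p.Prime) [CharP F p']
    (h : Nat.card F = p ^ n) : p' = p := by
  have := Fintype.ofFinite F
  obtain ⟨n', hpp', hn'⟩ := FiniteField.card F p'
  rw [← Nat.card_eq_fintype_card, h] at hn'
  have : p' ∣ p ^ n := hn' ▸ dvd_pow_self _ n'.ne_zero
  exact (Nat.prime_dvd_prime_iff_eq hpp' hp).mp (hpp'.dvd_of_dvd_pow this)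

theorem five_dvd_cases {q : ℕ} (h : 5 ∣ q * (q ^ 2 - 1)) : q % 5 = 0 ∨ q % 5 = 1 ∨ q % 5 = 4 := by
  rw [show q ^ 2 - 1 = (q + 1) * (q - 1) from Nat.sq_sub_sq _ 1] at h
  rcases (Nat.Prime.dvd_mul Nat.prime_five).mp h with h | h
  · omega
  · rcases (Nat.Prime.dvd_mul Nat.prime_five).mp h with h | h <;> omega

theorem five_dvd_of_card [Finite F] {H : Subgroup PGL(2, F)} (h : Nat.card H = 60) :
    Nat.card F % 5 = 0 ∨ Nat.card F % 5 = 1 ∨ Nat.card F % 5 = 4 := by
  apply five_dvd_cases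
  rw [← card_PGL]
  exact dvd_trans (by rw [h]; norm_num) H.card_subgroup_dvd_card

theorem cube_ge {q a : ℕ} (h : a ≤ q) : a * (a ^ 2 - 1) ≤ q * (q ^ 2 - 1) :=
  Nat.mul_le_mul h (Nat.sub_le_sub_right (Nat.pow_le_pow_left h 2) 1)

theorem card_Lsub_ge [Finite F] (h2 : (2 : F) ≠ 0) {a : ℕ} (h : a ≤ Nat.card F) :
    a * (a ^ 2 - 1) ≤ 2 * Nat.card (Lsub F) := card_Lsub h2 ▸ cube_ge h

theorem card_A4 {G : Type*} [Group G] (e : Nonempty (G ≃* alternatingGroup (Fin 4))) :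
    Nat.card G = 12 := by
  obtain ⟨e⟩ := e
  have := two_mul_nat_card_alternatingGroup (α := Fin 4)
  rw [Nat.card_perm, Nat.card_fin, ← Nat.card_congr e.toEquiv] at this
  simp [Nat.factorial] at this
  omega

theorem card_S4 {G : Type*} [Group G] (e : Nonempty (G ≃* Equiv.Perm (Fin 4))) :
    Nat.card G = 24 := by
  obtain ⟨e⟩ := e
  rw [Nat.card_congr e.toEquiv, Nat.card_perm, Nat.card_fin]; rfl

theorem card_A5 {G : Type*} [Group G] (e : Nonempty (G ≃* alternatingGroup (Fin 5))) :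
    Nat.card G = 60 := by
  obtain ⟨e⟩ := e
  have := two_mul_nat_card_alternatingGroup (α := Fin 5)
  rw [Nat.card_perm, Nat.card_fin, ← Nat.card_congr e.toEquiv] at this
  simp [Nat.factorial] at this
  omega

theorem maxIn_A4 [Finite F] (hp : (Nat.card F).Prime) (h5 : 5 ≤ Nat.card F)
    (h8 : ¬ IsSquare (2 : F)) (h10 : Nat.card F % 5 ≠ 1 ∧ Nat.card F % 5 ≠ 4)
    {M : Subgroup PGL(2, F)} (hM : M ≤ Lsub F) (e : Nonempty (M ≃* alternatingGroup (Fin 4))) :
    MaxIn M (Lsub F) := by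
  have h2 : (2 : F) ≠ 0 := fun e => h8 (e ▸ IsSquare.zero)
  obtain ⟨p, hp'⟩ := CharP.exists F
  have : Fact p.Prime := ⟨CharP.char_is_prime F p⟩
  have hc := card_A4 e
  refine ⟨hM, fun e => ?_, fun H h1 h3 => ?_⟩
  · have := card_Lsub_ge h2 h5
    rw [← e, hc] at this
    omega
  rcases ((notGeo_of_tri h2 (tri_A4 e)).mono h1).dickson p with h | ⟨k, g, -, h⟩
  · rcases h.2.2 with ⟨e1, -⟩ | ⟨-, e1, -⟩ | ⟨e1, -, e2, -⟩
    · exact Or.inl (Subgroup.eq_of_le_of_card_ge h1 (by omega)).symm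
    · exact absurd (isSquare_two_of_S4_le e1 h3) h8
    · exfalso
      have h4 := five_dvd_of_card e1
      have h6 : 5 = Nat.card F :=
        (Nat.prime_dvd_prime_iff_eq Nat.prime_five hp).mp (Nat.dvd_of_mod_eq_zero (by omega))
      exact e2 (char_eq_of_card_prime_pow (F := F) (n := 1) Nat.prime_five (by omega))
  · rw [eq_top_of_card_prime hp k] at h
    exact Or.inr (eq_Lsub_of_top h3 h)

theorem maxIn_S4 [Finite F] (hp : (Nat.card F).Prime) (h5 : 5 ≤ Nat.card F)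
    {M : Subgroup PGL(2, F)} (hM : M ≤ Lsub F) (e : Nonempty (M ≃* Equiv.Perm (Fin 4))) :
    MaxIn M (Lsub F) := by
  have h2 : (2 : F) ≠ 0 := odd_card_iff.mp (hp.odd_of_ne_two (by omega))
  obtain ⟨p, hp'⟩ := CharP.exists F
  have : Fact p.Prime := ⟨CharP.char_is_prime F p⟩
  have hc := card_S4 e
  refine ⟨hM, fun e => ?_, fun H h1 h3 => ?_⟩
  · have := card_Lsub_ge h2 h5
    rw [← e, hc] at this
    omega
  rcases ((notGeo_of_tri h2 (tri_S4 e)).mono h1).dickson p with h | ⟨k, g, -, h⟩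
  · have h4 := Subgroup.card_dvd_of_le h1
    rcases h.2.2 with ⟨e1, -⟩ | ⟨e1, -⟩ | ⟨e1, -⟩
    · rw [e1, hc] at h4; norm_num at h4
    · exact Or.inl (Subgroup.eq_of_le_of_card_ge h1 (by omega)).symm
    · rw [e1, hc] at h4; norm_num at h4
  · rw [eq_top_of_card_prime hp k] at h
    exact Or.inr (eq_Lsub_of_top h3 h)

theorem maxIn_A5 [Finite F] (h2 : (2 : F) ≠ 0) (h7 : 7 ≤ Nat.card F)
    (hsub : ∀ k : Subfield F, k = ⊤ ∨ Nat.card k % 5 = 2 ∨ Nat.card k % 5 = 3)
    {M : Subgroup PGL(2, F)} (hM : M ≤ Lsub F) (e : Nonempty (M ≃* alternatingGroup (Fin 5))) :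
    MaxIn M (Lsub F) := by
  obtain ⟨p, hp'⟩ := CharP.exists F
  have : Fact p.Prime := ⟨CharP.char_is_prime F p⟩
  have hc := card_A5 e
  refine ⟨hM, fun e => ?_, fun H h1 h3 => ?_⟩
  · have := card_Lsub_ge h2 h7
    rw [← e, hc] at this
    omega
  rcases ((notGeo_of_tri h2 (tri_A5 e)).mono h1).dickson p with h | ⟨k, g, -, h⟩
  · have h4 := Subgroup.card_le_of_le h1
    left
    refine (Subgroup.eq_of_le_of_card_ge h1 ?_).symm
    rcases h.2.2 with ⟨e1, -⟩ | ⟨e1, -⟩ | ⟨e1, -⟩ <;> omega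
  · rcases hsub k with rfl | hk
    · exact Or.inr (eq_Lsub_of_top h3 h)
    · exfalso
      have h4 := Subgroup.card_dvd_of_le (h1.trans (le_cj_PG h))
      rw [card_cj, card_PG, hc] at h4
      have := five_dvd_cases (dvd_trans (by norm_num) h4)
      omega

theorem char_dvd_card_PS [Finite F] (p : ℕ) [Fact p.Prime] [CharP F p] (k : Subfield F) :
    p ∣ Nat.card (PS k) := by
  rw [← orderOf_eq_prime (isUnip_pow_char p (isUnip_transl (1 : F))) (fun e => by
    have := transl_fix (K := F) (s := (1 : F)) one_ne_zero (x := (0 : F)) (by rw [e, one_smul])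
    exact coe_ne_infty _ this)]
  exact Subgroup.orderOf_dvd_natCard _ (transl_mem_PS k.one_mem)

theorem Exc.eq_three {p : ℕ} (hp : p.Prime) [Finite F] {H : Subgroup PGL(2, F)} (h : Exc p H)
    (hd : p ∣ Nat.card H) : p = 3 ∧ Nat.card H = 60 := by
  have h2 := hp.two_le
  obtain ⟨-, h3, ⟨e, -, h4⟩ | ⟨e, -, h4⟩ | ⟨e, -, h4, -⟩⟩ := h <;> rw [e] at hd <;>
    have := Nat.le_of_dvd (by norm_num) hd <;> interval_cases p <;> simp_all <;>
    exact absurd hp (by decide)

theorem PS_ne_Lsub {k : Subfield F} (h : k ≠ ⊤) : PS k ≠ Lsub F := fun e =>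
  h (top_le_iff.mp (le_of_PS_le_PG (by rw [PS_top, ← e]; exact PS_le_PG k)))

theorem PG_ne_Lsub {k : Subfield F} (h : k ≠ ⊤) : PG k ≠ Lsub F := fun e =>
  h (top_le_iff.mp (le_of_PS_le_PG (by rw [PS_top, ← e])))

theorem ne_top_of_card [Finite F] {k : Subfield F} {r : ℕ} (hr : 2 ≤ r)
    (h : Nat.card F = Nat.card k ^ r) : k ≠ ⊤ := by
  rintro rfl
  rw [card_subfield_top] at h
  have h1 : 1 < Nat.card F := Finite.one_lt_card
  have := Nat.pow_lt_pow_right h1 (show 1 < r by omega)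
  rw [pow_one] at this
  omega

theorem not_PG_le_Lsub [Finite F] (h2 : (2 : F) ≠ 0) {k : Subfield F} {r : ℕ} (hr : Odd r)
    (h : Nat.card F = Nat.card k ^ r) : ¬ PG k ≤ Lsub F := by
  intro hle
  obtain ⟨a, ha⟩ := FiniteField.exists_nonsquare (ringChar_ne_two (two_ne_zero_subfield h2 k))
  obtain ⟨s, hs⟩ := PG_le_Lsub_iff.mp hle a a.2
  exact ha ⟨⟨s, mem_of_sq_mem_of_odd h2 hr h (hs ▸ a.2)⟩, Subtype.ext hs⟩

theorem card_eq_three_of_le [Finite F] [CharP F 3] {k : Subfield F} (h : Nat.card k < 9) :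
    Nat.card k = 3 := by
  have := Fintype.ofFinite k
  obtain ⟨n, -, hn⟩ := FiniteField.card k 3
  rw [← Nat.card_eq_fintype_card] at hn
  rw [hn] at h ⊢
  have h1 : (n : ℕ) < 2 := (Nat.pow_lt_pow_iff_right (by norm_num)).mp h
  have h2 := n.pos
  rw [show (n : ℕ) = 1 by omega]; rfl

theorem maxIn_PS [Finite F] {k : Subfield F} (hk : 3 ≤ Nat.card k) {r : ℕ} (hr : r.Prime)
    (h : Nat.card F = Nat.card k ^ r) (hodd : (2 : F) = 0 ∨ Odd r) : MaxIn (PS k) (Lsub F) := by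
  obtain ⟨p, hp'⟩ := CharP.exists F
  have : Fact p.Prime := ⟨CharP.char_is_prime F p⟩
  refine ⟨PS_le_Lsub k, PS_ne_Lsub (ne_top_of_card hr.two_le h), fun H h1 h3 => ?_⟩
  rcases ((notGeo_PS hk).mono h1).dickson p with h4 | ⟨k', g, -, h4⟩
  · exfalso
    obtain ⟨rfl, e⟩ := h4.eq_three Fact.out ((char_dvd_card_PS p k).trans (Subgroup.card_dvd_of_le h1))
    have h2 : (2 : F) ≠ 0 := fun e => by
      have := (CharP.cast_eq_zero_iff F 3 2).mp (by simpa using e)
      norm_num at this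
    have h5 := Subgroup.card_le_of_le h1
    have h6 := card_PS h2 k
    have h7 : Nat.card k = 3 := card_eq_three_of_le (by
      by_contra hlt
      have := cube_ge (not_lt.mp hlt)
      omega)
    obtain ⟨m, hm⟩ := hodd.resolve_left h2
    have h8 := five_dvd_of_card e
    rw [h, h7, hm, pow_succ, pow_mul] at h8
    have h9 : (3 ^ 2) ^ m % 5 = 1 ∨ (3 ^ 2) ^ m % 5 = 4 := by
      clear hm h8
      induction m with
      | zero => simp
      | succ m ih => rw [pow_succ]; omega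
    omega
  · rcases eq_or_top_of_prime (le_of_PS_le_cj (h1.trans (le_cj_PG h4))) hr h with rfl | rfl
    · left
      refine (Subgroup.eq_of_le_of_card_ge h1 ?_).symm
      rcases h4 with rfl | rfl
      · rw [card_cj]
      · rcases hodd with h2 | hodd
        · rw [card_cj, PS_eq_PG h2]
        · by_cases h2 : (2 : F) = 0
          · rw [card_cj, PS_eq_PG h2]
          · exfalso
            have := cj_mono g⁻¹ h3
            rw [cj_inv_cj, cj_normal] at this
            exact not_PG_le_Lsub h2 hodd h this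
    · exact Or.inr (eq_Lsub_of_top h3 h4)

theorem three_le_card [Finite F] (h2 : (2 : F) ≠ 0) : 3 ≤ Nat.card F := by
  obtain ⟨m, hm⟩ := odd_card_iff.mpr h2
  have : 1 < Nat.card F := Finite.one_lt_card
  omega

theorem maxIn_PG [Finite F] (h2 : (2 : F) ≠ 0) {k : Subfield F}
    (h : Nat.card F = Nat.card k ^ 2) : MaxIn (PG k) (Lsub F) := by
  obtain ⟨p, hp'⟩ := CharP.exists F
  have : Fact p.Prime := ⟨CharP.char_is_prime F p⟩
  have hk := three_le_card (two_ne_zero_subfield h2 k)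
  refine ⟨PG_le_Lsub_iff.mpr (fun x hx => isSquare_of_card_sq h hx),
    PG_ne_Lsub (ne_top_of_card le_rfl h), fun H h1 h3 => ?_⟩
  have h1' := (PS_le_PG k).trans h1
  rcases ((notGeo_PS hk).mono h1').dickson p with h4 | ⟨k', g, -, h4⟩
  · exfalso
    obtain ⟨rfl, e⟩ := h4.eq_three Fact.out ((char_dvd_card_PS p k).trans (Subgroup.card_dvd_of_le h1'))
    have h5 := Subgroup.card_dvd_of_le h1
    rw [card_PG, e] at h5
    have h7 : Nat.card k = 3 := card_eq_three_of_le (by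
      by_contra hlt
      have := cube_ge (not_lt.mp hlt)
      have := Nat.le_of_dvd (by norm_num) h5
      omega)
    rw [h7] at h5
    norm_num at h5
  · rcases eq_or_top_of_prime (le_of_PS_le_cj (h1'.trans (le_cj_PG h4))) Nat.prime_two h with rfl | rfl
    · left
      refine (Subgroup.eq_of_le_of_card_ge h1 ?_).symm
      exact (Subgroup.card_le_of_le (le_cj_PG h4)).trans (card_cj _ _).le
    · exact Or.inr (eq_Lsub_of_top h3 h4)

end Cfsg.Agent.H3
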