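import Mathlib
import Cfsg.Agent.H3.PglMax

/-! Maximal subgroups of `PSL(2, F)` and `PGL(2, F)`: necessity. -/

set_option autoImplicit false

namespace Cfsg.Agent.H3

open MulAction Matrix OnePoint
open scoped MatrixGroups
open Matrix.ProjGenLinGroup (mk)
open Cfsg.Agent.H8

variable {F : Type*} [Field F]

theorem A4_le_Lsub [Finite F] {M : Subgroup PGL(2, F)} {n : ℕ}
    (e : Nonempty (M ≃* alternatingGroup (Fin n))) : M ≤ Lsub F :=
  le_of_sq_mem_alt e (fun g _ => mul_self_mem_Lsub g)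

theorem A4_le_cj [Finite F] (h2 : (2 : F) ≠ 0) {i j : PGL(2, F)} (hK : KleinPair i j)
    (hi : i ∈ Lsub F) (hj : j ∈ Lsub F) {M : Subgroup PGL(2, F)}
    (e : Nonempty (M ≃* alternatingGroup (Fin 4))) : ∃ g, M ≤ cj g (NV i j) := by
  obtain ⟨i', hi', j', hj', hK', hle⟩ := klein_A4 e
  obtain ⟨g, g1, g2⟩ := klein_conj h2 hK hK' hi hj (A4_le_Lsub e hi') (A4_le_Lsub e hj')
  exact ⟨g, by rwa [cj_NV, g1, g2]⟩

theorem S4_eq_cj [Finite F] (h2 : (2 : F) ≠ 0) {i j : PGL(2, F)} (hK : KleinPair i j)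
    (hi : i ∈ Lsub F) (hj : j ∈ Lsub F) {M : Subgroup PGL(2, F)}
    (e : Nonempty (M ≃* Equiv.Perm (Fin 4))) : ∃ g, M = cj g (NV i j) := by
  obtain ⟨r, -, s, -, hK', hle⟩ := klein_S4 e
  obtain ⟨g, g1, g2⟩ := klein_conj h2 hK hK' hi hj (mul_self_mem_Lsub r) (mul_self_mem_Lsub s)
  refine ⟨g, Subgroup.eq_of_le_of_card_ge (by rwa [cj_NV, g1, g2]) ?_⟩
  rw [card_cj, card_NV h2 hK hi hj, card_S4 e]

theorem mul_self_mem_PS [Finite F] {k : Subfield F} {g : PGL(2, F)} (hg : g ∈ PG k) :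
    g * g ∈ PS k := by
  obtain ⟨a, rfl⟩ := hg
  exact ⟨a * a, mul_self_mem_Lsub a, map_mul _ _ _⟩

theorem A4_le_cj_PS [Finite F] (h2 : (2 : F) ≠ 0) {M : Subgroup PGL(2, F)}
    (e : Nonempty (M ≃* alternatingGroup (Fin 4))) (k : Subfield F) : ∃ g, M ≤ cj g (PS k) := by
  obtain ⟨i, j, hK, hi, hj, h⟩ := exists_std_klein h2
  obtain ⟨g, hg⟩ := A4_le_cj h2 hK hi hj e
  refine ⟨g, le_of_sq_mem_alt e (fun m hm => ?_)⟩
  have := mul_self_mem_PS ((h k).1 (mem_cj.mp (hg hm)))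
  rw [mem_cj]
  convert this using 1
  group

theorem S4_le_cj_PG [Finite F] (h2 : (2 : F) ≠ 0) {M : Subgroup PGL(2, F)}
    (e : Nonempty (M ≃* Equiv.Perm (Fin 4))) (k : Subfield F) : ∃ g, M ≤ cj g (PG k) ∧
      (IsSquare (2 : k) → M ≤ cj g (PS k)) := by
  obtain ⟨i, j, hK, hi, hj, h⟩ := exists_std_klein h2
  obtain ⟨g, rfl⟩ := S4_eq_cj h2 hK hi hj e
  exact ⟨g, cj_mono g (h k).1, fun hs => cj_mono g ((h k).2.1 hs)⟩

theorem A5_le_cj_PS [Finite F] (h2 : (2 : F) ≠ 0) {M : Subgroup PGL(2, F)}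
    (e : Nonempty (M ≃* alternatingGroup (Fin 5)))
    (ho : ∀ g ∈ M, g ^ 2 = 1 ∨ g ^ 3 = 1 ∨ g ^ 5 = 1) {k : Subfield F}
    (hk : ∀ s, s * s = 5 → s ∈ k) : ∃ g, M ≤ cj g (PS k) := by
  obtain ⟨i, j, hK, hi, hj, h⟩ := exists_std_klein h2
  obtain ⟨i', hi', j', hj', hK'⟩ := klein_A5 e
  obtain ⟨g, g1, g2⟩ := klein_conj h2 hK hK' hi hj (A4_le_Lsub e hi') (A4_le_Lsub e hj')
  refine ⟨g, ?_⟩
  have h1 : cj g⁻¹ M ≤ PS k := by
    refine (h k).2.2 _ (mem_cj.mpr (by rwa [inv_inv, g1])) (mem_cj.mpr (by rwa [inv_inv, g2])) ?_ ?_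
    · exact (cj_mono g⁻¹ (A4_le_Lsub e)).trans (cj_normal _).le
    · intro A hA dA
      refine tr_mem_of_small h2 hk dA ?_
      have := ho _ (mem_cj.mp hA)
      simpa only [inv_inv, conj_pow, conj_eq_one_iff] using this
  have := cj_mono g h1
  rwa [cj_cj_inv] at this

theorem exists_A4_norm_A5 {G : Type*} [Group G] {H : Subgroup G}
    (e : Nonempty (H ≃* alternatingGroup (Fin 5))) :
    ∃ i ∈ H, ∃ j ∈ H, KleinPair i j ∧ ∃ w ∈ H, w ∈ NV i j ∧ orderOf w = 3 := by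
  obtain ⟨ψ, h0, h1, -⟩ := exists_hom_of_iso e
  have : Fact (Nat.Prime 3) := ⟨Nat.prime_three⟩
  refine ⟨ψ ⟨Equiv.swap 0 1 * Equiv.swap 2 3, Equiv.Perm.mem_alternatingGroup.mpr (by decide)⟩, h1 _,
    ψ ⟨Equiv.swap 0 2 * Equiv.swap 1 3, Equiv.Perm.mem_alternatingGroup.mpr (by decide)⟩, h1 _,
    KleinPair.map ⟨by decide, by decide, by decide, by decide, by decide, by decide⟩ h0,
    ψ ⟨Equiv.swap 0 1 * Equiv.swap 1 2, Equiv.Perm.mem_alternatingGroup.mpr (by decide)⟩, h1 _,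
    map_mem_NV (by rw [mem_NV]; decide) ψ, ?_⟩
  rw [orderOf_injective ψ h0]
  exact orderOf_eq_prime (by decide) (by decide)

theorem A4_le_cj_A5 [Finite F] (h2 : (2 : F) ≠ 0) {M X : Subgroup PGL(2, F)}
    (e : Nonempty (M ≃* alternatingGroup (Fin 4))) (e' : Nonempty (X ≃* alternatingGroup (Fin 5))) :
    ∃ g, M ≤ cj g X := by
  obtain ⟨i, hi, j, hj, hK, w, hw, hwN, hwo⟩ := exists_A4_norm_A5 e'
  have hiL := A4_le_Lsub e' hi
  have hjL := A4_le_Lsub e' hj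
  obtain ⟨g, hg⟩ := A4_le_cj h2 hK hiL hjL e
  have h1 : 4 ∣ Nat.card (X ⊓ NV i j : Subgroup _) :=
    hK.card_V ▸ Subgroup.card_dvd_of_le (le_inf (hK.V_le hi hj) hK.V_le_NV)
  have h3 : 3 ∣ Nat.card (X ⊓ NV i j : Subgroup _) :=
    hwo ▸ Subgroup.orderOf_dvd_natCard _ ⟨hw, hwN⟩
  have h4 := (X.subgroupOf (NV i j)).card_mul_index
  rw [← Subgroup.inf_subgroupOf_right,
    Nat.card_congr (Subgroup.subgroupOfEquivOfLe inf_le_right).toEquiv, card_NV h2 hK hiL hjL,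
    Subgroup.inf_subgroupOf_right] at h4
  have h5 : (X.subgroupOf (NV i j)).index = 1 ∨ (X.subgroupOf (NV i j)).index = 2 := by
    obtain ⟨c, hc⟩ : 12 ∣ Nat.card (X ⊓ NV i j : Subgroup _) := by omega
    rw [hc] at h4
    have h6 : c * (X.subgroupOf (NV i j)).index = 2 := by nlinarith
    exact (Nat.dvd_prime Nat.prime_two).mp (Dvd.intro_left c h6)
  refine ⟨g, le_of_sq_mem_alt e (fun m hm => ?_)⟩
  have h6 : (⟨_, mem_cj.mp (hg hm)⟩ * ⟨_, mem_cj.mp (hg hm)⟩ : NV i j) ∈ X.subgroupOf (NV i j) := by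
    rcases h5 with h5 | h5
    · rw [Subgroup.index_eq_one.mp h5]; trivial
    · exact Subgroup.mul_self_mem_of_index_two h5 _
  rw [Subgroup.mem_subgroupOf] at h6
  rw [mem_cj]
  convert h6 using 1
  simp [mul_assoc]

theorem cj_inj {G : Type*} [Group G] {g : G} {A B : Subgroup G} (h : cj g A = cj g B) : A = B := by
  rw [← cj_inv_cj g A, h, cj_inv_cj]

theorem cj_le_Lsub {g : PGL(2, F)} {A : Subgroup PGL(2, F)} : cj g A ≤ Lsub F ↔ A ≤ Lsub F := by
  rw [← cj_le_cj_iff (g := g) (H := A) (H' := Lsub F), cj_normal (L := Lsub F)]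

theorem cj_eq_Lsub {g : PGL(2, F)} {A : Subgroup PGL(2, F)} : cj g A = Lsub F ↔ A = Lsub F :=
  ⟨fun h => cj_inj (h.trans (cj_normal g).symm), fun h => by rw [h, cj_normal]⟩

theorem prime_of_max [Finite F] {k : Subfield F} (hk : k ≠ ⊤)
    (h : ∀ k', k ≤ k' → k' ≠ ⊤ → k' ≤ k) : ∃ r, r.Prime ∧ Nat.card F = Nat.card k ^ r := by
  have := Fintype.ofFinite F
  obtain ⟨k', r, hr, hle, e⟩ := exists_prime_index_subfield k hk
  rw [← Nat.card_eq_fintype_card] at e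
  exact ⟨r, hr, by rw [le_antisymm hle (h k' hle (ne_top_of_card hr.two_le e)), e]⟩

theorem coatom_PG [Finite F] (h2 : (2 : F) ≠ 0) {k : Subfield F} {g : PGL(2, F)}
    (hM : IsCoatom (cj g (PG k))) (hML : ¬ Lsub F ≤ cj g (PG k)) :
    ∃ r, r.Prime ∧ Odd r ∧ Nat.card F = Nat.card k ^ r := by
  have hM' := (maxIn_top.mpr hM).conj g⁻¹
  rw [cj_inv_cj, cj_normal] at hM'
  have hne : ∀ k' : Subfield F, k' ≠ ⊤ → PG k' ≠ ⊤ := fun k' hk' e =>
    hk' (top_le_iff.mp (le_of_PS_le_PG (e ▸ le_top)))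
  obtain ⟨r, hr, e⟩ := prime_of_max (k := k) (by rintro rfl; exact hM'.ne PG_top)
    (fun k' h1 h3 => le_of_PS_le_PG
      ((PS_le_PG k').trans (hM'.eq_of_ne (PG_mono h1) le_top (hne k' h3)).ge))
  refine ⟨r, hr, hr.odd_of_ne_two ?_, e⟩
  rintro rfl
  have := hM'.eq_of_ne (maxIn_PG h2 e).le le_top (Lsub_ne_top h2)
  exact (maxIn_PG h2 e).ne this

theorem coatom_cases [Finite F] (h2 : (2 : F) ≠ 0) (h3 : 3 < Nat.card F) {M : Subgroup PGL(2, F)}
    (hM : IsCoatom M) (hML : ¬ Lsub F ≤ M) :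
    (∃ x : OnePoint F, M = stabilizer PGL(2, F) x) ∨
    (Nat.card F ≠ 5 ∧ ∃ x y : OnePoint F, x ≠ y ∧ M = pairStab F x y) ∨
    (∃ (t : AlgebraicClosure F) (a b : F), Irr t a b ∧
      M = pairStab F (t : OnePoint (AlgebraicClosure F)) (algebraMap F _ a - t : AlgebraicClosure F)) ∨
    ((Nat.card F).Prime ∧ ¬ IsSquare (2 : F) ∧ Nonempty (M ≃* Equiv.Perm (Fin 4))) ∨
    ∃ (k : Subfield F) (g : PGL(2, F)) (r : ℕ), r.Prime ∧ Odd r ∧ Nat.card F = Nat.card k ^ r ∧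
      M = cj g (PG k) := by
  obtain ⟨p, hp'⟩ := CharP.exists F
  have : Fact p.Prime := ⟨CharP.char_is_prime F p⟩
  have hM' := maxIn_top.mpr hM
  have hnL : ¬ M ≤ Lsub F := fun h => hML (hM'.eq_of_ne h le_top (Lsub_ne_top h2)).ge
  have hgeo : NotGeo (⊤ : Subgroup PGL(2, F)) := (notGeo_Lsub h3.le).mono le_top
  have hsub : ∀ (k : Subfield F) g, k ≠ ⊤ → M ≤ cj g (PG k) → ∃ (k : Subfield F) (g : PGL(2, F)) (r : ℕ),
      r.Prime ∧ Odd r ∧ Nat.card F = Nat.card k ^ r ∧ M = cj g (PG k) := by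
    intro k g hk hle
    have e := hM'.eq_of_ne hle le_top (fun e => hk (top_le_iff.mp (le_of_PS_le_cj (e ▸ le_top))))
    obtain ⟨r, h⟩ := coatom_PG h2 (e ▸ hM) (e ▸ hML)
    exact ⟨k, g, r, h.1, h.2.1, h.2.2, e⟩
  rcases dickson2 p M with ⟨x, hx⟩ | ⟨x, y, hxy, hx⟩ | ⟨t, a, b, ht, hx⟩ | h | ⟨k, g, hk, h⟩
  · exact Or.inl ⟨x, hM'.eq_of_ne hx le_top (fun e => hgeo.1 x e.ge)⟩
  · have e := hM'.eq_of_ne hx le_top (fun e => hgeo.not_le_split hxy e.ge)
    refine Or.inr (Or.inl ⟨fun h5 => ?_, x, y, hxy, e⟩)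
    obtain ⟨i, j, hK, hi, hj, -⟩ := exists_std_klein h2
    have h8 := (dihedral_pairStab hxy (exists_swap_split hxy) (card_fix2_split hxy)).2
    rw [← e, h5] at h8
    refine hM'.not_pgroup Nat.prime_two (X := NV i j) le_top (IsPGroup.of_card (n := 3) h8) (m := 5)
      ?_ (by norm_num) (by norm_num) ?_
    · rw [Subgroup.card_top, card_PGL, h5, card_NV h2 hK hi hj]; rfl
    · rw [h8, card_NV h2 hK hi hj]; norm_num
  · exact Or.inr (Or.inr (Or.inl ⟨t, a, b, ht, hM'.eq_of_ne hx le_top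
      (fun e => hgeo.2 _ _ (fun e => ht.ne_conj (coe_eq_coe.mp e)) e.ge)⟩))
  · rcases h.2.2 with ⟨-, e, -⟩ | ⟨-, e, -⟩ | ⟨-, e, -⟩
    · exact absurd (A4_le_Lsub e) hnL
    · by_cases hb : (⊥ : Subfield F) = ⊤
      · refine Or.inr (Or.inr (Or.inr (Or.inl ⟨?_, fun hs => hnL (S4_le_Lsub hs e), e⟩)))
        rw [← card_subfield_top, ← hb, Subfield.card_bot F p]
        exact Fact.out
      · obtain ⟨g, hg, -⟩ := S4_le_cj_PG h2 e ⊥
        exact Or.inr (Or.inr (Or.inr (Or.inr (hsub _ g hb hg))))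
    · exact absurd (A4_le_Lsub e) hnL
  · rcases h with h | h
    · exact absurd (h ▸ cj_le_Lsub.mpr (PS_le_Lsub k)) hnL
    · refine Or.inr (Or.inr (Or.inr (Or.inr (hsub k g ?_ h.le))))
      rintro rfl
      rw [PG_top, cj_normal] at h
      exact hM.1 h

theorem maxIn_PS_cases [Finite F] {k : Subfield F} {g : PGL(2, F)}
    (hM : MaxIn (cj g (PS k)) (Lsub F)) :
    ∃ r, r.Prime ∧ ((2 : F) ≠ 0 → Odd r) ∧ Nat.card F = Nat.card k ^ r := by
  have hM' := hM.conj g⁻¹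
  rw [cj_inv_cj, cj_normal] at hM'
  obtain ⟨r, hr, e⟩ := prime_of_max (k := k) (by rintro rfl; exact hM'.ne PS_top)
    (fun k' h1 h3 => le_of_PS_le_PG
      ((hM'.eq_of_ne (PS_mono h1) (PS_le_Lsub k') (PS_ne_Lsub h3)).ge.trans (PS_le_PG k)))
  refine ⟨r, hr, fun h2 => hr.odd_of_ne_two ?_, e⟩
  rintro rfl
  have h1 := hM'.eq_of_ne (PS_le_PG k) (maxIn_PG h2 e).le (maxIn_PG h2 e).ne
  have h3 := card_PS h2 k
  rw [← card_PG, h1] at h3
  have : 0 < Nat.card (PG k) := Nat.card_pos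
  omega

theorem maxIn_PG_cases [Finite F] (h2 : (2 : F) ≠ 0) {k : Subfield F} {g : PGL(2, F)}
    (hM : MaxIn (cj g (PG k)) (Lsub F)) : Nat.card F = Nat.card k ^ 2 := by
  have hM' := hM.conj g⁻¹
  rw [cj_inv_cj, cj_normal] at hM'
  have hk : k ≠ ⊤ := by
    rintro rfl
    exact Lsub_ne_top h2 (top_le_iff.mp (PG_top (F := F) ▸ hM'.le))
  obtain ⟨k₂, hc, hk₂⟩ := exists_quad_subfield h2 k
  have hle : k ≤ k₂ := fun s hs => hk₂ s (k.mul_mem hs hs)
  have h1 : PG k ≤ PS k₂ := PG_le_PS hle (fun x hx => by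
    obtain ⟨s, hs⟩ := PG_le_Lsub_iff.mp hM'.le x hx
    exact ⟨s, hk₂ s (hs ▸ hx), hs⟩)
  by_cases h3 : k₂ = ⊤
  · rw [h3, card_subfield_top] at hc
    exact le_antisymm hc (sq_le_of_ne_top hk)
  · exfalso
    have h4 := hM'.eq_of_ne h1 (PS_le_Lsub _) (PS_ne_Lsub h3)
    have h5 : k₂ = k := le_antisymm (le_of_PS_le_PG h4.ge) hle
    rw [h5] at h4
    have h6 := card_PS h2 k
    rw [← card_PG, h4] at h6
    have : 0 < Nat.card (PS k) := Nat.card_pos
    omega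

theorem card_Lsub_of [Finite F] (h2 : (2 : F) ≠ 0) {q n : ℕ} (h : Nat.card F = q)
    (hn : q * (q ^ 2 - 1) = 2 * n) : Nat.card (Lsub F) = n := by
  have := card_Lsub h2
  rw [h, hn] at this
  omega

theorem not_max_small [Finite F] (h2 : (2 : F) ≠ 0) {M : Subgroup PGL(2, F)}
    (hM : MaxIn M (Lsub F)) (h : (Nat.card F = 5 ∧ Nat.card M = 4) ∨ (Nat.card F = 7 ∧ Nat.card M = 6) ∨
      (Nat.card F = 9 ∧ Nat.card M = 8) ∨ (Nat.card F = 11 ∧ Nat.card M = 10) ∨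
      (Nat.card F = 7 ∧ Nat.card M = 8) ∨ (Nat.card F = 9 ∧ Nat.card M = 10)) : False := by
  obtain ⟨i, j, hK, hi, hj, -⟩ := exists_std_klein h2
  have e := iso_NV h2 hK hi hj
  have c24 := card_S4 e
  rcases h with ⟨hq, h⟩ | ⟨hq, h⟩ | ⟨hq, h⟩ | ⟨hq, h⟩ | ⟨hq, h⟩ | ⟨hq, h⟩
  · have c12 := (A4_of_S4_inf (fun hs => by have := isSquare_two_iff_mod.mp hs; omega) e).1
    exact hM.not_pgroup Nat.prime_two (X := NV i j ⊓ Lsub F) inf_le_right
      (IsPGroup.of_card (n := 2) h) (m := 5) (by rw [c12]; exact card_Lsub_of h2 hq rfl)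
      (by norm_num) (by norm_num) (by omega)
  · exact hM.not_dihedral Nat.prime_three (by norm_num)
      (S4_le_Lsub (isSquare_two_iff_mod.mpr (by omega)) e) h (m := 7)
      (by rw [c24]; exact card_Lsub_of h2 hq rfl) (by norm_num) (by norm_num) (realNN_S4 e)
  · exact hM.not_pgroup Nat.prime_two (S4_le_Lsub (isSquare_two_iff_mod.mpr (by omega)) e)
      (IsPGroup.of_card (n := 3) h) (m := 15) (by rw [c24]; exact card_Lsub_of h2 hq rfl)
      (by norm_num) (by norm_num) (by omega)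
  · obtain ⟨X, hX, c60, e'⟩ := exists_A5 h2 ((isSquare_five_iff_mod h2).mpr (by omega))
    exact hM.not_dihedral Nat.prime_five (by norm_num) hX h (m := 11)
      (by rw [c60]; exact card_Lsub_of h2 hq rfl) (by norm_num) (by norm_num) (realNN_A5 e')
  · exact hM.not_pgroup Nat.prime_two (S4_le_Lsub (isSquare_two_iff_mod.mpr (by omega)) e)
      (IsPGroup.of_card (n := 3) h) (m := 7) (by rw [c24]; exact card_Lsub_of h2 hq rfl)
      (by norm_num) (by norm_num) (by omega)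
  · obtain ⟨X, hX, c60, e'⟩ := exists_A5 h2 ((isSquare_five_iff_mod h2).mpr (by omega))
    exact hM.not_dihedral Nat.prime_five (by norm_num) hX h (m := 6)
      (by rw [c60]; exact card_Lsub_of h2 hq rfl) (by norm_num) (by norm_num) (realNN_A5 e')

theorem maxIn_cases [Finite F] (p : ℕ) [Fact p.Prime] [CharP F p] (h2 : (2 : F) ≠ 0)
    (h5 : 5 ≤ Nat.card F) {M : Subgroup PGL(2, F)} (hM : MaxIn M (Lsub F)) :
    2 * Nat.card M = Nat.card F * (Nat.card F - 1) ∨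
    (13 ≤ Nat.card F ∧ ∃ m, 2 * m = Nat.card F - 1 ∧ Nonempty (M ≃* DihedralGroup m)) ∨
    (Nat.card F ≠ 7 ∧ Nat.card F ≠ 9 ∧ ∃ m, 2 * m = Nat.card F + 1 ∧ Nonempty (M ≃* DihedralGroup m)) ∨
    (∃ (k : Subfield F) (g : PGL(2, F)), Nat.card F = Nat.card k ^ 2 ∧ M = cj g (PG k)) ∨
    (∃ (k : Subfield F) (g : PGL(2, F)) (r : ℕ), r.Prime ∧ Odd r ∧ Nat.card F = Nat.card k ^ r ∧
      M = cj g (PS k)) ∨
    ((Nat.card F % 10 = 1 ∨ Nat.card F % 10 = 9) ∧
      (Nat.card F = p ∨ (Nat.card F = p ^ 2 ∧ (p % 10 = 3 ∨ p % 10 = 7))) ∧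
      Nonempty (M ≃* alternatingGroup (Fin 5))) ∨
    (Nat.card F = p ∧ (p % 8 = 3 ∨ p % 8 = 5) ∧ ¬ (p % 10 = 1 ∨ p % 10 = 9) ∧
      Nonempty (M ≃* alternatingGroup (Fin 4))) ∨
    (Nat.card F = p ∧ (p % 8 = 1 ∨ p % 8 = 7) ∧ Nonempty (M ≃* Equiv.Perm (Fin 4))) := by
  have hpp : p.Prime := Fact.out
  have hgeo : NotGeo (Lsub F) := notGeo_Lsub (by omega)
  have hodd : Nat.card F % 2 = 1 := Nat.odd_iff.mp (odd_card_iff.mpr h2)
  have hb := Subfield.card_bot F p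
  have hpodd : p % 2 = 1 := hb ▸ Nat.odd_iff.mp (odd_card_iff.mpr (two_ne_zero_subfield h2 ⊥))
  have hbt : (⊥ : Subfield F) = ⊤ → Nat.card F = p := fun e => by rw [← card_subfield_top, ← e, hb]
  have hPS : ∀ (k : Subfield F) g, k ≠ ⊤ → M ≤ cj g (PS k) → ∃ (k : Subfield F) (g : PGL(2, F)) (r : ℕ),
      r.Prime ∧ Odd r ∧ Nat.card F = Nat.card k ^ r ∧ M = cj g (PS k) := by
    intro k g hk hle
    have e := hM.eq_of_ne hle (cj_le_Lsub.mpr (PS_le_Lsub k)) (fun e => PS_ne_Lsub hk (cj_eq_Lsub.mp e))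
    obtain ⟨r, h⟩ := maxIn_PS_cases (e ▸ hM)
    exact ⟨k, g, r, h.1, h.2.1 h2, h.2.2, e⟩
  rcases dickson2 p M with ⟨x, hx⟩ | ⟨x, y, hxy, hx⟩ | ⟨t, a, b, ht, hx⟩ | h | ⟨k, g, hk, h⟩
  · left
    rw [hM.eq_of_ne (le_inf hx hM.le) inf_le_right (fun e => hgeo.1 x (e.ge.trans inf_le_left))]
    exact card_stabilizer_Lsub h2 x
  · right; left
    have e := hM.eq_of_ne (le_inf hx hM.le) inf_le_right
      (fun e => hgeo.not_le_split hxy (e.ge.trans inf_le_left))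
    obtain ⟨m, h1, -, h3, h4⟩ := dihedral_pairStab_Lsub hxy (exists_swap_split hxy)
      (not_fix2_split_le h2 hxy) (card_fix2_split hxy)
    rw [← e] at h3 h4
    refine ⟨?_, m, h1, h3⟩
    by_contra hlt
    exact not_max_small h2 hM (by omega)
  · right; right; left
    have hxy : (t : OnePoint (AlgebraicClosure F)) ≠ (algebraMap F _ a - t : AlgebraicClosure F) :=
      fun e => ht.ne_conj (coe_eq_coe.mp e)
    have e := hM.eq_of_ne (le_inf hx hM.le) inf_le_right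
      (fun e => hgeo.2 _ _ hxy (e.ge.trans inf_le_left))
    obtain ⟨m, h1, -, h3, h4⟩ := dihedral_pairStab_Lsub hxy (exists_swap_irr t a)
      (not_fix2_irr_le h2 ht) (card_fix2_irr ht)
    rw [← e] at h3 h4
    exact ⟨fun h => not_max_small h2 hM (by omega), fun h => not_max_small h2 hM (by omega), m, h1, h3⟩
  · right; right; right
    rcases h.2.2 with ⟨c, e, hp3⟩ | ⟨c, e, hp3⟩ | ⟨c, e, hp5, ho⟩
    · by_cases hb' : (⊥ : Subfield F) = ⊤
      · have hq := hbt hb'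
        refine Or.inr (Or.inr (Or.inr (Or.inl ⟨hq, ?_, fun h10 => ?_, e⟩)))
        · by_contra hcon
          obtain ⟨i, j, hK, hi, hj, -⟩ := exists_std_klein h2
          obtain ⟨g, hg⟩ := A4_le_cj h2 hK hi hj e
          have h6 := S4_le_Lsub (isSquare_two_iff_mod.mpr (by omega)) (iso_NV h2 hK hi hj)
          have h7 := card_NV h2 hK hi hj
          have h8 := card_Lsub_ge h2 h5
          rcases hM.max _ hg (cj_le_Lsub.mpr h6) with e | e <;> rw [← card_cj g, e] at h7 <;> omega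
        · obtain ⟨X, hX, c60, e'⟩ := exists_A5 h2 ((isSquare_five_iff_mod h2).mpr (by omega))
          obtain ⟨g, hg⟩ := A4_le_cj_A5 h2 e e'
          have h8 := card_Lsub_ge h2 (show 7 ≤ Nat.card F by omega)
          rcases hM.max _ hg (cj_le_Lsub.mpr hX) with e | e <;> rw [← card_cj g, e] at c60 <;> omega
      · obtain ⟨g, hg⟩ := A4_le_cj_PS h2 e ⊥
        exact Or.inr (Or.inl (hPS _ g hb' hg))
    · have hs := isSquare_two_iff_mod.mp (isSquare_two_of_S4_le e hM.le)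
      by_cases hb' : (⊥ : Subfield F) = ⊤
      · have hq := hbt hb'
        exact Or.inr (Or.inr (Or.inr (Or.inr ⟨hq, by omega, e⟩)))
      · obtain ⟨g, hg, hg'⟩ := S4_le_cj_PG h2 e ⊥
        by_cases hs' : IsSquare (2 : (⊥ : Subfield F))
        · exact Or.inr (Or.inl (hPS _ g hb' (hg' hs')))
        · left
          have hle : PG (⊥ : Subfield F) ≤ Lsub F := by
            rw [PG_le_Lsub_iff]
            intro x hx
            by_cases hx' : IsSquare (⟨x, hx⟩ : (⊥ : Subfield F))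
            · exact hx'.map (Subfield.subtype _)
            · obtain ⟨u, hu⟩ := (isSquare_mul_of_not hx' hs').map (Subfield.subtype _)
              obtain ⟨s, hs⟩ := isSquare_two_of_S4_le e hM.le
              rw [map_mul, map_ofNat, hs] at hu
              have hs0 : s ≠ 0 := by rintro rfl; exact h2 (by simpa using hs)
              refine ⟨u / s, ?_⟩
              field_simp
              simpa [pow_two] using hu
          have e1 := hM.eq_of_ne hg (cj_le_Lsub.mpr hle) (fun e => PG_ne_Lsub hb' (cj_eq_Lsub.mp e))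
          exact ⟨⊥, g, maxIn_PG_cases h2 (e1 ▸ hM), e1⟩
    · have h6 := five_dvd_of_card c
      have h7 : Nat.card F % 5 ≠ 0 := fun h0 => by
        have := Fintype.ofFinite F
        obtain ⟨n, -, hn⟩ := FiniteField.card F p
        rw [Nat.card_eq_fintype_card, hn] at h0
        exact hp5 ((Nat.prime_dvd_prime_iff_eq Nat.prime_five hpp).mp
          (Nat.prime_five.dvd_of_dvd_pow (Nat.dvd_of_mod_eq_zero h0))).symm
      have h8 : Nat.card F % 10 = 1 ∨ Nat.card F % 10 = 9 := by omega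
      by_cases hs : IsSquare (5 : (⊥ : Subfield F))
      · by_cases hb' : (⊥ : Subfield F) = ⊤
        · exact Or.inr (Or.inr (Or.inl ⟨h8, Or.inl (hbt hb'), e⟩))
        · obtain ⟨g, hg⟩ := A5_le_cj_PS h2 e ho (k := ⊥) (fun s hs' => by
            obtain ⟨u, hu⟩ := hs
            have := congrArg (Subfield.subtype _) hu
            rw [map_ofNat, map_mul, ← hs'] at this
            rcases mul_self_eq_mul_self_iff.mp this with e | e <;> rw [e]
            exacts [u.2, Subfield.neg_mem _ u.2])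
          exact Or.inr (Or.inl (hPS _ g hb' hg))
      · obtain ⟨k₂, hc, hk₂⟩ := exists_quad_subfield h2 ⊥
        rw [isSquare_five_iff_mod (two_ne_zero_subfield h2 ⊥), hb] at hs
        by_cases hb' : k₂ = ⊤
        · refine Or.inr (Or.inr (Or.inl ⟨h8, Or.inr ⟨?_, by omega⟩, e⟩))
          rw [hb', card_subfield_top] at hc
          rw [← hb]
          refine le_antisymm hc (sq_le_of_ne_top (fun e => ?_))
          have := hbt e
          omega
        · obtain ⟨g, hg⟩ := A5_le_cj_PS h2 e ho (k := k₂) (fun s hs' => hk₂ s (hs' ▸ ofNat_mem _ 5))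
          exact Or.inr (Or.inl (hPS _ g hb' hg))
  · right; right; right
    rcases h with h | h
    · refine Or.inr (Or.inl (hPS k g ?_ h.le))
      rintro rfl
      exact hM.ne (eq_Lsub_of_top hM.le (Or.inl h))
    · exact Or.inl ⟨k, g, maxIn_PG_cases h2 (h ▸ hM), h⟩

theorem exists_small_PG [Finite F] (k : Subfield F) (g : PGL(2, F)) :
    ∃ (F₀ : Type) (_ : Field F₀) (_ : Fintype F₀), Fintype.card F₀ = Nat.card k ∧
      Nonempty (cj g (PG k) ≃* PGL(2, F₀)) ∧ Nonempty (cj g (PS k) ≃* PSL(2, F₀)) := by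
  obtain ⟨F₀, _, _, h, ⟨e⟩⟩ := exists_small_field k
  exact ⟨F₀, _, _, h, ⟨(cjEquiv g _).symm.trans ((pgEquiv k).symm.trans (pglCongr e).symm)⟩,
    ⟨(cjEquiv g _).symm.trans ((psEquiv k).symm.trans (pslCongr e).symm)⟩⟩

end Cfsg.Agent.H3
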