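import Cfsg.Agent.H3.Central
import Cfsg.Agent.H3.Generous

set_option autoImplicit false

/-! Normal subgroups of multiply primitive and multiply transitive groups. -/

namespace Cfsg.Agent.H3

open MulAction Function
open scoped Pointwise

universe u v

section
variable {G X : Type*} [Group G] [MulAction G X]

theorem conj_smul_of_fix {g n : G} {a : X} (hg : g • a = a) :
    g • n • a = (g * n * g⁻¹) • a := by
  rw [mul_smul, mul_smul, inv_smul_eq_iff.2 hg.symm]

theorem two_prim_regular [Finite X] (hX : 2 ≤ Nat.card X) (h2 : IsMultiplyPreprimitive G X 2)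
    (N : Subgroup G) [hN : N.Normal] (htrans : IsPretransitive N X)
    (hreg : ∀ x : X, stabilizer N x = ⊥) :
    Nat.card X = 3 ∨ (IsMulCommutative N ∧ (∀ n ∈ N, n ^ 2 = 1) ∧ ∃ m : ℕ, Nat.card X = 2 ^ m) := by
  obtain ⟨a⟩ : Nonempty X := by
    rw [← Finite.card_pos_iff]; omega
  have hinj : ∀ n ∈ N, ∀ m ∈ N, n • a = m • a → n = m := fun n hn m hm h =>
    congrArg Subtype.val ((bijective_smul_of_regular htrans (hreg a)).1 (a₁ := ⟨n, hn⟩)
      (a₂ := ⟨m, hm⟩) h)
  by_cases hsq : ∀ n ∈ N, n ^ 2 = 1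
  · right
    have hinv : ∀ n ∈ N, n⁻¹ = n := fun n hn => by
      rw [inv_eq_iff_mul_eq_one, ← pow_two, hsq n hn]
    refine ⟨⟨⟨fun x y => Subtype.ext ?_⟩⟩, hsq, ?_⟩
    · change (x : G) * y = y * x
      rw [← hinv _ (N.mul_mem x.2 y.2), mul_inv_rev, hinv _ x.2, hinv _ y.2]
    · have : Fact (Nat.Prime 2) := ⟨Nat.prime_two⟩
      have hc := card_eq_of_regular htrans (hreg a)
      have : Finite N := Nat.finite_of_card_ne_zero (by omega)
      have hp : IsPGroup 2 N := fun x => ⟨1, Subtype.ext (by simpa using hsq x x.2)⟩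
      rw [← hc]
      exact IsPGroup.iff_card.1 hp
  · left
    push Not at hsq
    obtain ⟨n, hn, hn2⟩ := hsq
    have hn1 : n ≠ 1 := by rintro rfl; simp at hn2
    have hne : n ≠ n⁻¹ := fun h => hn2 (by rw [pow_two]; nth_rewrite 1 [h]; simp)
    have hna : n • a ≠ a := fun h => hn1 (hinj n hn 1 N.one_mem (by simpa using h))
    have hna' : n⁻¹ • a ≠ a := fun h => hna (by rw [inv_smul_eq_iff] at h; exact h.symm)
    have hnn : n • a ≠ n⁻¹ • a := fun h => hne (hinj n hn _ (N.inv_mem hn) h)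
    have hp := h2.isPreprimitive_ofFixingSubgroup (s := {a}) (by simp; norm_num)
    have hall := prim_fixing_block hp (B := {n • a, n⁻¹ • a}) (by
      intro g hg x hx hgx y hy
      have hga : g • a = a := hg a rfl
      have h1 : g * n * g⁻¹ = n ∨ g * n * g⁻¹ = n⁻¹ := by
        have e : g * n⁻¹ * g⁻¹ = (g * n * g⁻¹)⁻¹ := by group
        rcases hx with rfl | rfl <;> rw [conj_smul_of_fix hga] at hgx <;> rcases hgx with h | h
        · exact Or.inl (hinj _ (hN.conj_mem n hn g) _ hn h)
        · exact Or.inr (hinj _ (hN.conj_mem n hn g) _ (N.inv_mem hn) h)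
        · have := hinj _ (hN.conj_mem _ (N.inv_mem hn) g) _ hn h
          rw [e, inv_eq_iff_eq_inv] at this
          exact Or.inr this
        · have := hinj _ (hN.conj_mem _ (N.inv_mem hn) g) _ (N.inv_mem hn) h
          rw [e, inv_inj] at this
          exact Or.inl this
      have e : g * n⁻¹ * g⁻¹ = (g * n * g⁻¹)⁻¹ := by group
      rcases hy with rfl | rfl <;> rw [conj_smul_of_fix hga] <;> rcases h1 with h | h
      · rw [h]; simp
      · rw [h]; simp
      · rw [e, h]; simp
      · rw [e, h]; simp) (a := n • a) (b := n⁻¹ • a) (by simp) (by simp) hna hna' hnn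
    have : (Set.univ : Set X) = {a, n • a, n⁻¹ • a} := by
      symm
      rw [Set.eq_univ_iff_forall]
      intro x
      by_cases hx : x = a
      · exact Or.inl hx
      · exact Or.inr (hall x hx)
    rw [← Set.ncard_univ, this, Set.ncard_eq_three]
    exact ⟨_, _, _, hna.symm, hna'.symm, hnn, rfl⟩

theorem exists_notMem_of_ncard_lt [Finite X] {s : Set X} (h : s.ncard < Nat.card X) :
    ∃ x, x ∉ s := by
  by_contra hcon
  push Not at hcon
  rw [Set.eq_univ_of_forall hcon, Set.ncard_univ] at h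
  exact lt_irrefl _ h

theorem three_prim_regular [Finite X] (hX : 3 ≤ Nat.card X) (h3 : IsMultiplyPreprimitive G X 3)
    (N : Subgroup G) [hN : N.Normal] (htrans : IsPretransitive N X)
    (hreg : ∀ x : X, stabilizer N x = ⊥) : Nat.card X = 3 ∨ Nat.card X = 4 := by
  have h2 : IsMultiplyPreprimitive G X 2 := isMultiplyPreprimitive_of_le G X h3 (by norm_num)
    (by rw [ENat.card_eq_coe_natCard]; exact_mod_cast hX)
  rcases two_prim_regular (by omega) h2 N htrans hreg with h | ⟨hc, hsq, -⟩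
  · exact Or.inl h
  right
  obtain ⟨a⟩ : Nonempty X := by
    rw [← Finite.card_pos_iff]; omega
  have hinj : ∀ n ∈ N, ∀ m ∈ N, n • a = m • a → n = m := fun n hn m hm h =>
    congrArg Subtype.val ((bijective_smul_of_regular htrans (hreg a)).1 (a₁ := ⟨n, hn⟩)
      (a₂ := ⟨m, hm⟩) h)
  have hcomm : ∀ x ∈ N, ∀ y ∈ N, x * y = y * x := fun x hx y hy =>
    congrArg Subtype.val (hc.is_comm.comm (⟨x, hx⟩ : N) ⟨y, hy⟩)
  obtain ⟨b, hb⟩ := exists_notMem_of_ncard_lt (s := {a}) (by rw [Set.ncard_singleton]; omega)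
  obtain ⟨c, hc'⟩ := exists_notMem_of_ncard_lt (s := {a, b})
    (lt_of_le_of_lt (Set.ncard_insert_le _ _) (by rw [Set.ncard_singleton]; omega))
  obtain ⟨⟨n, hn⟩, hnb⟩ := htrans.exists_smul_eq a b
  have hnb : n • a = b := hnb
  simp only [Set.mem_singleton_iff, Set.mem_insert_iff, not_or] at hb hc'
  have hnn : ∀ x : X, n • n • x = x := fun x => by rw [← mul_smul, ← pow_two, hsq n hn, one_smul]
  have hn1 : n ≠ 1 := by rintro rfl; exact hb (by simpa using hnb.symm)
  have hnc : n • c ≠ c := fun h => hn1 (stabilizer_eq_bot_iff.1 (hreg c) n hn h)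
  have hnca : n • c ≠ a := fun h => hc'.2 (by rw [← hnn c, h, hnb])
  have hncb : n • c ≠ b := fun h => hc'.1 (by rw [← hnb] at h; exact smul_left_cancel _ h)
  have hp := h3.isPreprimitive_ofFixingSubgroup (s := {a, b}) (by
    rw [Set.encard_pair (Ne.symm hb)]; norm_num)
  have hall := prim_fixing_block hp (B := {c, n • c}) (by
    intro g hg x hx hgx y hy
    have hga : g • a = a := hg a (by simp)
    have hgb : g • b = b := hg b (by simp)
    have hgn : g * n * g⁻¹ = n := hinj _ (hN.conj_mem n hn g) _ hn (by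
      rw [← conj_smul_of_fix hga, hnb, hgb])
    have hgn' : ∀ x : X, g • n • x = n • g • x := fun x => by
      rw [← mul_smul, ← mul_smul]; congr 1
      rw [← mul_inv_eq_iff_eq_mul, hgn]
    have hB : ∀ x : X, x ∈ ({c, n • c} : Set X) → n • x ∈ ({c, n • c} : Set X) := by
      rintro x (rfl | rfl)
      · simp
      · simp [hnn]
    have : y = x ∨ y = n • x := by
      rcases hx with rfl | rfl <;> rcases hy with rfl | rfl <;> simp [hnn]
    rcases this with rfl | rfl
    · exact hgx
    · rw [hgn']; exact hB _ hgx) (a := c) (b := n • c) (by simp) (by simp)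
      (by simp [hc'.1, hc'.2]) (by simp [hnca, hncb]) hnc.symm
  have : (Set.univ : Set X) = {a, b, c, n • c} := by
    symm
    rw [Set.eq_univ_iff_forall]
    intro x
    by_cases hx : x ∈ ({a, b} : Set X)
    · rcases hx with h | h
      · exact Or.inl h
      · exact Or.inr (Or.inl h)
    · exact Or.inr (Or.inr (hall x hx))
  rw [← Set.ncard_univ, this, Set.ncard_insert_of_notMem, Set.ncard_insert_of_notMem,
    Set.ncard_pair hnc.symm]
  · simp [Ne.symm hc'.2, hncb.symm]
  · simp [Ne.symm hc'.1, hnca.symm, Ne.symm hb]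

theorem stabilizer_bot_of_conj {H : Subgroup G} [hH : H.Normal] [IsPretransitive G X] {a : X}
    (h : stabilizer H a = ⊥) (b : X) : stabilizer H b = ⊥ := by
  rw [stabilizer_eq_bot_iff] at h ⊢
  obtain ⟨g, rfl⟩ := exists_smul_eq G a b
  intro n hn hnb
  have := h (g⁻¹ * n * g) (hH.conj_mem' n hn g) (by rw [mul_smul, mul_smul, hnb, inv_smul_smul])
  rw [mul_assoc, inv_mul_eq_one] at this
  exact (mul_eq_right.1 this.symm)

theorem ktrans_succ_of_stabilizer {H : Subgroup G} (ht : IsPretransitive H X) (a : X) {k : ℕ}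
    (h : IsMultiplyPretransitive (H.subgroupOf (stabilizer G a)) (SubMulAction.ofStabilizer G a) k) :
    IsMultiplyPretransitive H X (k + 1) := by
  rw [add_comm]
  refine ktrans_add (is_one_pretransitive_iff.2 ht) {a} (by simp) ?_
  intro x y hx hy hxa hya
  simp only [Finset.mem_singleton] at hxa hya
  obtain ⟨g, hg⟩ := ktrans_iff.1 h (fun i => ⟨x i, hxa i⟩) (fun i => ⟨y i, hya i⟩)
    (fun i j h => hx (congrArg Subtype.val h)) (fun i j h => hy (congrArg Subtype.val h))
  refine ⟨⟨g.1.1, g.2⟩, fun b hb => ?_, fun i => congrArg Subtype.val (hg i)⟩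
  rw [Finset.mem_singleton.1 hb]
  exact g.1.2

theorem faithful_ofStabilizer (hf : ∀ g : G, (∀ x : X, g • x = x) → g = 1) (a : X) :
    ∀ g : stabilizer G a, (∀ x : SubMulAction.ofStabilizer G a, g • x = x) → g = 1 := by
  intro g hg
  apply Subtype.ext
  apply hf
  intro x
  by_cases hx : x = a
  · rw [hx]; exact g.2
  · exact congrArg Subtype.val (hg ⟨x, hx⟩)

end

theorem kprim_normal (k : ℕ) : ∀ {G : Type u} {α : Type v} [Group G] [MulAction G α] [Finite α],
    1 ≤ k → k ≤ Nat.card α → (∀ g : G, (∀ x : α, g • x = x) → g = 1) →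
    IsMultiplyPreprimitive G α k → ¬ IsMultiplyPretransitive G α (Nat.card α - 1) →
    ∀ (H : Subgroup G) [H.Normal], (∃ a : α, stabilizer H a ≠ ⊥) →
      IsMultiplyPretransitive H α k := by
  induction k with
  | zero => intro G α _ _ _ h; omega
  | succ k ih =>
  intro G α _ _ _ _ hkn hf hG hnt H hH ⟨a, ha⟩
  classical
  have hcard : ((k + 1 : ℕ) : ℕ∞) ≤ ENat.card α := by
    rw [ENat.card_eq_coe_natCard]; exact_mod_cast hkn
  have hprim : IsPreprimitive G α := (is_one_preprimitive_iff G α).1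
    (isMultiplyPreprimitive_of_le G α hG (by omega) hcard)
  obtain ⟨n0, hn0, hn0a, hn01⟩ : ∃ n ∈ H, n • a = a ∧ n ≠ 1 := by
    by_contra hcon
    push Not at hcon
    exact ha (stabilizer_eq_bot_iff.2 hcon)
  obtain ⟨b0, hb0⟩ : ∃ b : α, n0 • b ≠ b := by
    by_contra hcon
    push Not at hcon
    exact hn01 (hf _ hcon)
  have hHt : IsPretransitive H α := normal_trans hprim H hn0 hb0
  rcases Nat.eq_zero_or_pos k with rfl | hk
  · exact is_one_pretransitive_iff.2 hHt
  apply ktrans_succ_of_stabilizer hHt a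
  have hcard' := SubMulAction.nat_card_ofStabilizer_add_one_eq G a
  have hG' : IsMultiplyPreprimitive (stabilizer G a) (SubMulAction.ofStabilizer G a) k :=
    isMultiplyPreprimitive_ofStabilizer G α
  have hGk : IsMultiplyPretransitive G α (k + 1) := hG.isMultiplyPretransitive
  have hlt : k + 2 < Nat.card α := by
    by_contra hcon
    exact hnt (isMultiplyPretransitive_of_le (n := k + 1) (by omega) hkn)
  set H' := H.subgroupOf (stabilizer G a) with hH'
  by_cases hnr : ∃ b : SubMulAction.ofStabilizer G a, stabilizer H' b ≠ ⊥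
  · refine ih hk (by omega) (faithful_ofStabilizer hf a) hG' (fun h => hnt ?_) H' hnr
    have := (SubMulAction.ofStabilizer.isMultiplyPretransitive (G := G) (a := a)).2 h
    have e : (Nat.card (SubMulAction.ofStabilizer G a) - 1).succ = Nat.card α - 1 := by
      rw [Nat.succ_eq_add_one]; omega
    rwa [e] at this
  push Not at hnr
  have hb0a : b0 ≠ a := fun h => hb0 (by rw [h, hn0a])
  have hprim' : IsPreprimitive (stabilizer G a) (SubMulAction.ofStabilizer G a) :=
    (is_one_preprimitive_iff _ _).1 (isMultiplyPreprimitive_of_le _ _ hG' hk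
      (by rw [ENat.card_eq_coe_natCard]; exact_mod_cast (by omega)))
  have hH't : IsPretransitive H' (SubMulAction.ofStabilizer G a) :=
    normal_trans hprim' H' (n := ⟨n0, hn0a⟩) hn0 (a := ⟨b0, hb0a⟩)
      (fun h => hb0 (congrArg Subtype.val h))
  rcases Nat.lt_or_ge k 2 with hk2 | hk2
  · obtain rfl : k = 1 := by omega
    exact is_one_pretransitive_iff.2 hH't
  exfalso
  have hG2 : IsMultiplyPreprimitive (stabilizer G a) (SubMulAction.ofStabilizer G a) 2 :=
    isMultiplyPreprimitive_of_le _ _ hG' hk2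
      (by rw [ENat.card_eq_coe_natCard]; exact_mod_cast (by omega))
  rcases two_prim_regular (by omega) hG2 H' hH't hnr with h | ⟨-, hsq, -⟩
  · omega
  have hsq' : ∀ x : α, ∀ h ∈ H, h • x = x → h * h = 1 := by
    intro x h hh hx
    obtain ⟨g, rfl⟩ := exists_smul_eq G a x
    have h1 : (g⁻¹ * h * g) • a = a := by rw [mul_smul, mul_smul, hx, inv_smul_smul]
    have h2 := congrArg Subtype.val (hsq ⟨g⁻¹ * h * g, h1⟩ (hH.conj_mem' h hh g))
    have h3 : g⁻¹ * (h * h) * g = 1 := by
      rw [← show (g⁻¹ * h * g) ^ 2 = g⁻¹ * (h * h) * g by rw [pow_two]; group]; exact h2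
    rw [mul_assoc, inv_mul_eq_one] at h3
    exact mul_eq_right.1 h3.symm
  have hH2 : IsMultiplyPretransitive H α 2 :=
    ktrans_succ_of_stabilizer hHt a (is_one_pretransitive_iff.2 hH't)
  rw [is_two_pretransitive_iff] at hH2
  have hsharp : ∀ x y : α, x ≠ y → ∀ h ∈ H, h • x = x → h • y = y → h = 1 := by
    intro x y hxy h hh hx hy
    obtain ⟨g, rfl⟩ := exists_smul_eq G a x
    have h1 : (g⁻¹ * h * g) • a = a := by rw [mul_smul, mul_smul, hx, inv_smul_smul]
    have h2 : g⁻¹ • y ≠ a := fun h => hxy (by rw [← h, smul_inv_smul])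
    have h3 := stabilizer_eq_bot_iff.1 (hnr ⟨g⁻¹ • y, h2⟩) ⟨g⁻¹ * h * g, h1⟩
      (hH.conj_mem' h hh g) (Subtype.ext (by
        change (g⁻¹ * h * g) • g⁻¹ • y = g⁻¹ • y
        rw [mul_smul, mul_smul, smul_inv_smul, hy]))
    have h4 : g⁻¹ * h * g = 1 := congrArg Subtype.val h3
    rw [mul_assoc, inv_mul_eq_one] at h4
    exact mul_eq_right.1 h4.symm
  obtain ⟨c, hc⟩ := exists_notMem_of_ncard_lt (s := {a, b0})
    (lt_of_le_of_lt (Set.ncard_insert_le _ _) (by rw [Set.ncard_singleton]; omega))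
  obtain ⟨d, hd⟩ := exists_notMem_of_ncard_lt (s := {a, b0, c})
    (lt_of_le_of_lt (Set.ncard_insert_le _ _) (by
      have := Set.ncard_insert_le b0 ({c} : Set α)
      rw [Set.ncard_singleton] at this; omega))
  simp only [Set.mem_singleton_iff, Set.mem_insert_iff, not_or] at hc hd
  obtain ⟨⟨t, ht⟩, hta, htb⟩ := hH2 (a := a) (b := b0) (c := a) (d := c) hb0a.symm (Ne.symm hc.1)
  obtain ⟨⟨t', ht'⟩, htd', htb'⟩ := hH2 (a := d) (b := b0) (c := d) (d := c) hd.2.1 hd.2.2
  change t • a = a at hta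
  change t • b0 = c at htb
  change t' • d = d at htd'
  change t' • b0 = c at htb'
  have htc : t • c = b0 := by rw [← htb, ← mul_smul, hsq' a t ht hta, one_smul]
  have htc' : t' • c = b0 := by rw [← htb', ← mul_smul, hsq' d t' ht' htd', one_smul]
  have h1 := hsharp b0 c (Ne.symm hc.2) (t⁻¹ * t') (H.mul_mem (H.inv_mem ht) ht')
    (by rw [mul_smul, htb', ← htb, inv_smul_smul]) (by rw [mul_smul, htc', ← htc, inv_smul_smul])
  rw [inv_mul_eq_one] at h1
  subst h1
  have h2 := hsharp a d (Ne.symm hd.1) t ht hta htd'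
  subst h2
  exact hc.2 (by simpa using htb.symm)

end Cfsg.Agent.H3
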